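import Cfsg.Agent.Lib.Fischer.Polar.Translations
import Cfsg.Agent.Lib.SpMult.Geometry
import Cfsg.Agent.Lib.Linear.SympInvolution
import Cfsg.Agent.S0440

/-!
# Lines with three points: the symplectic groups over the field with two elements

The non-commuting indicators of the members and zero form a space on which the group acts as the group
generated by the symplectic transvections.
-/

set_option autoImplicit false
set_option linter.style.haveILetI false

namespace Cfsg.Lib.Fischer.Polar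

open Cfsg Cfsg.Lib.Fischer Module

open scoped Classical in
/-- The indicator of not commuting. -/
noncomputable def ind {G : Type*} [Group G] (a d : G) : ZMod 2 := if Commute a d then 0 else 1

variable {G : Type*} [Group G] {D : Set G} {x e : G}

/-- Orthogonal non-zero vectors of a symplectic plane over two elements are equal. -/
theorem plane_orth : ∀ u v : Fin 1 ⊕ Fin 1 → ZMod 2, u ≠ 0 → v ≠ 0 →
    Cfsg.sympForm 1 (ZMod 2) u v = 0 → u = v := by
  intro u v hu hv h
  have key : ∀ p q r s : ZMod 2, (p = 0 ∧ q = 0) ∨ (r = 0 ∧ s = 0) ∨ q * r - p * s ≠ 0 ∨ (p = r ∧ q = s) := by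
    decide
  have hz : ∀ w : Fin 1 ⊕ Fin 1 → ZMod 2, w (.inl 0) = 0 → w (.inr 0) = 0 → w = 0 := fun w h1 h2 => by
    ext (i | i) <;> fin_cases i <;> assumption
  rcases key (u (.inl 0)) (u (.inr 0)) (v (.inl 0)) (v (.inr 0)) with h' | h' | h' | h'
  · exact absurd (hz u h'.1 h'.2) hu
  · exact absurd (hz v h'.1 h'.2) hv
  · refine absurd ?_ h'
    rw [← h, Cfsg.sympForm, dotProduct, Fintype.sum_sum_type]
    simp [Matrix.mulVec, dotProduct, Matrix.J, Fintype.sum_sum_type, sub_eq_add_neg, add_comm]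
  · ext (i | i) <;> fin_cases i
    exacts [h'.1, h'.2]

theorem ind_of_commute {a d : G} (h : Commute a d) : ind a d = 0 := if_pos h

theorem ind_of_not {a d : G} (h : ¬ Commute a d) : ind a d = 1 := if_neg h

theorem ind_zero_iff {a d : G} : ind a d = 0 ↔ Commute a d := by
  refine ⟨fun h => by_contra fun hn => ?_, ind_of_commute⟩
  rw [ind_of_not hn] at h
  exact one_ne_zero h

theorem ind_comm (a d : G) : ind a d = ind d a := by
  by_cases h : Commute a d
  · rw [ind_of_commute h, ind_of_commute h.symm]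
  · rw [ind_of_not h, ind_of_not fun h' => h h'.symm]

theorem ind_conj (g a d : G) : ind (g * a * g⁻¹) (g * d * g⁻¹) = ind a d := by
  by_cases h : Commute a d
  · rw [ind_of_commute h, ind_of_commute ((Commute.conj_iff g).2 h)]
  · rw [ind_of_not h, ind_of_not fun h' => h ((Commute.conj_iff g).1 h')]

variable [Finite G] (hP : IsPolar D)
  (h2 : ∀ x ∈ D, ∀ y ∈ perp D x, (cls D x y).ncard = 2)

include hP h2

omit hP in
theorem cls_pair {y w : G} (hx : x ∈ D) (hy : y ∈ perp D x) (hw : w ∈ cls D x y) (hne : y ≠ w) :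
    cls D x y = {y, w} := by
  refine (Set.eq_of_subset_of_ncard_le ?_ ?_ (Set.toFinite _)).symm
  · rintro z (rfl | rfl)
    exacts [self_mem_cls hy, hw]
  · rw [h2 x hx y hy, Set.ncard_pair hne]

theorem trl_abelian (hx : x ∈ D) {u t : G} (hu : u ∈ trl D x) (ht : t ∈ trl D x) :
    u * t * u⁻¹ = t := by
  have hF := hP.toIsFischer
  induction ht using Subgroup.closure_induction with
  | mem g hg =>
    rcases hg with rfl | ⟨y, hy, w, hw, rfl⟩
    · rw [(trl_commute hF hx hu).eq, mul_inv_cancel_right]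
    rcases eq_or_ne y w with rfl | hne
    · rw [mul_self hF.toTrans hy.1, mul_one, mul_inv_cancel]
    have hyw := cls_commute hF hx hy (self_mem_cls hy) hw
    have hy' : u * y * u⁻¹ ∈ cls D x y := trl_cls hF hx hu y hy
    have hw' : u * w * u⁻¹ ∈ cls D x y := by
      rw [← cls_eq hF hx hy hw]; exact trl_cls hF hx hu w (cls_perp hx hy hw)
    rw [cls_pair h2 hx hy hw hne] at hy' hw'
    rw [show u * (y * w) * u⁻¹ = (u * y * u⁻¹) * (u * w * u⁻¹) by group]
    have hd : u * y * u⁻¹ ≠ u * w * u⁻¹ := fun h => hne (by simpa using h)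
    simp only [Set.mem_insert_iff, Set.mem_singleton_iff] at hy' hw'
    rcases hy' with h1 | h1 <;> rcases hw' with h3 | h3
    · exact absurd (h1.trans h3.symm) hd
    · rw [h1, h3]
    · rw [h1, h3, hyw.eq]
    · exact absurd (h1.trans h3.symm) hd
  | one => simp
  | mul a b _ _ iha ihb => rw [show u * (a * b) * u⁻¹ = (u * a * u⁻¹) * (u * b * u⁻¹) by group, iha, ihb]
  | inv a _ iha => rw [show u * a⁻¹ * u⁻¹ = (u * a * u⁻¹)⁻¹ by group, iha]

theorem trl_exp_two (hx : x ∈ D) {t : G} (ht : t ∈ trl D x) : t * t = 1 := by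
  have hF := hP.toIsFischer
  have hD := hF.toTrans
  induction ht using Subgroup.closure_induction with
  | mem g hg =>
    rcases hg with rfl | ⟨y, hy, w, hw, rfl⟩
    · exact mul_self hD hx
    · rw [mul_assoc, ← mul_assoc w, (cls_commute hF hx hy hw (self_mem_cls hy)).eq, mul_assoc y,
        mul_self hD hw.1.1, mul_one, mul_self hD hy.1]
  | one => exact mul_one 1
  | mul a b ha hb iha ihb =>
    have h : b * a = a * b := mul_inv_eq_iff_eq_mul.1 (trl_abelian hP h2 hx hb ha)
    rw [mul_assoc, ← mul_assoc b, h, mul_assoc a b b, ihb, mul_one, iha]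
  | inv a _ iha => rw [← _root_.mul_inv_rev, iha, inv_one]

/-- A member commutes with exactly one or with all three members of a non-commuting triple. -/
theorem parity_base (hx : x ∈ D) (he : e ∈ D) (hxe : ¬ Commute x e) {d : G} (hd : d ∈ D) :
    ind x d + ind e d + ind (cj x e) d = 0 := by
  have hF := hP.toIsFischer
  have hD := hF.toTrans
  by_cases hxd : Commute x d
  · have h : ind (cj x e) d = ind e d := by
      rw [cj_conj hD hx]
      conv_lhs => rw [← show x * d * x⁻¹ = d by rw [hxd.eq, mul_inv_cancel_right]]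
      exact ind_conj x e d
    rw [h, ind_of_commute hxd, zero_add]
    exact ZModModule.add_self _
  obtain ⟨t, ht, rfl⟩ := trl_trans hP hx he hxe hd hxd
  rcases eq_or_ne t 1 with rfl | ht1
  · simp only [one_mul, inv_one, mul_one] at hxd ⊢
    rw [ind_of_not hxd, ind_of_commute (Commute.refl e),
      ind_of_not (fun h => not_commute_cj' hD hx he hxe h.symm)]
    decide
  rcases eq_or_ne t x with rfl | htx
  · rw [← cj_conj hD hx, ind_of_not (fun h => not_commute_cj hD hx hxe h),
      ind_of_not (not_commute_cj' hD hx he hxe), ind_of_commute (Commute.refl _)]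
    decide
  obtain ⟨s, hs, q, hq, hqs, hts⟩ := exists_singular hP hx he hxe ht (trl_exp_two hP h2 hx ht) ht1 htx
  obtain ⟨hroot, hc, -, -, hn⟩ := root_commute hP hx he hxe hs hq hqs
  rw [← hroot] at hc
  have hflip : ind (cj x e) (t * e * t⁻¹) = ind e ((t * x) * e * (t * x)⁻¹) := by
    rw [← ind_conj x, ← cj_conj hD hx, cj_cj hD hx, show x * (t * e * t⁻¹) * x⁻¹ = (x * t) * e * (x * t)⁻¹ by
      group, (trl_commute hF hx ht).eq]
  rw [ind_of_not hxd, hflip]
  rcases hts with rfl | rfl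
  · rw [ind_of_not hn, ind_of_commute hc]; decide
  · rw [ind_of_commute hc, mul_assoc (s * q) x x, mul_self hD hx, mul_one, ind_of_not hn]; decide

/-- The third member adds the indicators. -/
theorem parity {a b d : G} (ha : a ∈ D) (hb : b ∈ D) (hab : ¬ Commute a b) (hd : d ∈ D) :
    ind (cj a b) d = ind a d + ind b d := by
  have h := parity_base hP h2 ha hb hab hd
  rwa [← ZModModule.sub_eq_add, sub_eq_zero, eq_comm] at h

theorem exists_third {a b : G} (ha : a ∈ D) (hb : b ∈ D) (hab : a ≠ b) :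
    ∃ c ∈ D, ∀ d ∈ D, ind c d = ind a d + ind b d := by
  have hF := hP.toIsFischer
  have hD := hF.toTrans
  by_cases hc : Commute a b
  swap
  · exact ⟨cj a b, cj_mem hD ha hb, fun d hd => parity hP h2 ha hb hc hd⟩
  have hb' : b ∈ perp D a := mem_perp' hb hab hc
  obtain ⟨c, hcl, hca, hcb⟩ := hP.thick a ha b hb'
  have hcls := cls_pair h2 ha hb' ⟨hcl, hca⟩ hcb.symm
  refine ⟨c, hcl.1, fun d hd => ?_⟩
  have hall := fun {p q : G} (hp : p ∈ ln D a b) (hq : q ∈ ln D a b) (hpq : p ≠ q) (h1 : Commute d p)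
      (h3 : Commute d q) {r : G} (hr : r ∈ ln D a b) =>
    ind_of_commute (commute_all hF ha hb hab hc hp hq hpq hd h1 h3 hr).symm
  have A := left_mem (D := D) (b := b) ha
  have B := right_mem (D := D) (a := a) hb
  by_cases h1 : Commute a d
  · by_cases h3 : Commute b d
    · rw [ind_of_commute h1, ind_of_commute h3, hall A B hab h1.symm h3.symm hcl, add_zero]
    · rw [ind_of_commute h1, ind_of_not h3, zero_add]
      exact ind_of_not fun h => h3 (ind_zero_iff.1 (hall A hcl hca.symm h1.symm h.symm B))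
  · by_cases h3 : Commute b d
    · rw [ind_of_not h1, ind_of_commute h3, add_zero]
      exact ind_of_not fun h => h1 (ind_zero_iff.1 (hall B hcl hcb.symm h3.symm h.symm A))
    · obtain ⟨p, hp, hdp⟩ := exists_on_line hP ha hb hab hc hd
      have hpa : p ≠ a := fun h => h1 (h ▸ hdp).symm
      have hp' : p ∈ cls D a b := ⟨hp, hpa⟩
      rw [hcls] at hp'
      rcases hp' with rfl | rfl
      · exact absurd hdp.symm h3
      · rw [ind_of_not h1, ind_of_not h3, ind_of_commute hdp.symm]; decide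

/-- The symplectic case. -/
theorem exists_symplectic_image : ∃ n : ℕ, (2 ≤ n ∧ ∃ e : G ≃* Matrix.symplecticGroup (Fin n) (ZMod 2),
    ∃ d ∈ D, ((e d : Matrix (Fin n ⊕ Fin n) (Fin n ⊕ Fin n) (ZMod 2)) - 1).rank = 1) ∧
    (n = 2 ∨ ∃ a ∈ D, ∃ b ∈ D, ¬ Commute a b ∧ ∃ s ∈ common D a b, ∃ r ∈ common D a b, s ≠ r ∧ Commute s r) := by
  classical
  have hF := hP.toIsFischer
  have hD := hF.toTrans
  obtain ⟨N, ⟨en⟩⟩ := Finite.exists_equiv_fin D
  let ph : D → Fin N → ZMod 2 := fun a i => ind (a : G) (en.symm i : G)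
  have hph : ∀ a d : D, ph a (en d) = ind (a : G) (d : G) := fun a d => by simp [ph]
  have hphi : Function.Injective ph := fun a b h => by
    refine Subtype.ext (eq_of_commute_iff hF a.2 b.2 fun d hd => ?_)
    rw [← ind_zero_iff, ← ind_zero_iff]
    have := congrFun h (en ⟨d, hd⟩)
    rw [hph, hph] at this
    rw [this]
  let W : Submodule (ZMod 2) (Fin N → ZMod 2) :=
    { carrier := insert 0 (Set.range ph)
      zero_mem' := Set.mem_insert _ _
      add_mem' := by
        rintro v w (rfl | ⟨a, rfl⟩) hw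
        · rwa [zero_add]
        rcases hw with rfl | ⟨b, rfl⟩
        · rw [add_zero]; exact Or.inr ⟨a, rfl⟩
        rcases eq_or_ne a b with rfl | hab
        · exact Or.inl (funext fun i => ZModModule.add_self _)
        obtain ⟨c, hc, hcd⟩ := exists_third hP h2 a.2 b.2 fun h => hab (Subtype.ext h)
        exact Or.inr ⟨⟨c, hc⟩, funext fun i => hcd _ (en.symm i).2⟩
      smul_mem' := by
        intro c v hv
        rcases (show ∀ z : ZMod 2, z = 0 ∨ z = 1 by decide) c with rfl | rfl
        · rw [zero_smul]; exact Set.mem_insert _ _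
        · rwa [one_smul] }
  let el : D → W := fun a => ⟨ph a, Or.inr ⟨a, rfl⟩⟩
  have hW : ∀ v : W, v = 0 ∨ ∃ a, v = el a := fun v => by
    rcases v.2 with h | ⟨a, ha⟩
    · exact Or.inl (Subtype.ext h)
    · exact Or.inr ⟨a, Subtype.ext ha.symm⟩
  let f : W → W → ZMod 2 := fun v w =>
    if h : ∃ a, w = el a then (v : Fin N → ZMod 2) (en h.choose) else 0
  have hel : ∀ v a, f v (el a) = (v : Fin N → ZMod 2) (en a) := fun v a => by
    have h : ∃ b, el a = el b := ⟨a, rfl⟩
    show (if h : ∃ b, el a = el b then _ else _) = _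
    rw [dif_pos h, ← hphi (congrArg Subtype.val h.choose_spec)]
  have hsymm : ∀ v w, f v w = f w v := by
    intro v w
    rcases hW w with rfl | ⟨b, rfl⟩ <;> rcases hW v with rfl | ⟨a, rfl⟩
    · rfl
    · rw [hel, ZeroMemClass.coe_zero, Pi.zero_apply]
      by_cases h : ∃ c, (0 : W) = el c
      · show (if h : ∃ c, (0 : W) = el c then _ else _) = _
        rw [dif_pos h]
        show ph a (en h.choose) = 0
        rw [hph, ind_comm, ← hph h.choose a,
          show ph h.choose = 0 from (congrArg Subtype.val h.choose_spec).symm]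
        rfl
      · exact dif_neg h
    · rw [hel, ZeroMemClass.coe_zero, Pi.zero_apply]
      by_cases h : ∃ c, (0 : W) = el c
      · show 0 = if h : ∃ c, (0 : W) = el c then _ else _
        rw [dif_pos h]
        show 0 = ph b (en h.choose)
        rw [hph, ind_comm, ← hph h.choose b,
          show ph h.choose = 0 from (congrArg Subtype.val h.choose_spec).symm]
        rfl
      · show 0 = if h : ∃ c, (0 : W) = el c then _ else _
        rw [dif_neg h]
    · rw [hel, hel]
      show ph a (en b) = ph b (en a)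
      rw [hph, hph, ind_comm]
  have haddl : ∀ u v w, f (u + v) w = f u w + f v w := fun u v w => by
    by_cases h : ∃ a, w = el a
    · obtain ⟨a, rfl⟩ := h
      rw [hel, hel, hel]; rfl
    · simp only [f, dif_neg h, add_zero]
  have hsmull : ∀ (c : ZMod 2) v w, f (c • v) w = c • f v w := fun c v w => by
    by_cases h : ∃ a, w = el a
    · obtain ⟨a, rfl⟩ := h
      rw [hel, hel]; rfl
    · simp only [f, dif_neg h, smul_zero]
  let B : LinearMap.BilinForm (ZMod 2) W := LinearMap.mk₂ (ZMod 2) f haddl hsmull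
    (fun u v w => by rw [hsymm, haddl, hsymm v, hsymm w]) (fun c u v => by rw [hsymm, hsmull, hsymm v])
  have hB : ∀ v a, B v (el a) = (v : Fin N → ZMod 2) (en a) := hel
  have hBel : ∀ a b : D, B (el a) (el b) = ind (a : G) (b : G) := fun a b => by rw [hB]; exact hph a b
  have hA : B.IsAlt := fun v => by
    rcases hW v with rfl | ⟨a, rfl⟩
    · simp
    · rw [hBel, ind_of_commute (Commute.refl _)]
  have hN : B.Nondegenerate := by
    have h1 : B.SeparatingLeft := fun v hv => Subtype.ext (funext fun i => by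
      have := hv (el (en.symm i))
      rwa [hB, en.apply_symm_apply] at this)
    exact ⟨h1, fun v hv => h1 v fun w => by rw [← LinearMap.IsAlt.neg hA, hv w, neg_zero]⟩
  -- the action
  let σ : G → Fin N → Fin N := fun g i =>
    en ⟨g * (en.symm i : G) * g⁻¹, hF.conj g _ (en.symm i).2⟩
  have hact : ∀ (g : G) (a : D), (fun i => ph a (σ g⁻¹ i)) = ph ⟨g * a * g⁻¹, hF.conj g _ a.2⟩ := by
    intro g a
    funext i
    show ph a (σ g⁻¹ i) = ind _ _
    rw [hph]
    conv_rhs => rw [← ind_conj g⁻¹]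
    simp [mul_assoc]
  have hσW : ∀ (g : G) (v : W), (fun i => (v : Fin N → ZMod 2) (σ g⁻¹ i)) ∈ W := fun g v => by
    rcases hW v with rfl | ⟨a, rfl⟩
    · exact Or.inl rfl
    · exact Or.inr ⟨_, (hact g a).symm⟩
  let act : G → W →ₗ[ZMod 2] W := fun g =>
    { toFun := fun v => ⟨_, hσW g v⟩
      map_add' := fun u v => rfl
      map_smul' := fun c v => rfl }
  have hσmul : ∀ g h i, σ g (σ h i) = σ (g * h) i := fun g h i => by
    simp [σ, mul_assoc]
  have hσone : ∀ i, σ 1 i = i := fun i => by simp [σ]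
  have hmul : ∀ g h v, act g (act h v) = act (g * h) v := fun g h v => Subtype.ext (funext fun i => by
    show (v : Fin N → ZMod 2) (σ h⁻¹ (σ g⁻¹ i)) = (v : Fin N → ZMod 2) (σ (g * h)⁻¹ i)
    rw [hσmul, _root_.mul_inv_rev])
  have hone : ∀ v, act 1 v = v := fun v => Subtype.ext (funext fun i => by
    show (v : Fin N → ZMod 2) (σ 1⁻¹ i) = _
    rw [inv_one, hσone])
  have hactel : ∀ g a, act g (el a) = el ⟨g * a * g⁻¹, hF.conj g _ a.2⟩ := fun g a =>
    Subtype.ext (hact g a)
  let lin : G → (W ≃ₗ[ZMod 2] W) := fun g =>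
    LinearEquiv.ofLinearMap (act g) (act g⁻¹)
      (LinearMap.ext fun v => by
        show act g (act g⁻¹ v) = v
        rw [hmul, mul_inv_cancel, hone])
      (LinearMap.ext fun v => by
        show act g⁻¹ (act g v) = v
        rw [hmul, inv_mul_cancel, hone])
  have hiso : ∀ g, lin g ∈ Cfsg.Lib.Linear.Symp.iso B := fun g u v => by
    show B (act g u) (act g v) = B u v
    rcases hW v with rfl | ⟨b, rfl⟩
    · simp
    rcases hW u with rfl | ⟨a, rfl⟩
    · simp
    rw [hactel, hactel, hBel, hBel, ind_conj]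
  let θ : G →* Cfsg.Lib.Linear.Symp.iso B :=
    { toFun := fun g => ⟨lin g, hiso g⟩
      map_one' := Subtype.ext (LinearEquiv.ext hone)
      map_mul' := fun g h => Subtype.ext (LinearEquiv.ext fun v => (hmul g h v).symm) }
  have hinj : Function.Injective θ := by
    rw [injective_iff_map_eq_one]
    intro g hg
    refine center_trivial hF fun d hd => ?_
    have := congrArg (fun z : Cfsg.Lib.Linear.Symp.iso B => (z : W ≃ₗ[ZMod 2] W) (el ⟨d, hd⟩)) hg
    have h' : act g (el ⟨d, hd⟩) = el ⟨d, hd⟩ := this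
    rw [hactel] at h'
    exact mul_inv_eq_iff_eq_mul.1 (congrArg Subtype.val (hphi (congrArg Subtype.val h')))
  have htv : ∀ d : D, θ d = Cfsg.Lib.Linear.Symp.tvG hA (el d) 1 := by
    intro d
    refine Subtype.ext (LinearEquiv.ext fun v => ?_)
    show act d v = Cfsg.Lib.Linear.Symp.tv hA (el d) 1 v
    rcases hW v with rfl | ⟨a, rfl⟩
    · simp
    rw [hactel, Cfsg.Lib.Linear.Symp.tv_apply, hBel, one_mul]
    by_cases hc : Commute (a : G) (d : G)
    · rw [ind_of_commute hc, zero_smul, add_zero]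
      exact congrArg el (Subtype.ext (by
        show (d : G) * a * (d : G)⁻¹ = a
        rw [hc.symm.eq, mul_inv_cancel_right]))
    · rw [ind_of_not hc, one_smul]
      refine Subtype.ext (funext fun i => ?_)
      show ind ((d : G) * a * (d : G)⁻¹) _ = ind (a : G) _ + ind (d : G) _
      rw [← cj_conj hD d.2, parity hP h2 d.2 a.2 (fun h => hc h.symm) (en.symm i).2, add_comm]
  have hsurj : Function.Surjective θ := by
    rw [← MonoidHom.range_eq_top, ← top_le_iff, ← Cfsg.Lib.Linear.Symp.closure_tvG hN hA,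
      Subgroup.closure_le]
    rintro _ ⟨v, c, rfl⟩
    have h1 : Cfsg.Lib.Linear.Symp.tvG hA v c = 1 ∨ ∃ d : D, Cfsg.Lib.Linear.Symp.tvG hA v c = θ d := by
      rcases (show ∀ z : ZMod 2, z = 0 ∨ z = 1 by decide) c with rfl | rfl
      · exact Or.inl (Subtype.ext (LinearEquiv.ext fun z => by
          show Cfsg.Lib.Linear.Symp.tv hA v 0 z = z
          simp))
      rcases hW v with rfl | ⟨a, rfl⟩
      · exact Or.inl (Subtype.ext (LinearEquiv.ext fun z => by
          show Cfsg.Lib.Linear.Symp.tv hA 0 1 z = z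
          simp))
      · exact Or.inr ⟨a, (htv a).symm⟩
    rcases h1 with h | ⟨d, h⟩
    · rw [h]; exact one_mem _
    · rw [h]; exact ⟨d, rfl⟩
  obtain ⟨m, hm⟩ := Cfsg.Lib.Linear.SympInv.even_finrank B (finrank (ZMod 2) W) ⊤ (by rw [finrank_top])
    (fun w _ => hA w) (fun w _ hw => by
      obtain ⟨z, hz⟩ := Cfsg.Lib.Linear.Symp.exists_apply_ne_zero (B := B) hN hw
      exact ⟨z, Submodule.mem_top, fun h => hz (hA.isRefl _ _ h)⟩)
  rw [finrank_top] at hm
  obtain ⟨φ, hφ⟩ := Cfsg.Lib.SpMult.exists_std hN hA (m := m) (by omega)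
  let Ψ := (MulEquiv.ofBijective θ ⟨hinj, hsurj⟩).trans
    ((Cfsg.Lib.SpMult.isoCongr φ hφ).trans Cfsg.Lib.Linear.Symp.spEquiv.symm)
  have himage : ∃ d ∈ D, ((Ψ d : Matrix (Fin m ⊕ Fin m) (Fin m ⊕ Fin m) (ZMod 2)) - 1).rank = 1 := by
    obtain ⟨x, hx⟩ := hD.ne
    refine ⟨x, hx, (Cfsg.Agent.S0440.rank_one_iff m _).2 ⟨φ (el ⟨x, hx⟩), ?_, ?_⟩⟩
    · intro h0
      obtain ⟨e, he, hxe⟩ := exists_not_commute hF hx
      have h1 := hBel ⟨x, hx⟩ ⟨e, he⟩
      rw [← hφ, h0, map_zero, LinearMap.zero_apply, ind_of_not hxe] at h1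
      exact zero_ne_one h1
    · show Cfsg.Lib.Linear.Symp.spEquiv (Cfsg.Lib.Linear.Symp.spEquiv.symm
        (Cfsg.Lib.SpMult.isoCongr φ hφ (θ x))) = _
      rw [MulEquiv.apply_symm_apply, show θ x = _ from htv ⟨x, hx⟩]
      refine Subtype.ext (LinearEquiv.ext fun z => ?_)
      show φ (φ.symm z + (1 * B (φ.symm z) (el ⟨x, hx⟩)) • el ⟨x, hx⟩) = z + _
      rw [map_add, map_smul, φ.apply_symm_apply, ← hφ, φ.apply_symm_apply]
  refine ⟨m, ?_⟩
  suffices h : m = 2 ∨ (3 ≤ m ∧ ∃ a ∈ D, ∃ b ∈ D, ¬ Commute a b ∧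
      ∃ s ∈ common D a b, ∃ r ∈ common D a b, s ≠ r ∧ Commute s r) from
    ⟨⟨h.elim (fun h => h.ge) (fun h => by omega), Ψ, himage⟩, h.imp_right And.right⟩
  -- the degree, and two commuting common neighbours of a non-commuting pair
  have hpre : ∀ i : Fin m ⊕ Fin m, ∃ a : D, φ (el a) = Pi.single i 1 := fun i => by
    rcases hW (φ.symm (Pi.single i 1)) with h | ⟨a, ha⟩
    · have h' := congrArg φ h
      rw [φ.apply_symm_apply, map_zero] at h'
      exact absurd (congrFun h' i) (by simp)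
    · exact ⟨a, by rw [← ha, φ.apply_symm_apply]⟩
  choose pre hpre using hpre
  have hform : ∀ i j, ind (pre i : G) (pre j : G) = Matrix.J (Fin m) (ZMod 2) i j := fun i j => by
    rw [← hBel, ← hφ, hpre, hpre, Cfsg.Lib.Linear.Symp.spB, Matrix.toBilin'_single]
  have hpre_inj : ∀ i j, (pre i : G) = pre j → i = j := fun i j h => by
    have h' := (hpre i).symm.trans ((congrArg (fun a => φ (el a)) (Subtype.ext h)).trans (hpre j))
    by_contra hij
    have := congrFun h' i
    simp [hij] at this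
  rcases (show m = 0 ∨ m = 1 ∨ m = 2 ∨ 3 ≤ m by omega) with h | h | h | h
  · exfalso
    subst h
    obtain ⟨x, hx⟩ := hD.ne
    obtain ⟨e, he, hxe⟩ := exists_not_commute hF hx
    have h1 := hBel ⟨x, hx⟩ ⟨e, he⟩
    rw [← hφ, Subsingleton.elim (φ (el ⟨x, hx⟩)) 0, map_zero, LinearMap.zero_apply] at h1
    exact hxe (ind_zero_iff.1 h1.symm)
  · exfalso
    subst h
    obtain ⟨x, hx⟩ := hD.ne
    obtain ⟨y, hy, hyx, hxy⟩ := exists_perp hF hx
    have hne : ∀ d : D, φ (el d) ≠ 0 := fun d h0 => by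
      obtain ⟨e, he, hde⟩ := exists_not_commute hF d.2
      have h1 := hBel d ⟨e, he⟩
      rw [← hφ, h0, map_zero, LinearMap.zero_apply] at h1
      exact hde (ind_zero_iff.1 h1.symm)
    have h1 := hBel ⟨x, hx⟩ ⟨y, hy⟩
    rw [← hφ, ind_of_commute hxy, Cfsg.Lib.Linear.Symp.spB_apply] at h1
    have h2 : φ (el ⟨x, hx⟩) ≠ φ (el ⟨y, hy⟩) := fun h' =>
      hyx (congrArg Subtype.val (hphi (congrArg Subtype.val (φ.injective h')))).symm
    exact h2 (plane_orth _ _ (hne _) (hne _) h1)
  · exact Or.inl h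
  · right
    refine ⟨h, ?_⟩
    refine ⟨pre (.inl ⟨0, by omega⟩), (pre _).2, pre (.inr ⟨0, by omega⟩), (pre _).2, ?_,
      pre (.inl ⟨1, by omega⟩), ⟨⟨(pre _).2, ?_, ?_⟩, ?_⟩,
      pre (.inl ⟨2, by omega⟩), ⟨⟨(pre _).2, ?_, ?_⟩, ?_⟩, ?_, ?_⟩
    all_goals first
      | (intro h'; have h'' := hpre_inj _ _ h'; simp at h'')
      | (rw [← ind_zero_iff, hform]; simp [Matrix.J, Fin.ext_iff])

theorem exists_symplectic : ∃ n : ℕ, Nonempty (G ≃* Matrix.symplecticGroup (Fin n) (ZMod 2)) ∧
    (n = 2 ∨ ∃ a ∈ D, ∃ b ∈ D, ¬ Commute a b ∧ ∃ s ∈ common D a b, ∃ r ∈ common D a b, s ≠ r ∧ Commute s r) := by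
  obtain ⟨n, ⟨-, e, -⟩, h⟩ := exists_symplectic_image hP h2
  exact ⟨n, ⟨e⟩, h⟩

end Cfsg.Lib.Fischer.Polar
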