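import Cfsg.Agent.Lib.Fischer.Polar.Recognize
import Cfsg.Agent.Lib.Fischer.Polar.Symp

/-!
# A local group with non-central 2-core belongs to a symplectic or unitary group
-/

set_option autoImplicit false
set_option linter.style.haveILetI false

namespace Cfsg.Lib.Fischer.Polar

open Cfsg Cfsg.Lib.Fischer

variable {G : Type*} [Group G] [Finite G] {D : Set G}

/-- A non-central local 2-core at one member makes all lines thick. -/
theorem isPolar_of_two (hF : IsFischer D) {x : G} (hx : x ∈ D)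
    (h : ¬ pCore 2 (loc D x) ≤ Subgroup.center (loc D x)) : IsPolar D := by
  have hT := trans_loc hF hx
  obtain ⟨k, hk, v, hv, hne⟩ : ∃ k ∈ pCore 2 (loc D x), ∃ v ∈ locD D x, k * v * k⁻¹ ≠ v := by
    by_contra hc
    push Not at hc
    refine h fun k hk => Subgroup.mem_center_iff.2 fun g => ?_
    have hle : Subgroup.closure (locD D x) ≤ Subgroup.centralizer {k} := by
      rw [Subgroup.closure_le]
      intro v hv
      exact Subgroup.mem_centralizer_singleton_iff.2 (mul_inv_eq_iff_eq_mul.1 (hc k hk v hv)).symm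
    exact Subgroup.mem_centralizer_singleton_iff.1 (hle (hT.gen ▸ Subgroup.mem_top g))
  have hw' := hT.conj k v hv
  have hw : ((k * v * k⁻¹ : loc D x) : G) ∈ cls D x v :=
    (sameComm_loc hF hx hv hw').1 ((sameComm_iff hT hv hw').2 (mul_conj_mem hT hv hk))
  refine ⟨hF, fun a ha b hb => ?_⟩
  obtain ⟨g, hga, hgv⟩ := pair_conj hF hx hv.1 hv.2.1.symm hv.2.2 ha hb.1 hb.2.1.symm hb.2.2
  refine ⟨g * ((k * v * k⁻¹ : loc D x) : G) * g⁻¹, ?_, ?_, ?_⟩
  · have := conj_mem_ln hF.toTrans g hw.1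
    rwa [hga, hgv] at this
  · intro e
    rw [← hga] at e
    exact hw.2 (mul_left_cancel (mul_right_cancel e))
  · intro e
    rw [← hgv] at e
    exact hne (Subtype.ext (mul_left_cancel (mul_right_cancel e)))

/-- The class size of a line does not depend on the line. -/
theorem cls_const (hP : IsPolar D) {x y a b : G} (hx : x ∈ D) (hy : y ∈ perp D x) (ha : a ∈ D)
    (hb : b ∈ perp D a) : (cls D a b).ncard = (cls D x y).ncard := by
  have e : ∀ p q : G, p ∈ D → (cls D p q).ncard + 1 = (ln D p q).ncard := fun p q hp => by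
    rw [show cls D p q = ln D p q \ {p} from rfl,
      Set.ncard_sdiff_singleton_add_one (left_mem hp) (Set.toFinite _)]
  have h := ln_card hP.toIsFischer hx hy.1 hy.2.1.symm hy.2.2 ha hb.1 hb.2.1.symm hb.2.2
  rw [← e a b ha, ← e x y hx] at h
  omega

/-- A polar group is symplectic or unitary, its class going to the transvections. -/
theorem classify_image (hP : IsPolar D) :
    (∃ n : ℕ, 2 ≤ n ∧ ∃ e : G ≃* Matrix.symplecticGroup (Fin n) (ZMod 2),
      ∃ d ∈ D, ((e d : Matrix (Fin n ⊕ Fin n) (Fin n ⊕ Fin n) (ZMod 2)) - 1).rank = 1) ∨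
    ∃ n : ℕ, 4 ≤ n ∧ ∃ e : G ≃* Cfsg.PSU n F4 2, ∃ d ∈ D, ∃ A : ↥(Cfsg.SU n F4 2), e d = QuotientGroup.mk A ∧
      (((A : Matrix.SpecialLinearGroup (Fin n) F4) : Matrix (Fin n) (Fin n) F4) - 1).rank = 1 := by
  have hF := hP.toIsFischer
  obtain ⟨x, hx⟩ := hF.ne
  obtain ⟨y, hy, hyx, hxy⟩ := exists_perp hF hx
  have hy' : y ∈ perp D x := ⟨hy, hyx, hxy⟩
  rcases cls_two_or_four hP hx hy' with h | h
  · obtain ⟨n, hn, -⟩ := exists_symplectic_image hP fun a ha b hb => (cls_const hP hx hy' ha hb).trans h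
    exact Or.inl ⟨n, hn⟩
  · obtain ⟨e, he, hxe⟩ := exists_not_commute hF hx
    have C : Ctx D x e := ⟨hP, fun a ha b hb => (cls_const hP hx hy' ha hb).trans h, hx, he, hxe⟩
    obtain ⟨Φ⟩ := C.exists_forms
    obtain ⟨n, hn, -⟩ := Φ.exists_unitary_image
    exact Or.inr ⟨n, hn⟩

/-- A polar group is symplectic over the field with two elements or unitary over the field with four. -/
theorem classify (hP : IsPolar D) :
    (∃ n : ℕ, Nonempty (G ≃* Matrix.symplecticGroup (Fin n) (ZMod 2)) ∧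
      (n = 2 ∨ ∃ a ∈ D, ∃ b ∈ D, ¬ Commute a b ∧
        ∃ s ∈ common D a b, ∃ r ∈ common D a b, s ≠ r ∧ Commute s r)) ∨
    ∃ n : ℕ, Nonempty (G ≃* Cfsg.PSU n F4 2) ∧
      (n = 4 ∨ n = 5 ∨ ∃ a ∈ D, ∃ b ∈ D, ¬ Commute a b ∧
        ∃ s ∈ common D a b, ∃ r ∈ common D a b, s ≠ r ∧ Commute s r) := by
  have hF := hP.toIsFischer
  obtain ⟨x, hx⟩ := hF.ne
  obtain ⟨y, hy, hyx, hxy⟩ := exists_perp hF hx
  have hy' : y ∈ perp D x := ⟨hy, hyx, hxy⟩
  rcases cls_two_or_four hP hx hy' with h | h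
  · exact Or.inl (exists_symplectic hP fun a ha b hb => (cls_const hP hx hy' ha hb).trans h)
  · obtain ⟨e, he, hxe⟩ := exists_not_commute hF hx
    have C : Ctx D x e := ⟨hP, fun a ha b hb => (cls_const hP hx hy' ha hb).trans h, hx, he, hxe⟩
    obtain ⟨Φ⟩ := C.exists_forms
    obtain ⟨n, hn, h4 | h5 | ⟨-, s, r, hsr, hc⟩⟩ := Φ.exists_unitary
    · exact Or.inr ⟨n, hn, Or.inl h4⟩
    · exact Or.inr ⟨n, hn, Or.inr (Or.inl h5)⟩
    · exact Or.inr ⟨n, hn, Or.inr (Or.inr ⟨x, hx, e, he, hxe, s, s.2, r, r.2,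
        fun h => hsr (Subtype.ext h), hc⟩)⟩

end Cfsg.Lib.Fischer.Polar
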