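import Cfsg.Agent.Lib.Fischer.Module
import Cfsg.Agent.Lib.Fischer.RadicalAbelian.ComplementFive
import Cfsg.Agent.Lib.Fischer.Relations.Model

/-!
# Recognition of the unitary groups over the field with four elements

Members in incidence preserving bijection with the isotropic points of a unitary space act as the
transvections, when common neighbours of a non-commuting pair determine its triple.
-/

set_option autoImplicit false
set_option linter.style.haveILetI false
set_option linter.unusedSimpArgs false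

namespace Cfsg.Lib.Fischer.Polar

open Module Cfsg Cfsg.Lib.Fischer Cfsg.Lib.Linear.Herm Cfsg.Agent.S1631 Cfsg.Lib.Fischer.RadicalAbelian

section Std

variable {F V : Type*} [Field F] [Fintype F] [AddCommGroup V] [Module F V] [FiniteDimensional F V]
  {σ : F →+* F} {B : V →ₛₗ[σ] V →ₗ[F] F}

theorem exists_unit (hK : FourField F σ) (hS : B.IsSymm) (hB : B.Nondegenerate) {k : ℕ}
    (hk : k < finrank F V) {e : Fin k → V} (he : Five.Orth B e) :
    ∃ u, B u u = 1 ∧ ∀ i, B (e i) u = 0 := by
  let f : V →ₗ[F] Fin k → F := LinearMap.pi fun i => B (e i)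
  obtain ⟨u, hu, hu0⟩ : ∃ u ∈ LinearMap.ker f, u ≠ 0 := by
    refine Submodule.exists_mem_ne_zero_of_ne_bot fun hbot => ?_
    have h1 := LinearMap.finrank_range_add_finrank_ker f
    have h2 := Submodule.finrank_le (LinearMap.range f)
    rw [finrank_fin_fun] at h2
    rw [hbot, finrank_bot] at h1
    omega
  have hf : ∀ v, v ∈ LinearMap.ker f ↔ ∀ i, B (e i) v = 0 := fun v => by simp [f, funext_iff]
  by_contra hcon
  push Not at hcon
  have h0 : ∀ v ∈ LinearMap.ker f, B v v = 0 := fun v hv =>
    (fixed_cases hK (hS.eq v v)).resolve_right fun h => by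
      obtain ⟨i, hi⟩ := hcon v h
      exact hi ((hf v).1 hv i)
  refine hu0 (hB.1 u fun v => ?_)
  obtain ⟨r, hr⟩ : ∃ r, r = v - ∑ i, B (e i) v • e i := ⟨_, rfl⟩
  have hrk : r ∈ LinearMap.ker f := (hf r).2 fun j => by simp [hr, map_sum, map_smul, he j]
  have hur : B u r = 0 := by
    obtain ⟨o, ho, -, -⟩ := Five.exists_omega hK hS
    have key : ∀ c : F, σ c * B r u + c * B u r = 0 := fun c => by
      have h := h0 _ (add_mem hu (Submodule.smul_mem _ c hrk))
      simp only [map_add, LinearMap.add_apply, LinearMap.map_smulₛₗ, LinearMap.smul_apply, map_smul,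
        smul_eq_mul, RingHom.id_apply, h0 u hu, h0 r hrk, mul_zero, add_zero, zero_add] at h
      linear_combination h
    have h1 := key 1
    rw [map_one, one_mul, one_mul] at h1
    linear_combination key o - σ o * h1 - B u r * ho + σ o * B u r * hK.two
  rw [hr, map_sub, map_sum] at hur
  simpa [map_smul, hS.isRefl _ _ ((hf u).1 hu _)] using hur

/-- A unitary space over four elements has coordinates in which its form is the standard one. -/
theorem exists_coords (hF : Fintype.card F = 2 ^ 2) {B : V →ₛₗ[frob hF] V →ₗ[F] F} (hS : B.IsSymm)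
    (hN : B.Nondegenerate) :
    ∃ φ : V ≃ₗ[F] (Fin (finrank F V) → F), ∀ u v, hB hF _ (φ u) (φ v) = B u v := by
  have hK := fourField hF
  have hex : ∀ k : ℕ, k ≤ finrank F V → ∃ e : Fin k → V, Five.Orth B e := fun k hk => by
    induction k with
    | zero => exact ⟨Fin.elim0, fun i => i.elim0⟩
    | succ k ih =>
      obtain ⟨e, he⟩ := ih (by omega)
      obtain ⟨u, hu, hp⟩ := exists_unit hK hS hN (by omega : k < finrank F V) he
      refine ⟨Fin.snoc e u, fun i j => ?_⟩
      refine Fin.lastCases ?_ (fun i => ?_) i <;> refine Fin.lastCases ?_ (fun j => ?_) j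
      · simp [hu]
      · simp [hS.isRefl _ _ (hp j), (Fin.castSucc_lt_last j).ne']
      · simp [hp i, (Fin.castSucc_lt_last i).ne]
      · simp [he i j]
  obtain ⟨e, he⟩ := hex _ le_rfl
  have hli : LinearIndependent F e := by
    rw [Fintype.linearIndependent_iff]
    intro g hg i
    have := congrArg (B (e i)) hg
    simpa [map_sum, map_smul, he i] using this
  rcases Nat.eq_zero_or_pos (finrank F V) with h0 | hpos
  · haveI : Subsingleton V := finrank_zero_iff.1 h0
    exact ⟨(finBasis F V).equivFun, fun u v => by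
      rw [Subsingleton.elim u 0, map_zero, LinearMap.map_zero₂, LinearMap.map_zero₂]⟩
  haveI : NeZero (finrank F V) := ⟨hpos.ne'⟩
  let b := basisOfLinearIndependentOfCardEqFinrank hli (by simp)
  have hb : ∀ i, b i = e i := fun i => by simp [b]
  refine ⟨b.equivFun, fun u v => ?_⟩
  conv_rhs => rw [← b.sum_equivFun u, ← b.sum_equivFun v]
  simp only [hB_apply, Cfsg.hermForm, hb, map_sum, map_smul, LinearMap.map_smulₛₗ,
    LinearMap.smul_apply, LinearMap.coe_sum, Finset.sum_apply, smul_eq_mul, he _,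
    mul_ite, mul_one, mul_zero, Finset.sum_ite_eq', Finset.sum_ite_eq, Finset.mem_univ, if_true,
    frob_apply, RingHom.id_apply]

end Std

variable {F : Type*} [Field F] [Fintype F]

/-- A model transvection differs from one by a map of rank one. -/
theorem rank_one_of_tvu (hF : Fintype.card F = 2 ^ 2) {n : ℕ} (hK : FourField F (frob hF)) {w : Fin n → F}
    (hw : hB hF n w w = 0) (hw0 : w ≠ 0) {A : ↥(Cfsg.SU n F 2)} (hA : model hF n A = tvu hK hw) :
    (((A : Matrix.SpecialLinearGroup (Fin n) F) : Matrix (Fin n) (Fin n) F) - 1).rank = 1 := by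
  set T : (Fin n → F) →ₗ[F] (Fin n → F) := Matrix.mulVecLin
    (((A : Matrix.SpecialLinearGroup (Fin n) F) : Matrix (Fin n) (Fin n) F) - 1) with hT
  have hTw : ∀ x, T x = hB hF n w x • w := fun x => by
    rw [hT, Matrix.mulVecLin_apply, Matrix.sub_mulVec, Matrix.one_mulVec, ← model_apply hF n, hA,
      tvu_apply, add_sub_cancel_left]
  obtain ⟨z, hz⟩ : ∃ z, hB hF n w z ≠ 0 := by
    by_contra h
    push Not at h
    exact hw0 ((hB_nondegenerate hF n).1 w h)
  have hr : LinearMap.range T = Submodule.span F {w} := by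
    apply le_antisymm
    · rintro _ ⟨x, rfl⟩
      rw [hTw]
      exact Submodule.smul_mem _ _ (Submodule.mem_span_singleton_self w)
    · rw [Submodule.span_singleton_le_iff_mem]
      exact ⟨(hB hF n w z)⁻¹ • z, by rw [map_smul, hTw, smul_smul, inv_mul_cancel₀ hz, one_smul]⟩
  show finrank F (LinearMap.range T) = 1
  rw [hr, finrank_span_singleton hw0]

/-- Recognition in standard coordinates. -/
theorem iso_psu_std_image (hF : Fintype.card F = 2 ^ 2) {n : ℕ} (hn : 4 ≤ n) {G : Type*} [Group G] [Finite G]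
    {D : Set G} (hFi : IsFischer D)
    (hthird : ∀ d ∈ D, ∀ a ∈ D, ∀ b ∈ D, ¬ Commute d a →
      (∀ z ∈ D, Commute d z → Commute a z → Commute b z) → b = d ∨ b = a ∨ b = cj d a)
    (c : D → Fin n → F) (hiso : ∀ d, hB hF n (c d) (c d) = 0) (hne : ∀ d, c d ≠ 0)
    (hcomm : ∀ a b : D, Commute (a : G) b ↔ hB hF n (c a) (c b) = 0)
    (hevery : ∀ w, hB hF n w w = 0 → w ≠ 0 → ∃ d, ∃ k : F, k ≠ 0 ∧ c d = k • w)
    (hinj : ∀ a b : D, ∀ k : F, c b = k • c a → a = b) :
    ∃ e : G ≃* Cfsg.PSU n F 2, ∃ d ∈ D, ∃ A : ↥(Cfsg.SU n F 2), e d = QuotientGroup.mk A ∧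
      (((A : Matrix.SpecialLinearGroup (Fin n) F) : Matrix (Fin n) (Fin n) F) - 1).rank = 1 := by
  classical
  have hD := hFi.toTrans
  have hK := fourField hF
  have hS := hB_isSymm hF n
  have hND := hB_nondegenerate hF n
  set H := hB hF n with hH
  have hwd : ∀ (A : ↥(Cfsg.SU n F 2)) (d : D), ∃ b : D, ∃ k : F, k ≠ 0 ∧ c b = k • model hF n A (c d) :=
    fun A d => hevery _ (by rw [model_mem hF n A, hiso])
      ((map_ne_zero_iff _ (model hF n A).injective).2 (hne d))
  choose f kf hkf hf using hwd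
  have huniq : ∀ A d b, ∀ k : F, c b = k • model hF n A (c d) → f A d = b := fun A d b k hk =>
    hinj _ _ (k * (kf A d)⁻¹) (by
      rw [hf A d, smul_smul, mul_assoc, inv_mul_cancel₀ (hkf A d), mul_one, hk])
  have hmul : ∀ A A' d, f (A * A') d = f A (f A' d) := fun A A' d => huniq _ _ _ (kf A (f A' d) * kf A' d) (by
    rw [hf A, hf A', map_smul, smul_smul, map_mul, LinearEquiv.mul_apply])
  have hone : ∀ d, f 1 d = d := fun d => huniq _ _ _ 1 (by rw [one_smul, map_one]; rfl)
  let ρ : ↥(Cfsg.SU n F 2) →* Equiv.Perm D :=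
    { toFun := fun A => ⟨f A, f A⁻¹, fun d => by rw [← hmul, inv_mul_cancel, hone],
        fun d => by rw [← hmul, mul_inv_cancel, hone]⟩
      map_one' := Equiv.ext hone
      map_mul' := fun A A' => Equiv.ext (hmul A A') }
  let θ : G →* Equiv.Perm D :=
    { toFun := fun g => ⟨fun d => ⟨g * d * g⁻¹, hD.conj g d d.2⟩,
        fun d => ⟨g⁻¹ * d * g, by simpa using hD.conj g⁻¹ d d.2⟩,
        fun d => Subtype.ext (by group), fun d => Subtype.ext (by group)⟩
      map_one' := Equiv.ext fun d => Subtype.ext (by simp)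
      map_mul' := fun g h => Equiv.ext fun d => Subtype.ext
        (show g * h * (d : G) * (g * h)⁻¹ = g * (h * d * h⁻¹) * g⁻¹ by group) }
  have hθinj : Function.Injective θ := by
    rw [injective_iff_map_eq_one]
    intro g hg
    have hz : g ∈ Subgroup.center G := by
      rw [Subgroup.mem_center_iff]
      intro z
      have hle : Subgroup.closure D ≤ Subgroup.centralizer ({g} : Set G) := by
        rw [Subgroup.closure_le]
        intro d hd
        refine Subgroup.mem_centralizer_singleton_iff.2 (mul_inv_eq_iff_eq_mul.1 ?_).symm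
        exact congrArg Subtype.val (Equiv.congr_fun hg ⟨d, hd⟩)
      exact Subgroup.mem_centralizer_singleton_iff.1 (hle (hFi.gen ▸ Subgroup.mem_top z))
    rw [hFi.sol _ inferInstance
      (Group.isSolvable_of_comm fun a b => Subtype.ext (Subgroup.mem_center_iff.1 b.2 a))] at hz
    exact Subgroup.mem_bot.1 hz
  -- the transvections
  have hA : ∀ d : D, ∃ A, model hF n A = tvu hK (hiso d) := fun d =>
    model_surjective hF n (tvu_mem hK hS (hiso d)) (Units.ext (by
      rw [tvu, det_qrefl, hiso d, mul_zero, add_zero]; rfl))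
  choose A hAd using hA
  have hρA : ∀ d, ρ (A d) = θ d := fun d => by
    refine Equiv.ext fun a => ?_
    show f (A d) a = ⟨(d : G) * a * (d : G)⁻¹, _⟩
    have e0 : (⟨(d : G) * a * (d : G)⁻¹, hD.conj _ _ a.2⟩ : D) = ⟨cj d a, cj_mem hD d.2 a.2⟩ :=
      Subtype.ext (cj_conj hD d.2 _).symm
    rw [e0]
    have hz := hf (A d) a
    rw [hAd d, tvu_apply] at hz
    set b := f (A d) a
    by_cases hc : Commute (d : G) a
    · rw [(hcomm d a).1 hc, zero_smul, add_zero] at hz
      exact (hinj _ _ _ hz).symm.trans (Subtype.ext (cj_of_commute hD d.2 hc).symm)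
    have hne0 : H (c d) (c a) ≠ 0 := fun h => hc ((hcomm d a).2 h)
    have hb : ∀ z ∈ D, Commute (d : G) z → Commute (a : G) z → Commute (b : G) z := fun z hzD h1 h2 => by
      refine (hcomm b ⟨z, hzD⟩).2 ?_
      rw [hz]
      simp only [LinearMap.map_smulₛₗ, LinearMap.smul_apply, map_add, LinearMap.add_apply,
        (hcomm d ⟨z, hzD⟩).1 h1, (hcomm a ⟨z, hzD⟩).1 h2, smul_zero, add_zero]
    rcases hthird d d.2 a a.2 b b.2 hc hb with h | h | h
    · exfalso
      have hb' : b = d := Subtype.ext h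
      rw [hb'] at hz
      have h' := congrArg (H (c d)) hz
      rw [hiso, map_smul, map_add, map_smul, hiso, smul_zero, add_zero, smul_eq_mul, eq_comm,
        mul_eq_zero] at h'
      exact h'.elim (hkf _ _) hne0
    · exfalso
      have hb' : b = a := Subtype.ext h
      rw [hb'] at hz
      have h' := congrArg (H (c a)) hz
      rw [hiso, map_smul, map_add, map_smul, hiso, zero_add, smul_eq_mul, smul_eq_mul, eq_comm,
        mul_eq_zero, mul_eq_zero] at h'
      exact h'.elim (hkf _ _) fun h' => h'.elim hne0 fun h' => hne0 (hS.isRefl _ _ h')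
    · exact Subtype.ext h
  have htop : Subgroup.closure (Set.range A) = ⊤ := by
    refine eq_top_iff.2 fun B _ => ?_
    have hB : model hF n B ∈ tvGroup H := (mem_tvGroup_iff (frob_ne_id hF) (frob_frob hF) hS hND
      (Or.inl (by rw [finrank_fin_fun]; exact hn)) _).2 ⟨model_mem hF n B, model_det hF n B⟩
    have hle : tvGroup H ≤ (Subgroup.closure (Set.range A)).map (model hF n) := by
      rw [tvGroup, Subgroup.closure_le]
      rintro _ ⟨w, l, h, hw, rfl⟩
      rcases eq_or_ne w 0 with rfl | hw0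
      · refine ⟨1, one_mem _, ?_⟩
        exact LinearEquiv.ext fun z => by simp [qrefl_apply]
      have hl : frob hF l = l := by
        have := h
        rw [hw, mul_zero, add_zero] at this
        linear_combination this - l * hK.two
      rcases fixed_cases hK hl with rfl | rfl
      · refine ⟨1, one_mem _, ?_⟩
        exact LinearEquiv.ext fun z => by simp [qrefl_apply]
      · obtain ⟨d, k, hk, hd⟩ := hevery w hw hw0
        refine ⟨A d, Subgroup.subset_closure ⟨d, rfl⟩, ?_⟩
        have hk2 : H (k • w) (k • w) = 0 := hd ▸ hiso d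
        rw [hAd d, tvu_congr hK (hiso d) hk2 hd, tvu_smul hK hw hk hk2]
        rfl
    obtain ⟨B', hB', e'⟩ := hle hB
    exact model_injective hF n e' ▸ hB'
  have hker : ρ.ker = Subgroup.center ↥(Cfsg.SU n F 2) := by
    ext B
    have hconj : ∀ d, model hF n (B * A d * B⁻¹) =
        tvu hK (show H (model hF n B (c d)) (model hF n B (c d)) = 0 by rw [model_mem hF n B, hiso]) :=
      fun d => by rw [map_mul, map_mul, map_inv, hAd d, tvu_conj hK (model_mem hF n B)]
    rw [MonoidHom.mem_ker, Subgroup.mem_center_iff]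
    constructor
    · intro hB z
      have hz : z ∈ Subgroup.centralizer ({B} : Set ↥(Cfsg.SU n F 2)) := by
        have hle : Subgroup.closure (Set.range A) ≤ Subgroup.centralizer ({B} : Set ↥(Cfsg.SU n F 2)) := by
          rw [Subgroup.closure_le]
          rintro _ ⟨d, rfl⟩
          refine Subgroup.mem_centralizer_singleton_iff.2 (mul_inv_eq_iff_eq_mul.1 ?_).symm
          refine model_injective hF n ?_
          rw [hconj d, hAd d]
          have hfd : f B d = d := Equiv.congr_fun hB d
          have e2 := hf B d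
          rw [hfd] at e2
          have e3 : model hF n B (c d) = (kf B d)⁻¹ • c d := by
            nth_rw 2 [e2]
            rw [smul_smul, inv_mul_cancel₀ (hkf B d), one_smul]
          have h2 : H ((kf B d)⁻¹ • c d) ((kf B d)⁻¹ • c d) = 0 := by
            rw [← e3, model_mem hF n B, hiso]
          rw [tvu_congr hK _ h2 e3, tvu_smul hK (hiso d) (inv_ne_zero (hkf B d)) h2]
        exact hle (htop ▸ Subgroup.mem_top z)
      exact Subgroup.mem_centralizer_singleton_iff.1 hz
    · intro hB
      refine Equiv.ext fun d => ?_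
      have h1 : B * A d * B⁻¹ = A d := by rw [← hB (A d), mul_inv_cancel_right]
      have h2 := hconj d
      rw [h1, hAd d] at h2
      obtain ⟨k, -, hk⟩ := Relations.tvu_eq hK hS hND (hiso d)
        (show H (model hF n B (c d)) (model hF n B (c d)) = 0 by rw [model_mem hF n B, hiso])
        ((map_ne_zero_iff _ (model hF n B).injective).2 (hne d)) h2
      show f B d = d
      refine huniq _ _ _ k⁻¹ ?_
      rcases eq_or_ne k 0 with rfl | hk0
      · exact absurd ((zero_smul F (c d)) ▸ hk) ((map_ne_zero_iff _ (model hF n B).injective).2 (hne d))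
      rw [hk, smul_smul, inv_mul_cancel₀ hk0, one_smul]
  have hrange : ρ.range = θ.range := by
    rw [MonoidHom.range_eq_map, MonoidHom.range_eq_map, ← htop, ← hFi.gen, MonoidHom.map_closure,
      MonoidHom.map_closure]
    congr 1
    ext p
    constructor
    · rintro ⟨_, ⟨d, rfl⟩, rfl⟩
      exact ⟨d, d.2, (hρA d).symm⟩
    · rintro ⟨g, hg, rfl⟩
      exact ⟨A ⟨g, hg⟩, ⟨_, rfl⟩, hρA ⟨g, hg⟩⟩
  let Ψ := (MonoidHom.ofInjective hθinj).trans ((MulEquiv.subgroupCongr hrange.symm).trans
    ((QuotientGroup.quotientKerEquivRange ρ).symm.trans (QuotientGroup.quotientMulEquivOfEq hker)))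
  obtain ⟨x, hx⟩ := hD.ne
  refine ⟨Ψ, x, hx, A ⟨x, hx⟩, ?_, rank_one_of_tvu hF hK (hiso ⟨x, hx⟩) (hne ⟨x, hx⟩) (hAd ⟨x, hx⟩)⟩
  rw [← MulEquiv.eq_symm_apply]
  exact (MonoidHom.ofInjective hθinj).injective (Subtype.ext (by
    simp [Ψ, MonoidHom.ofInjective_apply]
    exact (hρA ⟨x, hx⟩).symm))


/-- Recognition of the unitary groups from a unitary space. -/
theorem iso_psu_image (hF : Fintype.card F = 2 ^ 2) {V : Type*} [AddCommGroup V] [Module F V]
    [FiniteDimensional F V] {B : V →ₛₗ[frob hF] V →ₗ[F] F} (hS : B.IsSymm) (hB : B.Nondegenerate)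
    (hn : 4 ≤ finrank F V) {G : Type*} [Group G] [Finite G] {D : Set G} (hFi : IsFischer D)
    (hthird : ∀ d ∈ D, ∀ a ∈ D, ∀ b ∈ D, ¬ Commute d a →
      (∀ z ∈ D, Commute d z → Commute a z → Commute b z) → b = d ∨ b = a ∨ b = cj d a)
    (c : D → V) (hiso : ∀ d, B (c d) (c d) = 0) (hne : ∀ d, c d ≠ 0)
    (hcomm : ∀ a b : D, Commute (a : G) b ↔ B (c a) (c b) = 0)
    (hevery : ∀ w, B w w = 0 → w ≠ 0 → ∃ d, ∃ k : F, k ≠ 0 ∧ c d = k • w)
    (hinj : ∀ a b : D, ∀ k : F, c b = k • c a → a = b) :
    ∃ e : G ≃* Cfsg.PSU (finrank F V) F 2, ∃ d ∈ D, ∃ A : ↥(Cfsg.SU (finrank F V) F 2), e d = QuotientGroup.mk A ∧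
      (((A : Matrix.SpecialLinearGroup (Fin (finrank F V)) F) : Matrix (Fin (finrank F V)) (Fin (finrank F V)) F) - 1).rank = 1 := by
  obtain ⟨φ, hφ⟩ := exists_coords hF hS hB
  refine iso_psu_std_image hF hn hFi hthird (fun d => φ (c d)) (fun d => by rw [hφ, hiso])
    (fun d => (map_ne_zero_iff _ φ.injective).2 (hne d)) (fun a b => by rw [hφ]; exact hcomm a b)
    (fun w hw hw0 => ?_) (fun a b k hk => hinj a b k (φ.injective (by rw [hk, map_smul])))
  obtain ⟨d, k, hk, hd⟩ := hevery (φ.symm w) (by rw [← hφ, φ.apply_symm_apply, hw])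
    ((map_ne_zero_iff _ φ.symm.injective).2 hw0)
  exact ⟨d, k, hk, by rw [hd, map_smul, φ.apply_symm_apply]⟩

end Cfsg.Lib.Fischer.Polar
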