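import Cfsg.Agent.Lib.Fischer.Polar.Lines

/-!
# Lines have three or five points

An involution centralizing a neighbourhood is trivial or is its centre, so the product of two pairs of
points in an orbit of a central involution of the local 2-group is the centre.
-/

set_option autoImplicit false
set_option linter.style.haveILetI false

namespace Cfsg.Lib.Fischer.Polar

open Cfsg Cfsg.Lib.Fischer

variable {G : Type*} [Group G] [Finite G] {D : Set G} {x e : G}

omit [Finite G] in
theorem center_trivial (hF : IsFischer D) {g : G} (h : ∀ d ∈ D, Commute g d) : g = 1 := by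
  have hg : g ∈ Subgroup.center G := by
    rw [Subgroup.mem_center_iff]
    intro z
    have hz : z ∈ Subgroup.centralizer ({g} : Set G) := by
      have hle : Subgroup.closure D ≤ Subgroup.centralizer ({g} : Set G) := by
        rw [Subgroup.closure_le]
        intro d hd
        exact Subgroup.mem_centralizer_singleton_iff.2 (h d hd).symm.eq
      exact hle (hF.gen ▸ Subgroup.mem_top z)
    exact Subgroup.mem_centralizer_singleton_iff.1 hz
  have hc : Group.IsSolvable ↥(Subgroup.center G) :=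
    Group.isSolvable_of_comm fun a b => Subtype.ext (Subgroup.mem_center_iff.1 b.2 a)
  rw [hF.sol _ inferInstance hc] at hg
  exact Subgroup.mem_bot.1 hg

/-- What centralizes a member, its neighbours and one further member is trivial. -/
theorem eq_one_of_fix (hF : IsFischer D) (hx : x ∈ D) {g a : G} (hgx : Commute g x)
    (hgp : ∀ d ∈ perp D x, Commute g d) (ha : a ∈ D) (hxa : ¬ Commute x a) (hga : Commute g a) :
    g = 1 := by
  refine center_trivial hF fun d hd => ?_
  by_cases hxd : Commute x d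
  · rcases eq_or_ne d x with rfl | hne
    · exact hgx
    · exact hgp d (mem_perp' hd hne.symm hxd)
  · obtain ⟨u, hu, rfl⟩ := orb_all hF hx ha hd hxa hxd
    have hgu : Commute g u := by
      have hle : Subgroup.closure (insert x (perp D x)) ≤ Subgroup.centralizer ({g} : Set G) := by
        rw [Subgroup.closure_le]
        intro z hz
        refine Subgroup.mem_centralizer_singleton_iff.2 ?_
        rcases hz with rfl | hz
        · exact hgx.symm.eq
        · exact (hgp z hz).symm.eq
      exact (Subgroup.mem_centralizer_singleton_iff.1 (hle hu) : u * g = g * u).symm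
    exact (hgu.mul_right hga).mul_right hgu.inv_right

/-- No neighbour of `x` commutes with all common neighbours of `x` and `e`. -/
theorem exists_separated (hP : IsPolar D) (hx : x ∈ D) (he : e ∈ D) (hxe : ¬ Commute x e) {k : G}
    (hk : k ∈ perp D x) : ∃ s ∈ common D x e, ¬ Commute k s := by
  obtain ⟨q, hq, hkq⟩ := exists_perp_ne hP.toIsFischer hx hk
  obtain ⟨s, hs, hes, -⟩ := exists_unique_sel hP hx hq he hxe
  exact ⟨s, ⟨cls_perp hx hq hs, hes⟩, fun h => hkq
    ((cls_commute_iff hP.toIsFischer hx hq hs (self_mem_cls hq) hk.1 hk.2.2.symm).1 h)⟩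

/-- Two members with the same common neighbours with `x` do not commute. -/
theorem no_twin (hP : IsPolar D) (hx : x ∈ D) (he : e ∈ D) (hxe : ¬ Commute x e) {a : G} (ha : a ∈ D)
    (hne : a ≠ e) (hS : ∀ s ∈ common D x e, Commute a s) : ¬ Commute e a := by
  intro hc
  obtain ⟨p, hp, hxp⟩ := exists_on_line hP he ha hne.symm hc hx
  have hpe : Commute p e := commute_left he hc hp
  have hpx : p ≠ x := fun h => hxe (h ▸ hpe)
  obtain ⟨s, hs, hps⟩ := exists_separated hP hx he hxe (mem_perp' hp.1 hpx.symm hxp)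
  exact hps (hp.2 s ⟨hs.1.1, hs.2, hS s hs⟩)

/-- An involution centralizing `x` and its neighbours is `1` or `x`. -/
theorem kernel_invol (hP : IsPolar D) (hx : x ∈ D) {g : G} (hg : g * g = 1) (hgx : Commute g x)
    (hgp : ∀ d ∈ perp D x, Commute g d) : g = 1 ∨ g = x := by
  have hF := hP.toIsFischer
  have hD := hF.toTrans
  obtain ⟨e, he, hxe⟩ := exists_not_commute hF hx
  have hgi : g⁻¹ = g := inv_eq_of_mul_eq_one_right hg
  set a := g * e * g⁻¹ with ha
  have haD : a ∈ D := hD.conj g e he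
  have hxa : ¬ Commute x a := fun h => hxe (by
    rw [ha, ← show g * x * g⁻¹ = x by rw [hgx.eq, mul_inv_cancel_right]] at h
    exact (Commute.conj_iff g).1 h)
  have hS : ∀ s ∈ common D x e, Commute a s := fun s hs => by
    rw [ha, ← show g * s * g⁻¹ = s by rw [(hgp s hs.1).eq, mul_inv_cancel_right]]
    exact (Commute.conj_iff g).2 hs.2
  by_cases hae : a = e
  · exact Or.inl (eq_one_of_fix hF hx hgx hgp he hxe (mul_inv_eq_iff_eq_mul.1 hae))
  have hn := no_twin hP hx he hxe haD hae hS
  set k := cj e a with hk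
  have hkD : k ∈ D := cj_mem hD he haD
  have hga : g * a * g⁻¹ = e := by
    rw [ha, hgi]
    calc g * (g * e * g) * g = (g * g) * e * (g * g) := by simp only [mul_assoc]
      _ = e := by rw [hg, one_mul, mul_one]
  have hgk : g * k * g⁻¹ = k := by
    calc g * k * g⁻¹ = (g * e * g⁻¹) * (g * a * g⁻¹) * (g * e * g⁻¹) := by rw [hk, cj_def]; group
      _ = cj a e := by rw [hga]; rfl
      _ = k := (braid hD he haD hn).symm
  rcases eq_or_ne k x with hkx | hkx
  · have hax : a = cj x e := by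
      rw [braid hD hx he hxe, ← hkx, hk, cj_cj hD he]
    have h1 : Commute (x * g) e := by
      refine mul_inv_eq_iff_eq_mul.1 ?_
      calc x * g * e * (x * g)⁻¹ = x * (g * e * g⁻¹) * x⁻¹ := by group
        _ = cj x a := (cj_conj hD hx _).symm
        _ = e := by rw [hax, cj_cj hD hx]
    have h2 := eq_one_of_fix hF hx ((Commute.refl x).mul_left hgx)
      (fun d hd => hd.2.2.mul_left (hgp d hd)) he hxe h1
    exact Or.inr (by rw [eq_inv_of_mul_eq_one_right h2, inv_eq hD hx])
  by_cases hxk : Commute x k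
  · obtain ⟨s, hs, hks⟩ := exists_separated hP hx he hxe (mem_perp' hkD hkx.symm hxk)
    exact (hks (by rw [hk, cj_def]; exact (hs.2.mul_left (hS s hs)).mul_left hs.2)).elim
  · exact Or.inl (eq_one_of_fix hF hx hgx hgp hkD hxk (mul_inv_eq_iff_eq_mul.1 hgk))

/-- Some member not commuting with `x` commutes with a given neighbour. -/
theorem exists_partner (hF : IsFischer D) (hx : x ∈ D) {y : G} (hy : y ∈ perp D x) :
    ∃ e ∈ D, ¬ Commute x e ∧ Commute e y := by
  obtain ⟨e, he, hxe⟩ := exists_not_commute hF hx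
  obtain ⟨s, hs, hes⟩ := common_nonempty hF hx he hxe
  obtain ⟨g, hg, rfl⟩ := perp_transitive hF hx hs hy
  have hgx : Commute g x :=
    commute_of_mem_closure hF hx (Subgroup.closure_mono (Set.subset_insert _ _) hg)
  refine ⟨g * e * g⁻¹, hF.conj g e he, fun h => hxe ?_, (Commute.conj_iff g).2 hes⟩
  rw [← show g * x * g⁻¹ = x by rw [hgx.eq, mul_inv_cancel_right]] at h
  exact (Commute.conj_iff g).1 h

/-- Two disjoint pairs of a class have different products. -/
theorem four_ne (hP : IsPolar D) (hx : x ∈ D) {y a b c d : G} (hy : y ∈ perp D x) (ha : a ∈ cls D x y)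
    (hb : b ∈ cls D x y) (hc : c ∈ cls D x y) (hd : d ∈ cls D x y) (hab : a ≠ b) (hac : a ≠ c)
    (had : a ≠ d) (hcd : c ≠ d) : a * b ≠ c * d := by
  have hF := hP.toIsFischer
  have hD := hF.toTrans
  intro h
  obtain ⟨e, he, hxe, hea⟩ := exists_partner hF hx (cls_perp hx hy ha)
  obtain ⟨s, -, -, huniq⟩ := exists_unique_sel hP hx hy he hxe
  have hnc : ∀ q ∈ cls D x y, q ≠ a → ¬ Commute e q := fun q hq hne hc' =>
    hne ((huniq q hq hc').trans (huniq a ha hea).symm)
  have h1 : cj a (cj b e) = cj c (cj d e) := by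
    calc cj a (cj b e) = (a * b) * e * (a * b)⁻¹ := by
          rw [_root_.mul_inv_rev, inv_eq hD ha.1.1, inv_eq hD hb.1.1]; simp only [cj_def, mul_assoc]
      _ = (c * d) * e * (c * d)⁻¹ := by rw [h]
      _ = cj c (cj d e) := by
          rw [_root_.mul_inv_rev, inv_eq hD hc.1.1, inv_eq hD hd.1.1]; simp only [cj_def, mul_assoc]
  obtain ⟨-, -, h2, -⟩ := star hP hd.1.1 hc.1.1 he hcd.symm (cls_commute hF hx hy hd hc)
    (hnc d hd had.symm) (hnc c hc hac.symm)
  rw [← h1, cj_cj_dist hD ha.1.1, cj_of_commute hD ha.1.1 (cls_commute hF hx hy ha hb),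
    cj_of_commute hD ha.1.1 hea.symm] at h2
  exact not_commute_cj' hD hb.1.1 he (fun h' => hnc b hb hab.symm h'.symm) h2

/-- A central involution of the local 2-group on a class. -/
theorem exists_central (hP : IsPolar D) (hx : x ∈ D) {y : G} (hy : y ∈ perp D x) :
    ∃ g ∈ two D x, (∀ u ∈ two D x, ∀ q ∈ cls D x y,
      g * (u * q * u⁻¹) * g⁻¹ = u * (g * q * g⁻¹) * u⁻¹) ∧
      (∀ q ∈ cls D x y, g * q * g⁻¹ ≠ q) ∧ ∀ q ∈ cls D x y, g * (g * q * g⁻¹) * g⁻¹ = q := by
  have hF := hP.toIsFischer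
  haveI : Fact (Nat.Prime 2) := ⟨Nat.prime_two⟩
  have hmem : ∀ (g : two D x) (q : cls D x y), (g : G) * q * (g : G)⁻¹ ∈ cls D x y := fun g q => by
    have h := two_conj hF hx (cls_perp hx hy q.2) g.2
    rwa [cls_eq hF hx hy q.2] at h
  letI : MulAction (two D x) (cls D x y) :=
    { smul := fun g q => ⟨(g : G) * q * (g : G)⁻¹, hmem g q⟩
      one_smul := fun q => Subtype.ext (show (1 : G) * q * (1 : G)⁻¹ = q by simp)
      mul_smul := fun g h q => Subtype.ext (show ((g : G) * h) * q * ((g : G) * h)⁻¹ =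
        (g : G) * ((h : G) * q * (h : G)⁻¹) * (g : G)⁻¹ by group) }
  let φ : two D x →* Equiv.Perm (cls D x y) := MulAction.toPermHom (two D x) (cls D x y)
  have hval : ∀ (g : two D x) (q : cls D x y), ((φ g q : cls D x y) : G) = (g : G) * q * (g : G)⁻¹ :=
    fun _ _ => rfl
  have htrans : ∀ p q : cls D x y, ∃ g : two D x, φ g p = q := fun p q => by
    obtain ⟨g, hg, e'⟩ := two_orbit hF hx (cls_perp hx hy p.2) (w := (q : G))
      (by rw [cls_eq hF hx hy p.2]; exact q.2)
    exact ⟨⟨g, hg⟩, Subtype.ext e'⟩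
  have hp : IsPGroup 2 φ.range := (two_pgroup D x).of_surjective φ.rangeRestrict φ.rangeRestrict_surjective
  haveI : Nontrivial φ.range := by
    obtain ⟨p, q, hpq⟩ : ∃ p q : cls D x y, p ≠ q := by
      obtain ⟨p, hp, q, hq, hne⟩ := (Set.one_lt_ncard (Set.toFinite _)).1 (cls_two_le hP hx hy)
      exact ⟨⟨p, hp⟩, ⟨q, hq⟩, fun h => hne (congrArg Subtype.val h)⟩
    obtain ⟨g, hg⟩ := htrans p q
    exact nontrivial_of_ne ⟨φ g, g, rfl⟩ 1 fun h => hpq (by
      rw [← hg, show φ g = 1 from congrArg Subtype.val h]; rfl)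
  haveI := hp.center_nontrivial
  obtain ⟨τ, hτ⟩ : ∃ τ : Subgroup.center φ.range, orderOf τ = 2 := by
    refine exists_prime_orderOf_dvd_card' 2 ?_
    obtain ⟨n, hn⟩ := (hp.to_subgroup (Subgroup.center φ.range)).exists_card_eq
    have : n ≠ 0 := by
      rintro rfl
      rw [pow_zero] at hn
      exact absurd hn (Finite.one_lt_card (α := Subgroup.center φ.range)).ne'
    rw [hn]
    exact dvd_pow_self 2 this
  obtain ⟨⟨_, g, rfl⟩, hc⟩ := τ
  have hcomm : ∀ u : two D x, ∀ q, φ g (φ u q) = φ u (φ g q) := fun u q => by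
    have h := congrArg Subtype.val (Subgroup.mem_center_iff.1 hc ⟨φ u, u, rfl⟩)
    exact (congrArg (fun π : Equiv.Perm (cls D x y) => π q) h).symm
  have hsq : φ g * φ g = 1 := by
    have h := congrArg (fun z : Subgroup.center φ.range => ((z : φ.range) : Equiv.Perm (cls D x y)))
      (pow_orderOf_eq_one (G := Subgroup.center φ.range) ⟨⟨φ g, g, rfl⟩, hc⟩)
    rw [hτ] at h
    simpa [pow_two] using h
  refine ⟨g, g.2, fun u hu q hq => congrArg Subtype.val (hcomm ⟨u, hu⟩ ⟨q, hq⟩), fun q hq h => ?_,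
    fun q hq => congrArg Subtype.val (congrArg (fun π : Equiv.Perm (cls D x y) => π ⟨q, hq⟩) hsq)⟩
  have hall : φ g = 1 := Equiv.ext fun p => by
    obtain ⟨u, rfl⟩ := htrans ⟨q, hq⟩ p
    rw [hcomm, show φ g ⟨q, hq⟩ = ⟨q, hq⟩ from Subtype.ext h]
    rfl
  have h1 : (⟨⟨φ g, g, rfl⟩, hc⟩ : Subgroup.center φ.range) = 1 := Subtype.ext (Subtype.ext hall)
  rw [h1, orderOf_one] at hτ
  exact absurd hτ (by norm_num)

theorem cls_card (hF : IsFischer D) (hx : x ∈ D) {y d : G} (hy : y ∈ perp D x) (hd : d ∈ perp D x) :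
    (cls D x d).ncard = (cls D x y).ncard := by
  have h : ∀ z ∈ perp D x, (cls D x z).ncard + 1 = (ln D x z).ncard := fun z _ => by
    rw [show cls D x z = ln D x z \ {x} from rfl,
      Set.ncard_sdiff_singleton_add_one (left_mem hx) (Set.toFinite _)]
  have h1 := ln_card hF hx hy.1 hy.2.1.symm hy.2.2 hx hd.1 hd.2.1.symm hd.2.2
  rw [← h y hy, ← h d hd] at h1
  omega

/-- A class of non-commuting members moves a point to any point of the class. -/
theorem exists_shift (hF : IsFischer D) (hx : x ∈ D) {y d s q : G} (hy : y ∈ perp D x)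
    (hd : d ∈ perp D x) (hs : s ∈ cls D x y) (hq : q ∈ cls D x y) (hn : ¬ Commute d s) :
    ∃ d' ∈ cls D x d, (d' * d) * s * (d' * d)⁻¹ = q := by
  have hD := hF.toTrans
  set f := fun d' => (d' * d) * s * (d' * d)⁻¹ with hf
  have hmaps : f '' cls D x d ⊆ cls D x y := by
    rintro _ ⟨d', hd', rfl⟩
    rw [← cls_eq hF hx hy hs]
    refine two_conj hF hx (cls_perp hx hy hs) ?_
    have h := inv_mem (two_of_twin hF hx hd hd')
    rwa [_root_.mul_inv_rev, inv_eq hD hd'.1.1, inv_eq hD hd.1] at h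
  have hinj : Set.InjOn f (cls D x d) := by
    intro u hu v hv h
    have hz : ∀ d' ∈ cls D x d, ¬ Commute d' (cj d s) := fun d' hd' hc => hn (
      ((cls_commute_iff hF hx hd hd' (self_mem_cls hd) (cls_perp hx hy hs).1
        (cls_perp hx hy hs).2.2.symm).1
        ((commute_cj_of hD hd.1 (cls_commute hF hx hd (self_mem_cls hd) hd')).1 hc).symm).symm)
    have hzD : cj d s ∈ D := cj_mem hD hd.1 hs.1.1
    have h' : cj u (cj d s) = cj v (cj d s) := by
      have e : ∀ d' ∈ cls D x d, cj d' (cj d s) = f d' := fun d' hd' => by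
        rw [hf]; simp only [_root_.mul_inv_rev, inv_eq hD hd'.1.1, inv_eq hD hd.1, cj_def, mul_assoc]
      rw [e u hu, e v hv]; exact h
    rw [braid hD hu.1.1 hzD (hz u hu), braid hD hv.1.1 hzD (hz v hv), cj_inj hD hzD] at h'
    exact h'
  have heq : f '' cls D x d = cls D x y := Set.eq_of_subset_of_ncard_le hmaps (by
    rw [hinj.ncard_image, cls_card hF hx hy hd]) (Set.toFinite _)
  rw [← heq] at hq
  exact hq

/-- Two orbits of a central involution on a class multiply to the centre. -/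
theorem pairs_eq (hP : IsPolar D) (hx : x ∈ D) {y g s w : G} (hy : y ∈ perp D x)
    (hg : ∀ u ∈ two D x, ∀ q ∈ cls D x y, g * (u * q * u⁻¹) * g⁻¹ = u * (g * q * g⁻¹) * u⁻¹)
    (hgm : ∀ q ∈ cls D x y, g * q * g⁻¹ ∈ cls D x y) (hs : s ∈ cls D x y) (hw : w ∈ cls D x y)
    (hfix : g * s * g⁻¹ ≠ s) (hw1 : w ≠ s) (hw3 : g * w * g⁻¹ ≠ s)
    (hfixw : g * w * g⁻¹ ≠ w) :
    (s * (g * s * g⁻¹)) * (w * (g * w * g⁻¹)) = x := by
  have hF := hP.toIsFischer
  have hD := hF.toTrans
  set s' := g * s * g⁻¹ with hs'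
  set w' := g * w * g⁻¹ with hw'
  have hcl := fun {p q : G} hp hq => cls_commute hF hx hy (p := p) (q := q) hp hq
  have hs'm : s' ∈ cls D x y := hgm s hs
  have hw'm : w' ∈ cls D x y := hgm w hw
  have hsq : ∀ {p q : G}, p ∈ cls D x y → q ∈ cls D x y → (p * q) * (p * q) = 1 := fun {p q} hp hq => by
    rw [show p * q * (p * q) = p * (q * p) * q by simp only [mul_assoc], (hcl hq hp).eq, ← mul_assoc, mul_self hD hp.1.1, one_mul, mul_self hD hq.1.1]
  set c := (s * s') * (w * w') with hc
  have hc' : c = (s * w) * (s' * w') := by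
    rw [hc, mul_assoc, ← mul_assoc s', (hcl hs'm hw).eq]; simp only [mul_assoc]
  have hcom : Commute (s * s') (w * w') :=
    ((hcl hs hw).mul_right (hcl hs hw'm)).mul_left ((hcl hs'm hw).mul_right (hcl hs'm hw'm))
  have hcc : c * c = 1 := by
    rw [hc, mul_assoc, ← mul_assoc (w * w'), hcom.symm.eq, mul_assoc (s * s'), hsq hw hw'm, mul_one,
      hsq hs hs'm]
  have hcx : Commute c x := by
    have h : ∀ q ∈ cls D x y, Commute q x := fun q hq => (cls_perp hx hy hq).2.2.symm
    exact ((h s hs).mul_left (h _ hs'm)).mul_left ((h w hw).mul_left (h _ hw'm))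
  have hcp : ∀ d ∈ perp D x, Commute c d := by
    intro d hd
    by_cases hds : Commute d s
    · have h : ∀ q ∈ cls D x y, Commute q d := fun q hq =>
        ((cls_commute_iff hF hx hy hs hq hd.1 hd.2.2.symm).1 hds).symm
      exact ((h s hs).mul_left (h _ hs'm)).mul_left ((h w hw).mul_left (h _ hw'm))
    obtain ⟨d', hd', e1⟩ := exists_shift hF hx hy hd hs hs'm hds
    obtain ⟨d'', hd'', e2⟩ := exists_shift hF hx hy hd hs hw hds
    set u := d' * d with hu
    set v := d'' * d with hv
    have hvt : v ∈ two D x := by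
      have h := inv_mem (two_of_twin hF hx hd hd'')
      rwa [_root_.mul_inv_rev, inv_eq hD hd''.1.1, inv_eq hD hd.1] at h
    have hM := fun {p q : G} hp hq => cls_commute hF hx hd (p := p) (q := q) hp hq
    have huv : Commute u v := ((hM hd' hd'').mul_right (hM hd' (self_mem_cls hd))).mul_left
      ((hM (self_mem_cls hd) hd'').mul_right (Commute.refl d))
    have e3 : u * w * u⁻¹ = w' := by
      calc u * w * u⁻¹ = (u * v) * s * (u * v)⁻¹ := by rw [← e2]; group
        _ = (v * u) * s * (v * u)⁻¹ := by rw [huv.eq]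
        _ = v * (u * s * u⁻¹) * v⁻¹ := by group
        _ = w' := by rw [e1, hs', ← hg v hvt s hs, e2, hw']
    have hqd : (s * w) * d * (s * w)⁻¹ ∈ cls D x d := by
      refine two_conj hF hx hd ?_
      exact two_of_twin hF hx (cls_perp hx hy hs) ((cls_eq hF hx hy hs).symm ▸ hw)
    have hud : Commute u d := (hM hd' (self_mem_cls hd)).mul_left (Commute.refl d)
    have huq : Commute u ((s * w) * d * (s * w)⁻¹) := (hM hd' hqd).mul_left (hM (self_mem_cls hd) hqd)
    have e4 : (s' * w') * d * (s' * w')⁻¹ = (s * w) * d * (s * w)⁻¹ := by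
      calc (s' * w') * d * (s' * w')⁻¹ = u * ((s * w) * (u⁻¹ * d * u) * (s * w)⁻¹) * u⁻¹ := by
            rw [← e1, ← e3]; group
        _ = u * ((s * w) * d * (s * w)⁻¹) * u⁻¹ := by
            rw [show u⁻¹ * d * u = d by rw [mul_assoc, ← hud.eq, inv_mul_cancel_left]]
        _ = (s * w) * d * (s * w)⁻¹ := by rw [huq.eq, mul_inv_cancel_right]
    refine mul_inv_eq_iff_eq_mul.1 ?_
    calc c * d * c⁻¹ = (s * w) * ((s' * w') * d * (s' * w')⁻¹) * (s * w)⁻¹ := by rw [hc']; group
      _ = ((s * w) * (s * w)) * d * ((s * w) * (s * w))⁻¹ := by rw [e4]; group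
      _ = d := by rw [hsq hs hw, one_mul, inv_one, mul_one]
  rcases kernel_invol hP hx hcc hcx hcp with h1 | h1
  · refine absurd ?_ (four_ne hP hx hy hs hs'm hw hw'm hfix.symm hw1.symm hw3.symm hfixw.symm)
    rw [eq_inv_of_mul_eq_one_left h1, inv_eq_of_mul_eq_one_right (hsq hw hw'm)]
  · exact h1

/-- Lines have three or five points. -/
theorem cls_two_or_four (hP : IsPolar D) (hx : x ∈ D) {y : G} (hy : y ∈ perp D x) :
    (cls D x y).ncard = 2 ∨ (cls D x y).ncard = 4 := by
  have hF := hP.toIsFischer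
  obtain ⟨k, hk⟩ := cls_even hP hx hy
  have h2 := cls_two_le hP hx hy
  by_contra hcon
  have h6 : 6 ≤ (cls D x y).ncard := by omega
  obtain ⟨g, hg2, hg, hfix, hinv⟩ := exists_central hP hx hy
  have hgm : ∀ q ∈ cls D x y, g * q * g⁻¹ ∈ cls D x y := fun q hq => by
    rw [← cls_eq hF hx hy hq]; exact two_conj hF hx (cls_perp hx hy hq) hg2
  have pick : ∀ A : Set G, A.ncard < 6 → ∃ w ∈ cls D x y, w ∉ A := fun A hA =>
    Set.exists_mem_notMem_of_ncard_lt_ncard (by omega) (Set.toFinite _)
  set s := y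
  have hs : s ∈ cls D x y := self_mem_cls hy
  set s' := g * s * g⁻¹ with hs'
  obtain ⟨w, hw, hwn⟩ := pick {s, s'} (lt_of_le_of_lt (Set.ncard_insert_le _ _) (by simp))
  simp only [Set.mem_insert_iff, Set.mem_singleton_iff, not_or] at hwn
  set w' := g * w * g⁻¹ with hw'
  obtain ⟨v, hv, hvn⟩ := pick {s, s', w, w'} (by
    refine lt_of_le_of_lt (le_trans (Set.ncard_insert_le _ _) (Nat.add_le_add_right (le_trans
      (Set.ncard_insert_le _ _) (Nat.add_le_add_right (Set.ncard_insert_le _ _) 1)) 1)) ?_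
    rw [Set.ncard_singleton]; norm_num)
  simp only [Set.mem_insert_iff, Set.mem_singleton_iff, not_or] at hvn
  have hne : ∀ q ∈ cls D x y, ∀ r ∈ cls D x y, g * q * g⁻¹ = r → q = g * r * g⁻¹ :=
    fun q hq r _ h => by rw [← h, hinv q hq]
  have e1 := pairs_eq hP hx hy hg hgm hs hw (hfix s hs) hwn.1 (fun h => hwn.2 (hne w hw s hs h)) (hfix w hw)
  have e2 := pairs_eq hP hx hy hg hgm hs hv (hfix s hs) hvn.1 (fun h => hvn.2.1 (hne v hv s hs h)) (hfix v hv)
  exact four_ne hP hx hy hw (hgm w hw) hv (hgm v hv) (hfix w hw).symm (Ne.symm hvn.2.2.1)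
    (fun h => hvn.2.2.2 (hne v hv w hw h.symm)) (hfix v hv).symm (mul_left_cancel (e1.trans e2.symm))

/-- The four points of a class multiply to the centre. -/
theorem prod_four (hP : IsPolar D) (hx : x ∈ D) {y a b c d : G} (hy : y ∈ perp D x)
    (ha : a ∈ cls D x y) (hb : b ∈ cls D x y) (hc : c ∈ cls D x y) (hd : d ∈ cls D x y) (hab : a ≠ b)
    (hac : a ≠ c) (had : a ≠ d) (hbc : b ≠ c) (hbd : b ≠ d) (hcd : c ≠ d) :
    (a * b) * (c * d) = x := by
  have hF := hP.toIsFischer
  have hcl := fun {p q : G} hp hq => (cls_commute hF hx hy (p := p) (q := q) hp hq).eq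
  have h4 : ({a, b, c, d} : Set G) = cls D x y := by
    refine Set.eq_of_subset_of_ncard_le ?_ ?_ (Set.toFinite _)
    · rintro z (rfl | rfl | rfl | rfl) <;> assumption
    · rw [Set.ncard_insert_of_notMem (by simp [hab, hac, had]) (Set.toFinite _),
        Set.ncard_insert_of_notMem (by simp [hbc, hbd]) (Set.toFinite _), Set.ncard_pair hcd]
      rcases cls_two_or_four hP hx hy with h | h <;> omega
  obtain ⟨g, hg2, hg, hfix, hinv⟩ := exists_central hP hx hy
  have hgm : ∀ q ∈ cls D x y, g * q * g⁻¹ ∈ cls D x y := fun q hq => by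
    rw [← cls_eq hF hx hy hq]; exact two_conj hF hx (cls_perp hx hy hq) hg2
  have hin : ∀ q ∈ cls D x y, q = a ∨ q = b ∨ q = c ∨ q = d := fun q hq => by
    rw [← h4] at hq
    simpa using hq
  have main : ∀ p q r : G, g * a * g⁻¹ = p → q ∈ cls D x y → r ∈ cls D x y → q ≠ a → q ≠ p →
      r ≠ a → r ≠ p → r ≠ q → (∀ z ∈ cls D x y, z = a ∨ z = p ∨ z = q ∨ z = r) →
      (a * p) * (q * r) = x := by
    intro p q r hp hq hr hqa hqp hra hrp hrq hcover
    have hga : g * q * g⁻¹ ≠ a := fun h => hqp (by rw [← hp, ← h, hinv q hq])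
    have hgr : g * q * g⁻¹ = r := by
      rcases hcover _ (hgm q hq) with h | h | h | h
      · exact absurd h hga
      · exfalso; exact hqa (by
          have := congrArg (fun z => g * z * g⁻¹) (h.trans hp.symm)
          simpa [hinv q hq, hinv a ha] using this)
      · exact absurd h (hfix q hq)
      · exact h
    rw [← hp, ← hgr]
    exact pairs_eq hP hx hy hg hgm ha hq (hfix a ha) hqa hga (hfix q hq)
  rcases hin _ (hgm a ha) with h | h | h | h
  · exact absurd h (hfix a ha)
  · exact main b c d h hc hd hac.symm hbc.symm had.symm hbd.symm hcd.symm hin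
  · rw [← main c b d h hb hd hab.symm hbc had.symm hcd.symm hbd.symm
      (fun z hz => (hin z hz).imp id (fun h => h.elim (fun h => Or.inr (Or.inl h))
        (fun h => h.elim Or.inl (fun h => Or.inr (Or.inr h)))))]
    rw [mul_assoc, mul_assoc, ← mul_assoc b, hcl hb hc, mul_assoc]
  · rw [← main d b c h hb hc hab.symm hbd hac.symm hcd hbc.symm
      (fun z hz => (hin z hz).imp id (fun h => h.elim (fun h => Or.inr (Or.inl h))
        (fun h => h.elim (fun h => Or.inr (Or.inr h)) Or.inl)))]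
    rw [mul_assoc, mul_assoc, show d * (b * c) = b * (c * d) by
      rw [← mul_assoc, hcl hd hb, mul_assoc, hcl hd hc]]

end Cfsg.Lib.Fischer.Polar
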