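import Mathlib

/-!
# A function on singular vectors which is additive on perpendicular pairs is linear

As a consequence a central extension of a quadratic space with marked lifts of the singular vectors has
a coordinate adapted to a given bilinear form.
-/

set_option autoImplicit false
set_option linter.unusedSectionVars false
set_option linter.style.haveILetI false

namespace Cfsg.Lib.Fischer.Polar

variable {U : Type*} [AddCommGroup U] [Module (ZMod 2) U]
  (γ : U →ₗ[ZMod 2] U →ₗ[ZMod 2] ZMod 2)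

/-- The polar form of a bilinear form. -/
def pol : U → U → ZMod 2 := fun u v => γ u v + γ v u

theorem quad_add (u v : U) : γ (u + v) (u + v) = γ u u + γ v v + pol γ u v := by
  simp only [pol, map_add, LinearMap.add_apply]; abel

theorem pol_comm (u v : U) : pol γ u v = pol γ v u := by simp only [pol]; abel

theorem pol_add (u v w : U) : pol γ (u + v) w = pol γ u w + pol γ v w := by
  simp only [pol, map_add, LinearMap.add_apply]; abel

theorem pol_smul (c : ZMod 2) (u w : U) : pol γ (c • u) w = c * pol γ u w := by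
  simp [pol, mul_add]

theorem pol_self (u : U) : pol γ u u = 0 := ZModModule.add_self _

theorem dbl {M : Type*} [AddCommGroup M] [Module (ZMod 2) M] (v : M) : v + v = 0 := ZModModule.add_self v

theorem z2 : ∀ z : ZMod 2, z = 0 ∨ z = 1 := by decide

variable {M : Type*} [AddCommGroup M] [Module (ZMod 2) M] (f : U → M)

/-- `f` extends to a linear map. -/
theorem exists_linear (hf0 : f 0 = 0)
    (hf : ∀ a b, γ a a = 0 → γ b b = 0 → pol γ a b = 0 → f (a + b) = f a + f b)
    (hnd : ∀ u, u ≠ 0 → ∃ v, pol γ u v = 1)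
    {e e' a₀ : U} (he : γ e e = 0) (he' : γ e' e' = 0) (hee : pol γ e e' = 1) (ha₀ : γ a₀ a₀ = 0)
    (h0 : a₀ ≠ 0) (ha₀e : pol γ a₀ e = 0) (ha₀e' : pol γ a₀ e' = 0) :
    ∃ L : U →ₗ[ZMod 2] M, ∀ a, γ a a = 0 → L a = f a := by
  classical
  have hee' : pol γ e' e = 1 := by rw [pol_comm]; exact hee
  let pr : U → U := fun v => v + pol γ v e' • e + pol γ v e • e'
  let InP : U → Prop := fun v => pol γ v e = 0 ∧ pol γ v e' = 0
  have hpr : ∀ v, InP (pr v) := fun v => by
    constructor <;>
      simp only [pr, pol_add, pol_smul, pol_self, hee, hee', mul_one, mul_zero, add_zero, dbl]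
  have hpadd : ∀ {u v}, InP u → InP v → InP (u + v) := fun {u v} hu hv =>
    ⟨by rw [pol_add, hu.1, hv.1, add_zero], by rw [pol_add, hu.2, hv.2, add_zero]⟩
  have hqe : ∀ {u}, InP u → γ (e + u) (e + u) = γ u u := fun {u} hu => by
    rw [quad_add, he, zero_add, pol_comm, hu.1, add_zero]
  have hqe' : ∀ {u}, InP u → γ (e' + u) (e' + u) = γ u u := fun {u} hu => by
    rw [quad_add, he', zero_add, pol_comm, hu.2, add_zero]
  have hqs : γ (e + e') (e + e') = 1 := by rw [quad_add, he, he', hee]; rfl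
  have hps : ∀ {u}, InP u → pol γ (e + e') u = 0 := fun {u} hu => by
    rw [pol_add, pol_comm γ e, pol_comm γ e', hu.1, hu.2, add_zero]
  have hq : ∀ {u}, InP u → γ u u = 1 → γ (e + e' + u) (e + e' + u) = 0 := fun {u} hu h => by
    rw [quad_add, hqs, h, hps hu, add_zero]; rfl
  let c := f e + f e'
  let L' : U → M := fun u => if γ u u = 0 then f u else f (e + e' + u) + c
  have hL0 : ∀ {u}, γ u u = 0 → L' u = f u := fun {u} h => if_pos h
  have hL1 : ∀ {u}, γ u u = 1 → L' u = f (e + e' + u) + c := fun {u} h => if_neg (by rw [h]; decide)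
  -- decompositions
  have hdec : ∀ {u}, InP u → γ u u = 1 → ∃ a, InP a ∧ γ a a = 0 ∧ pol γ u a = 1 := by
    intro u hu hq1
    rcases z2 (pol γ u a₀) with h | h
    swap
    · exact ⟨a₀, ⟨ha₀e, ha₀e'⟩, ha₀, h⟩
    have hne : u + a₀ ≠ 0 := fun e1 => by
      have : γ (u + a₀) (u + a₀) = 0 := by rw [e1, map_zero]
      rw [quad_add, hq1, ha₀, h] at this
      simp at this
    have hu0 : u ≠ 0 := fun e1 => by rw [e1, map_zero] at hq1; exact zero_ne_one hq1
    obtain ⟨w, hw1, hw2⟩ : ∃ w, pol γ u w = 1 ∧ pol γ a₀ w = 1 := by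
      obtain ⟨w₁, h1⟩ := hnd u hu0
      obtain ⟨w₂, h2⟩ := hnd a₀ h0
      rcases z2 (pol γ a₀ w₁) with h3 | h3
      swap
      · exact ⟨w₁, h1, h3⟩
      rcases z2 (pol γ u w₂) with h4 | h4
      swap
      · exact ⟨w₂, h4, h2⟩
      exact ⟨w₁ + w₂, by rw [pol_comm, pol_add, pol_comm γ w₁, pol_comm γ w₂, h1, h4, add_zero],
        by rw [pol_comm, pol_add, pol_comm γ w₁, pol_comm γ w₂, h3, h2, zero_add]⟩
    have hsame : ∀ {z}, InP z → pol γ z (pr w) = pol γ z w := fun {z} hz => by
      rw [pol_comm γ z]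
      simp only [pr, pol_add, pol_smul]
      rw [pol_comm γ e, pol_comm γ e', hz.1, hz.2, pol_comm γ w z]
      simp
    have h5 : pol γ u (pr w) = 1 := (hsame hu).trans hw1
    rcases z2 (γ (pr w) (pr w)) with h6 | h6
    · exact ⟨_, hpr w, h6, h5⟩
    · refine ⟨pr w + a₀, hpadd (hpr w) ⟨ha₀e, ha₀e'⟩, ?_, ?_⟩
      · rw [quad_add, h6, ha₀, pol_comm, hsame ⟨ha₀e, ha₀e'⟩, hw2]; rfl
      · rw [pol_comm, pol_add, pol_comm γ (pr w), h5, pol_comm γ a₀, h, add_zero]
  have hpair : ∀ {a b}, InP a → InP b → γ a a = 0 → γ b b = 0 → pol γ a b = 1 →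
      L' (a + b) = f a + f b := by
    intro a b pa pb qa qb hab
    rw [hL1 (by rw [quad_add, qa, qb, hab, zero_add, zero_add]),
      show e + e' + (a + b) = (e + a) + (e' + b) by abel,
      hf _ _ (by rw [hqe pa, qa]) (by rw [hqe' pb, qb]) (by
        rw [pol_add, pol_comm γ e (e' + b), pol_comm γ a (e' + b), pol_add, pol_add, hee',
          pb.1, pol_comm γ e' a, pa.2, pol_comm γ b a, hab]; rfl),
      hf _ _ he qa (by rw [pol_comm]; exact pa.1), hf _ _ he' qb (by rw [pol_comm]; exact pb.2)]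
    simp only [c]
    rw [show f e + f a + (f e' + f b) + (f e + f e') = f a + f b + (f e + f e) + (f e' + f e') by abel,
      dbl, dbl, add_zero, add_zero]
  have hmix : ∀ {a u}, InP a → InP u → γ a a = 0 → L' (a + u) = L' a + L' u := by
    intro a u pa pu qa
    rw [hL0 qa]
    rcases z2 (γ u u) with qu | qu <;> rcases z2 (pol γ a u) with hau | hau
    · rw [hL0 qu, hL0 (by rw [quad_add, qa, qu, hau]; rfl), hf a u qa qu hau]
    · rw [hL0 qu, hpair pa pu qa qu hau]
    · rw [hL1 qu, hL1 (by rw [quad_add, qa, qu, hau, zero_add, add_zero]),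
        show e + e' + (a + u) = a + (e + e' + u) by abel,
        hf a _ qa (hq pu qu) (by rw [pol_comm, pol_add, hps pa, zero_add, pol_comm, hau]), add_assoc]
    · have qb : γ (a + u) (a + u) = 0 := by rw [quad_add, qa, qu, hau]; rfl
      have hab : pol γ a (a + u) = 1 := by rw [pol_comm, pol_add, pol_self, zero_add, pol_comm, hau]
      have h := hpair pa (hpadd pa pu) qa qb hab
      rw [← add_assoc, dbl, zero_add] at h
      rw [hL0 qb, h, ← add_assoc, dbl, zero_add]
  have hadd : ∀ {u v}, InP u → InP v → L' (u + v) = L' u + L' v := by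
    intro u v pu pv
    rcases z2 (γ u u) with qu | qu
    · exact hmix pu pv qu
    rcases z2 (γ v v) with qv | qv
    · rw [add_comm u, hmix pv pu qv, add_comm]
    rcases z2 (pol γ u v) with huv | huv
    · rw [hL1 qu, hL1 qv, hL0 (by rw [quad_add, qu, qv, huv]; rfl),
        show u + v = (e + e' + u) + (e + e' + v) by
          rw [show e + e' + u + (e + e' + v) = u + v + ((e + e') + (e + e')) by abel, dbl, add_zero],
        hf _ _ (hq pu qu) (hq pv qv) (by
          rw [pol_add, pol_comm γ (e + e') (e + e' + v), pol_comm γ u (e + e' + v),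
            pol_add γ (e + e') v, pol_add γ (e + e') v, pol_self, pol_comm γ v (e + e'), hps pv, hps pu,
            pol_comm γ v u, huv]; rfl)]
      rw [show f (e + e' + u) + c + (f (e + e' + v) + c) = f (e + e' + u) + f (e + e' + v) + (c + c) by abel,
        dbl, add_zero]
    · obtain ⟨a, pa, qa, hua⟩ := hdec pu qu
      have pb : InP (u + a) := hpadd pu pa
      have qb : γ (u + a) (u + a) = 0 := by rw [quad_add, qu, qa, hua]; rfl
      have e1 : u = a + (u + a) := by rw [add_comm u, ← add_assoc, dbl, zero_add]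
      calc L' (u + v) = L' ((u + a) + (a + v)) := by
            rw [show u + a + (a + v) = u + v + (a + a) by abel, dbl, add_zero]
        _ = L' (u + a) + (L' a + L' v) := by rw [hmix pb (hpadd pa pv) qb, hmix pa pv qa]
        _ = L' (a + (u + a)) + L' v := by rw [hmix pa pb qa]; abel
        _ = L' u + L' v := by rw [← e1]
  have hzero : InP 0 := by constructor <;> simp [pol]
  have hL0' : L' 0 = 0 := by rw [hL0 (by simp), hf0]
  have hpradd : ∀ u v, pr (u + v) = pr u + pr v := fun u v => by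
    simp only [pr, pol_add, add_smul]; abel
  let L : U → M := fun v => pol γ v e' • f e + pol γ v e • f e' + L' (pr v)
  have hLadd : ∀ u v, L (u + v) = L u + L v := fun u v => by
    simp only [L]
    rw [hpradd, hadd (hpr u) (hpr v)]
    simp only [pol_add, add_smul]; abel
  refine ⟨{ toFun := L, map_add' := hLadd, map_smul' := fun k v => ?_ }, fun a qa => ?_⟩
  · rcases z2 k with rfl | rfl
    · have h1 : L 0 + L 0 = L 0 := by rw [← hLadd, add_zero]
      rw [zero_smul, RingHom.id_apply, zero_smul]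
      exact add_left_cancel (h1.trans (add_zero _).symm)
    · rw [one_smul, RingHom.id_apply, one_smul]
  show L a = f a
  have hv : a = pr a + pol γ a e' • e + pol γ a e • e' := by
    simp only [pr]
    rw [show a + pol γ a e' • e + pol γ a e • e' + pol γ a e' • e + pol γ a e • e' =
      a + (pol γ a e' • e + pol γ a e' • e) + (pol γ a e • e' + pol γ a e • e') by abel, dbl, dbl,
      add_zero, add_zero]
  simp only [L]
  rcases z2 (pol γ a e') with h1 | h1 <;> rcases z2 (pol γ a e) with h2 | h2 <;>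
    simp only [h1, h2, zero_smul, one_smul, add_zero, zero_add] at hv ⊢
  · rw [← hv, hL0 qa]
  · have q : γ (pr a) (pr a) = 0 := by rw [← hqe' (hpr a), add_comm, ← hv, qa]
    rw [hL0 q]
    nth_rw 2 [hv]
    rw [add_comm (pr a), hf _ _ he' q (by rw [pol_comm]; exact (hpr a).2)]
  · have q : γ (pr a) (pr a) = 0 := by rw [← hqe (hpr a), add_comm, ← hv, qa]
    rw [hL0 q]
    nth_rw 2 [hv]
    rw [add_comm (pr a), hf _ _ he q (by rw [pol_comm]; exact (hpr a).1)]
  · have hv' : a = e + e' + pr a := hv.trans (by abel)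
    have q : γ (pr a) (pr a) = 1 := by
      rcases z2 (γ (pr a) (pr a)) with h | h
      · exfalso
        rw [hv', quad_add, hqs, h, hps (hpr a)] at qa
        simp at qa
      · exact h
    rw [hL1 q, ← hv', show f e + f e' + (f a + c) = f a + (c + c) by simp only [c]; abel, dbl, add_zero]

/-- A twisted sum of `U` and the field. -/
def Twist (_c : U → U → ZMod 2) : Type _ := U × ZMod 2

/-- The coordinate on a central extension. -/
theorem exists_coord {T : Type*} [Group T] (π : T → U) {x : T}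
    (hπ : ∀ t t', π (t * t') = π t + π t') (hsurj : Function.Surjective π)
    (hker : ∀ t, π t = 0 → t = 1 ∨ t = x) (hπx : π x = 0) (hx2 : x * x = 1) (hx1 : x ≠ 1)
    (hxc : ∀ t : T, t * x = x * t)
    (hsq : ∀ t, t * t = if γ (π t) (π t) = 0 then 1 else x)
    (hcomm : ∀ t t', t * t' = t' * t * if pol γ (π t) (π t') = 0 then 1 else x)
    (r : U → T) (hr : ∀ a, γ a a = 0 → π (r a) = a) (hr0 : r 0 = 1)
    (hadd : ∀ a b, γ a a = 0 → γ b b = 0 → pol γ a b = 0 →
      r a * r b = r (a + b) * if γ a b = 0 then 1 else x)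
    (hnd : ∀ u, u ≠ 0 → ∃ v, pol γ u v = 1) (hspan : Submodule.span (ZMod 2) {a | γ a a = 0} = ⊤)
    {e e' a₀ : U} (he : γ e e = 0) (he' : γ e' e' = 0) (hee : pol γ e e' = 1) (ha₀ : γ a₀ a₀ = 0)
    (h0 : a₀ ≠ 0) (ha₀e : pol γ a₀ e = 0) (ha₀e' : pol γ a₀ e' = 0) :
    ∃ χ : T → ZMod 2, (∀ t t', χ (t * t') = χ t + χ t' + γ (π t) (π t')) ∧ χ x = 1 ∧
      ∀ a, γ a a = 0 → χ (r a) = 0 := by
  classical
  let xp : ZMod 2 → T := fun i => if i = 0 then 1 else x
  have xp0 : xp 0 = 1 := if_pos rfl
  have xp1 : xp 1 = x := if_neg (by decide)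
  have xpadd : ∀ i j, xp (i + j) = xp i * xp j := fun i j => by
    rcases z2 i with rfl | rfl <;> rcases z2 j with rfl | rfl
    · rw [add_zero, xp0, one_mul]
    · rw [zero_add, xp0, one_mul]
    · rw [add_zero, xp0, mul_one]
    · rw [show (1 : ZMod 2) + 1 = 0 from rfl, xp0, xp1, hx2]
  have xpinj : ∀ i j, xp i = xp j → i = j := fun i j h => by
    rcases z2 i with rfl | rfl <;> rcases z2 j with rfl | rfl <;> simp only [xp0, xp1] at h ⊢
    exacts [absurd h.symm hx1, absurd h hx1]
  have xpc : ∀ i t, xp i * t = t * xp i := fun i t => by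
    rcases z2 i with rfl | rfl
    · rw [xp0, one_mul, mul_one]
    · rw [xp1, hxc]
  choose σ₀ hσ₀ using hsurj
  let σ : U → T := fun u => if u = 0 then 1 else σ₀ u
  have π1 : π 1 = 0 := by
    have h := hπ 1 1
    rw [mul_one] at h
    exact add_left_cancel (h.symm.trans (add_zero _).symm)
  have πinv : ∀ t, π t⁻¹ = π t := fun t => by
    have h := hπ t t⁻¹
    rw [mul_inv_cancel, π1, eq_comm, ← ZModModule.sub_eq_add, sub_eq_zero] at h
    exact h.symm
  have σ0 : σ 0 = 1 := if_pos rfl
  have hσ : ∀ u, π (σ u) = u := fun u => by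
    by_cases h : u = 0
    · rw [h, σ0, π1]
    · simp only [σ, if_neg h, hσ₀]
  have coord : ∀ t, ∃ i, t = σ (π t) * xp i := fun t => by
    rcases hker ((σ (π t))⁻¹ * t) (by rw [hπ, πinv, hσ, dbl]) with h | h
    · exact ⟨0, by rw [xp0, mul_one]; exact (inv_mul_eq_one.1 h).symm⟩
    · exact ⟨1, by rw [xp1, ← h, mul_inv_cancel_left]⟩
  choose co hco using coord
  have co_uniq : ∀ {t u i}, t = σ u * xp i → π t = u ∧ co t = i := fun {t u i} h => by
    have hπxp : π (xp i) = 0 := by rcases z2 i with rfl | rfl <;> simp only [xp0, xp1, π1, hπx]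
    have hu : π t = u := by rw [h, hπ, hσ, hπxp, add_zero]
    refine ⟨hu, xpinj _ _ ?_⟩
    have h2 := hco t
    rw [hu] at h2
    exact mul_left_cancel (h2.symm.trans h)
  let δ : U → U → ZMod 2 := fun u v => co (σ u * σ v)
  have hδ : ∀ u v, σ u * σ v = σ (u + v) * xp (δ u v) := fun u v => by
    have h := hco (σ u * σ v)
    rwa [hπ, hσ, hσ] at h
  let c : U → U → ZMod 2 := fun u v => δ u v + γ u v
  have hc0 : ∀ u, c u 0 = 0 := fun u => by
    show δ u 0 + γ u 0 = 0
    rw [map_zero, add_zero]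
    exact (co_uniq (t := σ u * σ 0) (u := u) (i := 0) (by rw [σ0, mul_one, xp0, mul_one])).2
  have hassoc : ∀ u v w, c u v + c (u + v) w = c v w + c u (v + w) := fun u v w => by
    have h := mul_assoc (σ u) (σ v) (σ w)
    rw [hδ, mul_assoc, xpc, ← mul_assoc, hδ, mul_assoc, ← xpadd, hδ v w, ← mul_assoc, hδ, mul_assoc,
      ← xpadd, add_assoc u] at h
    have h' := xpinj _ _ (mul_left_cancel h)
    simp only [c, map_add, LinearMap.add_apply]
    linear_combination h'
  have hcs : ∀ u v, c u v = c v u := fun u v => by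
    have h := hcomm (σ u) (σ v)
    rw [show (if pol γ (π (σ u)) (π (σ v)) = 0 then (1 : T) else x) = xp (pol γ u v) by rw [hσ, hσ],
      hδ, hδ, mul_assoc, ← xpadd, add_comm v u] at h
    have h' := xpinj _ _ (mul_left_cancel h)
    simp only [c]
    rw [h']
    simp only [pol]
    linear_combination dbl (M := ZMod 2) (γ u v)
  have hcd : ∀ u, c u u = 0 := fun u => by
    have h := hsq (σ u)
    rw [show (if γ (π (σ u)) (π (σ u)) = 0 then (1 : T) else x) = σ 0 * xp (γ u u) by
      rw [hσ, σ0, one_mul]] at h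
    show δ u u + γ u u = 0
    rw [show δ u u = γ u u from (co_uniq h).2, dbl]
  have h0c : ∀ u, c 0 u = 0 := fun u => (hcs 0 u).trans (hc0 u)
  letI : Zero (Twist c) := ⟨((0 : U), (0 : ZMod 2))⟩
  letI : Add (Twist c) := ⟨fun p q => (p.1 + q.1, p.2 + q.2 + c p.1 q.1)⟩
  letI : Neg (Twist c) := ⟨fun p => p⟩
  letI iM : AddCommGroup (Twist c) :=
    { add_assoc := fun p q s => Prod.ext (add_assoc p.1 q.1 s.1) (by
        show p.2 + q.2 + c p.1 q.1 + s.2 + c (p.1 + q.1) s.1 = p.2 + (q.2 + s.2 + c q.1 s.1) + c p.1 (q.1 + s.1)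
        linear_combination hassoc p.1 q.1 s.1)
      zero_add := fun p => Prod.ext (zero_add p.1) (by
        show 0 + p.2 + c 0 p.1 = p.2
        rw [h0c, zero_add, add_zero])
      add_zero := fun p => Prod.ext (add_zero p.1) (by
        show p.2 + 0 + c p.1 0 = p.2
        rw [hc0, add_zero, add_zero])
      add_comm := fun p q => Prod.ext (add_comm p.1 q.1) (by
        show p.2 + q.2 + c p.1 q.1 = q.2 + p.2 + c q.1 p.1
        rw [hcs, add_comm p.2])
      neg_add_cancel := fun p => Prod.ext (dbl p.1) (by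
        show p.2 + p.2 + c p.1 p.1 = 0
        rw [dbl, hcd, add_zero])
      nsmul := nsmulRec
      zsmul := zsmulRec }
  letI mM : Module (ZMod 2) (Twist c) := AddCommGroup.zmodModule fun p => by
    rw [two_nsmul]
    exact Prod.ext (dbl p.1) (by show p.2 + p.2 + c p.1 p.1 = 0; rw [dbl, hcd, add_zero])
  have hη : ∀ a b, γ a a = 0 → γ b b = 0 → pol γ a b = 0 →
      co (r (a + b)) = co (r a) + co (r b) + c a b := by
    intro a b ha hb hab
    have hs : γ (a + b) (a + b) = 0 := by rw [quad_add, ha, hb, hab]; rfl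
    have h := hadd a b ha hb hab
    have e : r a * r b = σ (a + b) * xp (co (r a) + co (r b) + δ a b) := by
      conv_lhs => rw [hco (r a), hco (r b), hr a ha, hr b hb]
      rw [mul_assoc, ← mul_assoc (xp _), xpc, mul_assoc, ← xpadd, ← mul_assoc, hδ, mul_assoc, ← xpadd,
        add_comm (δ a b)]
    rw [e, hco (r (a + b)), hr _ hs, show (if γ a b = 0 then (1 : T) else x) = xp (γ a b) from rfl,
      mul_assoc, ← xpadd] at h
    have h' := xpinj _ _ (mul_left_cancel h)
    simp only [c]
    rw [← add_assoc, h', add_assoc, dbl, add_zero]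
  let g : U → Twist c := fun a => ((a, co (r a)) : U × ZMod 2)
  obtain ⟨L, hL⟩ := exists_linear γ g (Prod.ext rfl (by
      show co (r 0) = 0
      rw [hr0]; exact (co_uniq (by rw [σ0, xp0, mul_one])).2))
    (fun a b ha hb hab => Prod.ext rfl (hη a b ha hb hab)) hnd he he' hee ha₀ h0 ha₀e ha₀e'
  have hfst : ∀ u, (L u).1 = u := fun u => by
    have hu : u ∈ Submodule.span (ZMod 2) {a | γ a a = 0} := hspan ▸ Submodule.mem_top
    induction hu using Submodule.span_induction with
    | mem a ha => rw [hL a ha]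
    | zero => rw [map_zero]; rfl
    | add a b _ _ iha ihb =>
      rw [map_add]
      show (L a).1 + (L b).1 = a + b
      rw [iha, ihb]
    | smul k a _ iha =>
      rcases z2 k with rfl | rfl
      · rw [zero_smul, map_zero]; rfl
      · rwa [one_smul]
  have hsnd : ∀ u v, (L (u + v)).2 = (L u).2 + (L v).2 + c u v := fun u v => by
    rw [map_add]
    show (L u).2 + (L v).2 + c (L u).1 (L v).1 = _
    rw [hfst, hfst]
  refine ⟨fun t => co t + (L (π t)).2, fun t t' => ?_, ?_, fun a ha => ?_⟩
  · have h : co (t * t') = co t + co t' + δ (π t) (π t') := (co_uniq (u := π t + π t') (by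
      conv_lhs => rw [hco t, hco t']
      rw [mul_assoc, ← mul_assoc (xp _), xpc, mul_assoc, ← xpadd, ← mul_assoc, hδ, mul_assoc, ← xpadd,
        add_comm (δ _ _)])).2
    simp only [h, hπ, hsnd, c]
    linear_combination dbl (M := ZMod 2) (δ (π t) (π t'))
  · show co x + (L (π x)).2 = 1
    rw [(co_uniq (t := x) (u := (0 : U)) (i := 1) (by rw [σ0, xp1, one_mul])).2, hπx, map_zero]
    rfl
  · show co (r a) + (L (π (r a))).2 = 0
    rw [hr a ha, hL a ha]
    exact dbl _

end Cfsg.Lib.Fischer.Polar
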