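import Cfsg.Agent.Lib.Fischer.RankThree
import Cfsg.Agent.Lib.Fischer.Classes

/-!
# The lines of a 3-transposition group whose local 2-core is not central

The line through two commuting members consists of the members commuting with everything that commutes
with both. A member off a line commutes with one point of it or with all.
-/

set_option autoImplicit false
set_option linter.style.haveILetI false

namespace Cfsg.Lib.Fischer.Polar

open Cfsg Cfsg.Lib.Fischer

variable {G : Type*} [Group G] {D : Set G}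

/-- The members commuting with `a` and with `b`. -/
def com (D : Set G) (a b : G) : Set G := {d | d ∈ D ∧ Commute a d ∧ Commute b d}

/-- The members commuting with all common neighbours of `a` and `b`. -/
def ln (D : Set G) (a b : G) : Set G := {p | p ∈ D ∧ ∀ d ∈ com D a b, Commute p d}

/-- The points other than `x` of its line through `y`. -/
def cls (D : Set G) (x y : G) : Set G := {p | p ∈ ln D x y ∧ p ≠ x}

/-- Every line has at least three points. -/
structure IsPolar (D : Set G) : Prop extends IsFischer D where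
  thick : ∀ x ∈ D, ∀ y ∈ perp D x, ∃ w ∈ ln D x y, w ≠ x ∧ w ≠ y

theorem com_comm (a b : G) : com D a b = com D b a := by
  ext d
  exact ⟨fun h => ⟨h.1, h.2.2, h.2.1⟩, fun h => ⟨h.1, h.2.2, h.2.1⟩⟩

theorem ln_comm (a b : G) : ln D a b = ln D b a := by rw [ln, ln, com_comm]

theorem ln_mem {a b p : G} (h : p ∈ ln D a b) : p ∈ D := h.1

theorem left_mem {a b : G} (ha : a ∈ D) : a ∈ ln D a b := ⟨ha, fun _ h => h.2.1⟩

theorem right_mem {a b : G} (hb : b ∈ D) : b ∈ ln D a b := ⟨hb, fun _ h => h.2.2⟩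

theorem commute_left {a b p : G} (ha : a ∈ D) (hc : Commute a b) (h : p ∈ ln D a b) : Commute p a :=
  h.2 a ⟨ha, Commute.refl a, hc.symm⟩

theorem commute_right {a b p : G} (hb : b ∈ D) (hc : Commute a b) (h : p ∈ ln D a b) : Commute p b :=
  h.2 b ⟨hb, hc, Commute.refl b⟩

theorem mem_perp' {a b : G} (hb : b ∈ D) (hne : a ≠ b) (hc : Commute a b) : b ∈ perp D a :=
  ⟨hb, hne.symm, hc⟩

theorem cls_perp {x y p : G} (hx : x ∈ D) (hy : y ∈ perp D x) (h : p ∈ cls D x y) : p ∈ perp D x :=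
  ⟨h.1.1, h.2, (commute_left hx hy.2.2 h.1).symm⟩

theorem self_mem_cls {x y : G} (hy : y ∈ perp D x) : y ∈ cls D x y := ⟨right_mem hy.1, hy.2.1⟩

theorem conj_com (hD : Trans D) (g a b : G) :
    com D (g * a * g⁻¹) (g * b * g⁻¹) = (fun d => g * d * g⁻¹) '' com D a b := by
  ext d
  constructor
  · rintro ⟨h1, h2, h3⟩
    refine ⟨g⁻¹ * d * g, ⟨by simpa using hD.conj g⁻¹ d h1, ?_, ?_⟩, by group⟩
    · simpa [mul_assoc] using (Commute.conj_iff g⁻¹).2 h2
    · simpa [mul_assoc] using (Commute.conj_iff g⁻¹).2 h3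
  · rintro ⟨e, ⟨h1, h2, h3⟩, rfl⟩
    exact ⟨hD.conj g e h1, (Commute.conj_iff g).2 h2, (Commute.conj_iff g).2 h3⟩

theorem conj_mem_ln (hD : Trans D) (g : G) {a b p : G} (h : p ∈ ln D a b) :
    g * p * g⁻¹ ∈ ln D (g * a * g⁻¹) (g * b * g⁻¹) := by
  refine ⟨hD.conj g p h.1, ?_⟩
  rw [conj_com hD]
  rintro _ ⟨e, he, rfl⟩
  exact (Commute.conj_iff g).2 (h.2 e he)

theorem conj_ln (hD : Trans D) (g a b : G) :
    ln D (g * a * g⁻¹) (g * b * g⁻¹) = (fun d => g * d * g⁻¹) '' ln D a b := by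
  ext p
  refine ⟨fun h => ⟨g⁻¹ * p * g, ?_, by group⟩, ?_⟩
  · have := conj_mem_ln hD g⁻¹ h
    simpa [mul_assoc] using this
  · rintro ⟨q, hq, rfl⟩
    exact conj_mem_ln hD g hq

variable [Finite G]

theorem pair_conj (hF : IsFischer D) {a b c d : G} (ha : a ∈ D) (hb : b ∈ D) (hab : a ≠ b)
    (hcab : Commute a b) (hc : c ∈ D) (hd : d ∈ D) (hcd : c ≠ d) (hccd : Commute c d) :
    ∃ g : G, g * a * g⁻¹ = c ∧ g * b * g⁻¹ = d := by
  obtain ⟨g₁, hg₁⟩ := hF.trans a ha c hc
  have hb' : g₁ * b * g₁⁻¹ ∈ perp D c := hg₁ ▸ conj_perp hF g₁ a (mem_perp' hb hab hcab)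
  obtain ⟨g₂, hg₂, e₂⟩ := perp_transitive hF hc hb' (mem_perp' hd hcd hccd)
  have hg₂c : Commute g₂ c :=
    commute_of_mem_closure hF hc (Subgroup.closure_mono (Set.subset_insert _ _) hg₂)
  refine ⟨g₂ * g₁, ?_, ?_⟩
  · rw [show g₂ * g₁ * a * (g₂ * g₁)⁻¹ = g₂ * (g₁ * a * g₁⁻¹) * g₂⁻¹ by group, hg₁, hg₂c.eq,
      mul_inv_cancel_right]
  · rw [show g₂ * g₁ * b * (g₂ * g₁)⁻¹ = g₂ * (g₁ * b * g₁⁻¹) * g₂⁻¹ by group, e₂]

theorem com_card (hF : IsFischer D) {a b c d : G} (ha : a ∈ D) (hb : b ∈ D) (hab : a ≠ b)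
    (hcab : Commute a b) (hc : c ∈ D) (hd : d ∈ D) (hcd : c ≠ d) (hccd : Commute c d) :
    (com D c d).ncard = (com D a b).ncard := by
  obtain ⟨g, rfl, rfl⟩ := pair_conj hF ha hb hab hcab hc hd hcd hccd
  rw [conj_com hF.toTrans, Set.ncard_image_of_injective _ fun u v e => by simpa using e]

theorem ln_card (hF : IsFischer D) {a b c d : G} (ha : a ∈ D) (hb : b ∈ D) (hab : a ≠ b)
    (hcab : Commute a b) (hc : c ∈ D) (hd : d ∈ D) (hcd : c ≠ d) (hccd : Commute c d) :
    (ln D c d).ncard = (ln D a b).ncard := by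
  obtain ⟨g, rfl, rfl⟩ := pair_conj hF ha hb hab hcab hc hd hcd hccd
  rw [conj_ln hF.toTrans, Set.ncard_image_of_injective _ fun u v e => by simpa using e]

theorem com_eq_left (hF : IsFischer D) {a b p : G} (ha : a ∈ D) (hb : b ∈ D) (hab : a ≠ b)
    (hc : Commute a b) (hp : p ∈ ln D a b) (hpa : p ≠ a) : com D a p = com D a b := by
  refine (Set.eq_of_subset_of_ncard_le (show com D a b ⊆ com D a p from fun d hd => ⟨hd.1, hd.2.1, hp.2 d hd⟩) ?_
    (Set.toFinite _)).symm
  exact (com_card hF ha hb hab hc ha hp.1 hpa.symm (commute_left ha hc hp).symm).le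

theorem ln_eq_left (hF : IsFischer D) {a b p : G} (ha : a ∈ D) (hb : b ∈ D) (hab : a ≠ b)
    (hc : Commute a b) (hp : p ∈ ln D a b) (hpa : p ≠ a) : ln D a p = ln D a b := by
  rw [ln, com_eq_left hF ha hb hab hc hp hpa]; rfl

/-- Two points of a line determine it. -/
theorem com_eq (hF : IsFischer D) {a b p q : G} (ha : a ∈ D) (hb : b ∈ D) (hab : a ≠ b)
    (hc : Commute a b) (hp : p ∈ ln D a b) (hq : q ∈ ln D a b) (hpq : p ≠ q) :
    com D p q = com D a b := by
  rcases eq_or_ne p a with rfl | hpa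
  · exact com_eq_left hF hp.1 hb hab hc hq hpq.symm
  · have h1 : com D a p = com D a b := com_eq_left hF ha hb hab hc hp hpa
    have hq' : q ∈ ln D p a := ⟨hq.1, fun d hd => hq.2 d (h1 ▸ (com_comm p a ▸ hd))⟩
    rw [com_eq_left hF hp.1 ha hpa (commute_left ha hc hp) hq' hpq.symm, com_comm, h1]

theorem ln_eq (hF : IsFischer D) {a b p q : G} (ha : a ∈ D) (hb : b ∈ D) (hab : a ≠ b)
    (hc : Commute a b) (hp : p ∈ ln D a b) (hq : q ∈ ln D a b) (hpq : p ≠ q) :
    ln D p q = ln D a b := by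
  rw [ln, com_eq hF ha hb hab hc hp hq hpq]; rfl

theorem commute_of_mem (hF : IsFischer D) {a b p q : G} (ha : a ∈ D) (hb : b ∈ D) (hab : a ≠ b)
    (hc : Commute a b) (hp : p ∈ ln D a b) (hq : q ∈ ln D a b) : Commute p q := by
  rcases eq_or_ne p a with rfl | hpa
  · exact (commute_left hp.1 hc hq).symm
  · refine (hq.2 p ?_).symm
    rw [← com_eq_left hF ha hb hab hc hp hpa]
    exact ⟨hp.1, (commute_left ha hc hp).symm, Commute.refl p⟩

/-- A member commuting with two points of a line commutes with all of it. -/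
theorem commute_all (hF : IsFischer D) {a b p q e : G} (ha : a ∈ D) (hb : b ∈ D) (hab : a ≠ b)
    (hc : Commute a b) (hp : p ∈ ln D a b) (hq : q ∈ ln D a b) (hpq : p ≠ q) (he : e ∈ D)
    (hep : Commute e p) (heq : Commute e q) {r : G} (hr : r ∈ ln D a b) : Commute e r :=
  (hr.2 e (com_eq hF ha hb hab hc hp hq hpq ▸ ⟨he, hep.symm, heq.symm⟩)).symm

theorem cls_eq (hF : IsFischer D) {x y w : G} (hx : x ∈ D) (hy : y ∈ perp D x) (hw : w ∈ cls D x y) :
    cls D x w = cls D x y := by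
  rw [cls, ln_eq_left hF hx hy.1 hy.2.1.symm hy.2.2 hw.1 hw.2]; rfl

theorem cls_commute (hF : IsFischer D) {x y p q : G} (hx : x ∈ D) (hy : y ∈ perp D x)
    (hp : p ∈ cls D x y) (hq : q ∈ cls D x y) : Commute p q :=
  commute_of_mem hF hx hy.1 hy.2.1.symm hy.2.2 hp.1 hq.1

/-- Points of one class have the same commuting members among the neighbours of `x`. -/
theorem cls_commute_iff (hF : IsFischer D) {x y p q d : G} (hx : x ∈ D) (hy : y ∈ perp D x)
    (hp : p ∈ cls D x y) (hq : q ∈ cls D x y) (hd : d ∈ D) (hdx : Commute d x) :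
    Commute d p ↔ Commute d q :=
  ⟨fun h => commute_all hF hx hy.1 hy.2.1.symm hy.2.2 (left_mem hx) hp.1 hp.2.symm hd hdx h hq.1,
    fun h => commute_all hF hx hy.1 hy.2.1.symm hy.2.2 (left_mem hx) hq.1 hq.2.symm hd hdx h hp.1⟩

/-! ## The local group -/

/-- The group generated by the neighbours. -/
abbrev loc (D : Set G) (x : G) : Subgroup G := Subgroup.closure (perp D x)

/-- The neighbours as elements of the group they generate. -/
def locD (D : Set G) (x : G) : Set (loc D x) := {v | (v : G) ∈ perp D x}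

omit [Finite G] in
theorem loc_conj (hD : Trans D) {x : G} (hx : x ∈ D) {g v : G} (hg : g ∈ loc D x) (hv : v ∈ perp D x) :
    g * v * g⁻¹ ∈ perp D x :=
  ((conj_mem_perp hD hx (Subgroup.closure_mono (Set.subset_insert _ _) hg)).2 v hv).1

theorem trans_loc (hF : IsFischer D) {x : G} (hx : x ∈ D) : Trans (locD D x) := by
  refine ⟨⟨fun v hv => ?_, fun v hv w hw => ?_⟩, fun g v hv => loc_conj hF.toTrans hx g.2 hv,
    fun a ha b hb => ?_, ?_, ?_⟩
  · rw [← Subgroup.orderOf_coe]
    exact hF.set.1 _ hv.1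
  · rcases hF.set.2 _ hv.1 _ hw.1 with h | h
    · exact Or.inl (Subtype.ext (by simpa using h))
    · exact Or.inr (Subtype.ext (by simpa using h))
  · obtain ⟨g, hg, e⟩ := perp_transitive hF hx ha hb
    exact ⟨⟨g, hg⟩, Subtype.ext e⟩
  · exact Subgroup.closure_closure_coe_preimage
  · obtain ⟨b, hb, hne, hc⟩ := exists_perp hF hx
    exact ⟨⟨b, Subgroup.subset_closure ⟨hb, hne, hc⟩⟩, hb, hne, hc⟩

theorem sameComm_loc (hF : IsFischer D) {x : G} (hx : x ∈ D) {a b : loc D x} (ha : a ∈ locD D x)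
    (hb : b ∈ locD D x) : SameComm (locD D x) a b ↔ (b : G) ∈ cls D x a := by
  constructor
  · intro h
    refine ⟨⟨hb.1, fun d hd => ?_⟩, hb.2.1⟩
    rcases eq_or_ne d x with rfl | hdx
    · exact hb.2.2.symm
    · have hd' : d ∈ perp D x := mem_perp' hd.1 hdx.symm hd.2.1
      exact congrArg Subtype.val
        ((h ⟨d, Subgroup.subset_closure hd'⟩ hd').1 (Subtype.ext hd.2.2.eq)).eq
  · intro h e he
    have := cls_commute_iff hF hx ha (self_mem_cls ha) h he.1 he.2.2.symm
    exact ⟨fun hc => Subtype.ext (this.1 (congrArg Subtype.val hc.eq).symm).eq.symm,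
      fun hc => Subtype.ext (this.2 (congrArg Subtype.val hc.eq).symm).eq.symm⟩

/-- The 2-core of the local group. -/
def two (D : Set G) (x : G) : Subgroup G := (pCore 2 (loc D x)).map (loc D x).subtype

theorem two_pgroup (D : Set G) (x : G) : IsPGroup 2 (two D x) :=
  (Lib.Core.pCore_isPGroup 2 _).map _

omit [Finite G] in
theorem two_le (D : Set G) (x : G) : two D x ≤ loc D x := Subgroup.map_subtype_le _

theorem two_of_twin (hF : IsFischer D) {x y w : G} (hx : x ∈ D) (hy : y ∈ perp D x)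
    (hw : w ∈ cls D x y) : y * w ∈ two D x := by
  have hy' : (⟨y, Subgroup.subset_closure hy⟩ : loc D x) ∈ locD D x := hy
  have hw' : (⟨w, Subgroup.subset_closure (cls_perp hx hy hw)⟩ : loc D x) ∈ locD D x := cls_perp hx hy hw
  exact ⟨_, (sameComm_iff (trans_loc hF hx) hy' hw').1 ((sameComm_loc hF hx hy' hw').2 hw), rfl⟩

theorem two_conj (hF : IsFischer D) {x y g : G} (hx : x ∈ D) (hy : y ∈ perp D x) (hg : g ∈ two D x) :
    g * y * g⁻¹ ∈ cls D x y := by
  obtain ⟨k, hk, rfl⟩ := hg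
  have hy' : (⟨y, Subgroup.subset_closure hy⟩ : loc D x) ∈ locD D x := hy
  have hz := (trans_loc hF hx).conj k _ hy'
  exact (sameComm_loc hF hx hy' hz).1
    ((sameComm_iff (trans_loc hF hx) hy' hz).2 (mul_conj_mem (trans_loc hF hx) hy' hk))

theorem exists_perp_ne (hF : IsFischer D) {x y : G} (hx : x ∈ D) (hy : y ∈ perp D x) :
    ∃ q ∈ perp D x, ¬ Commute y q := by
  obtain ⟨q, hq, hyq⟩ := exists_not_commute hF hy.1
  by_contra h
  push Not at h
  refine hy.2.1 (eq_of_commute_subset hF hx hy.1 fun e he hc => ?_).symm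
  rcases eq_or_ne e x with rfl | hne
  · exact hy.2.2.symm
  · exact h e (mem_perp' he hne.symm hc)

theorem two_orbit (hF : IsFischer D) {x y w : G} (hx : x ∈ D) (hy : y ∈ perp D x)
    (hw : w ∈ cls D x y) : ∃ g ∈ two D x, g * y * g⁻¹ = w := by
  have hy' : (⟨y, Subgroup.subset_closure hy⟩ : loc D x) ∈ locD D x := hy
  have hw' : (⟨w, Subgroup.subset_closure (cls_perp hx hy hw)⟩ : loc D x) ∈ locD D x := cls_perp hx hy hw
  obtain ⟨q, hq, hyq⟩ := exists_perp_ne hF hx hy
  have h2 : ∃ a ∈ locD D x, ∃ b ∈ locD D x, a ≠ b :=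
    ⟨_, hy', ⟨q, Subgroup.subset_closure hq⟩, hq, fun e => hyq (by rw [show y = q from congrArg Subtype.val e])⟩
  obtain ⟨g, hg, e⟩ := orbit_two (trans_loc hF hx) h2 hy' hw' ((sameComm_loc hF hx hy' hw').2 hw)
  exact ⟨g, ⟨g, hg, rfl⟩, (congrArg Subtype.val e).symm⟩

theorem cls_two_le (hP : IsPolar D) {x y : G} (hx : x ∈ D) (hy : y ∈ perp D x) :
    2 ≤ (cls D x y).ncard := by
  obtain ⟨w, hw, hwx, hwy⟩ := hP.thick x hx y hy
  exact (Set.one_lt_ncard (Set.toFinite _)).2 ⟨y, self_mem_cls hy, w, ⟨hw, hwx⟩, hwy.symm⟩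

theorem cls_even (hP : IsPolar D) {x y : G} (hx : x ∈ D) (hy : y ∈ perp D x) :
    Even (cls D x y).ncard := by
  have hF := hP.toIsFischer
  haveI : Fact (Nat.Prime 2) := ⟨Nat.prime_two⟩
  letI : MulAction (two D x) G := MulAction.compHom G ((MulAut.conj : G →* MulAut G).comp (two D x).subtype)
  have horb : MulAction.orbit (two D x) y = cls D x y := by
    ext w
    constructor
    · rintro ⟨g, rfl⟩
      exact two_conj hF hx hy g.2
    · intro hw
      obtain ⟨g, hg, e⟩ := two_orbit hF hx hy hw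
      exact ⟨⟨g, hg⟩, e⟩
  obtain ⟨n, hn⟩ := (two_pgroup D x).card_orbit y
  rw [horb, Nat.card_coe_set_eq] at hn
  have h2 := cls_two_le hP hx hy
  rw [hn] at h2 ⊢
  rcases Nat.eq_zero_or_pos n with h | h
  · simp [h] at h2
  · exact (Nat.even_pow).2 ⟨even_two, h.ne'⟩

/-- An involutive map of an odd set into itself has a fixed point. -/
theorem exists_fixed {α : Type*} {M : Set α} (hM : M.Finite) (h : Odd M.ncard) (t : α → α)
    (ht : ∀ a ∈ M, t a ∈ M) (ht2 : ∀ a ∈ M, t (t a) = a) : ∃ p ∈ M, t p = p := by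
  classical
  by_contra hcon
  push Not at hcon
  have h0 : ∑ _a ∈ hM.toFinset, (1 : ZMod 2) = 0 :=
    Finset.sum_involution (fun a _ => t a) (fun _ _ => by decide)
      (fun a ha _ => hcon a (hM.mem_toFinset.1 ha)) (fun a ha => hM.mem_toFinset.2 (ht a (hM.mem_toFinset.1 ha)))
      (fun a ha => ht2 a (hM.mem_toFinset.1 ha))
  rw [Finset.sum_const, nsmul_eq_mul, mul_one, ← Set.ncard_eq_toFinset_card M hM, ZMod.natCast_eq_zero_iff_even] at h0
  exact (Nat.not_even_iff_odd.2 h) h0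

/-- A member commuting with neither of two points `y`, `w` of a line commutes with a third point `p`, and
`e` is moved by `w y` on the line through `p` and `e`. -/
theorem star (hP : IsPolar D) {y w e : G} (hy : y ∈ D) (hw : w ∈ D) (he : e ∈ D) (hne : y ≠ w)
    (hc : Commute y w) (hey : ¬ Commute e y) (hew : ¬ Commute e w) :
    cj w (cj y e) ∈ D ∧ cj w (cj y e) ≠ e ∧ Commute e (cj w (cj y e)) ∧
      ∃ p ∈ ln D y w, p ≠ y ∧ p ≠ w ∧ Commute e p ∧ cj w (cj y e) ∈ ln D p e := by
  have hF := hP.toIsFischer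
  have hD := hF.toTrans
  set e₁ := cj w (cj y e) with he₁
  have he₁D : e₁ ∈ D := cj_mem hD hw (cj_mem hD hy he)
  have hce : Commute e e₁ := by
    rw [← cj_eq_self hD he]
    calc cj e e₁ = cj (cj e w) (cj e (cj e y)) := by rw [he₁, cj_cj_dist hD he, braid hD hy he fun h => hey h.symm]
      _ = cj (cj w e) y := by rw [cj_cj hD he, braid hD he hw hew]
      _ = cj (cj w e) (cj w y) := by rw [cj_of_commute hD hw hc.symm]
      _ = cj w (cj e y) := (cj_cj_dist hD hw _ _).symm
      _ = e₁ := by rw [braid hD he hy hey]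
  have hne₁ : e₁ ≠ e := by
    intro h
    have h1 : cj y e = cj w e := by rw [← h, he₁, cj_cj hD hw, ← he₁, h]
    rw [← braid hD he hy hey, ← braid hD he hw hew, cj_inj hD he] at h1
    exact hne h1
  -- the involution `y w` on the line through `e` and `e₁`
  set g := y * w with hg
  have hg2 : g * g = 1 := by
    rw [hg, mul_assoc, ← mul_assoc w, hc.symm.eq, mul_assoc y, mul_self hD hw, mul_one, mul_self hD hy]
  have hgi : g⁻¹ = g := inv_eq_of_mul_eq_one_right hg2
  have hge : g * e * g⁻¹ = e₁ := by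
    rw [hgi, he₁, hg]
    calc y * w * e * (y * w) = (y * w) * e * (y * w) := rfl
      _ = (w * y) * e * (y * w) := by rw [hc.eq]
      _ = cj w (cj y e) := by simp only [cj_def, mul_assoc]
  have hge₁ : g * e₁ * g⁻¹ = e := by
    rw [← hge, hgi]
    calc g * (g * e * g) * g = (g * g) * e * (g * g) := by simp only [mul_assoc]
      _ = e := by rw [hg2, one_mul, mul_one]
  set M := ln D e e₁ \ {e, e₁} with hM
  have hgM : ∀ p ∈ M, g * p * g⁻¹ ∈ M := by
    intro p hp
    refine ⟨?_, ?_⟩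
    · have h1 := conj_mem_ln hD g hp.1
      rwa [hge, hge₁, ln_comm] at h1
    · rintro (h | h)
      · refine hp.2 (Or.inr ?_)
        rw [← hge₁] at h
        simpa using h
      · refine hp.2 (Or.inl ?_)
        rw [← hge] at h
        simpa using h
  have hMcard : Odd M.ncard := by
    have h1 : (ln D e e₁).ncard = (cls D e e₁).ncard + 1 := by
      rw [show cls D e e₁ = ln D e e₁ \ {e} from rfl,
        Set.ncard_sdiff_singleton_add_one (left_mem he) (Set.toFinite _)]
    obtain ⟨k, hk⟩ := cls_even hP he (mem_perp' he₁D hne₁.symm hce)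
    have h2 := cls_two_le hP he (mem_perp' he₁D hne₁.symm hce)
    rw [hM, Set.ncard_sdiff (by rintro z (rfl | rfl); exacts [left_mem he, right_mem he₁D]) (Set.toFinite _),
      Set.ncard_pair hne₁.symm, h1]
    exact ⟨k - 1, by omega⟩
  obtain ⟨p, hp, hpt⟩ := exists_fixed (Set.toFinite M) hMcard (fun z => g * z * g⁻¹) hgM fun z _ => by
    show g * (g * z * g⁻¹) * g⁻¹ = z
    rw [hgi]
    calc g * (g * z * g) * g = (g * g) * z * (g * g) := by simp only [mul_assoc]
      _ = z := by rw [hg2, one_mul, mul_one]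
  have hpe : p ≠ e := fun h => hp.2 (Or.inl h)
  have hpD : p ∈ D := hp.1.1
  have hcpe : Commute p e := commute_left he hce hp.1
  have hpyw : cj y p = cj w p := by
    have h1 : cj y (cj w p) = p := by
      have e' : cj y (cj w p) = g * p * g⁻¹ := by
        rw [hgi, hg]
        calc cj y (cj w p) = (y * w) * p * (w * y) := by simp only [cj_def, mul_assoc]
          _ = (y * w) * p * (y * w) := by rw [hc.eq]
      rw [e']; exact hpt
    calc cj y p = cj y (cj y (cj w p)) := by rw [h1]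
      _ = cj w p := cj_cj hD hy _
  have hpy : Commute p y := by
    by_contra h
    have hpw : ¬ Commute p w := fun h' => h (by
      rw [cj_of_commute hD hw h'.symm, cj_eq_self hD hy] at hpyw
      exact hpyw.symm)
    rw [← braid hD hpD hy h, ← braid hD hpD hw hpw, cj_inj hD hpD] at hpyw
    exact hne hpyw
  have hpw : Commute p w := by
    rw [cj_of_commute hD hy hpy.symm, eq_comm, cj_eq_self hD hw] at hpyw
    exact hpyw.symm
  have hpy' : p ≠ y := fun h => hey (h ▸ hcpe.symm)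
  have hpw' : p ≠ w := fun h => hew (h ▸ hcpe.symm)
  have hpe₁ : p ≠ e₁ := fun h => hp.2 (Or.inr h)
  have hype : e₁ ∈ cls D p e := ⟨by
    rw [ln_eq hF he he₁D hne₁.symm hce hp.1 (left_mem he) hpe]
    exact right_mem he₁D, hpe₁.symm⟩
  have hkey : (e₁ * e) * y * (e₁ * e)⁻¹ = w := by
    have h2 : cj (cj w e) e = w := by
      calc cj (cj w e) e = cj (cj w e) (cj w (cj w e)) := by rw [cj_cj hD hw]
        _ = cj w (cj e (cj w e)) := (cj_cj_dist hD hw _ _).symm
        _ = cj w (cj e (cj e w)) := by rw [braid hD hw he fun h => hew h.symm]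
        _ = w := by rw [cj_cj hD he, cj_self hD hw]
    have h3 : e₁ = cj y (cj w e) := by
      calc e₁ = (w * y) * e * (y * w) := by rw [he₁]; simp only [cj_def, mul_assoc]
        _ = (y * w) * e * (w * y) := by rw [hc.eq]
        _ = cj y (cj w e) := by simp only [cj_def, mul_assoc]
    calc (e₁ * e) * y * (e₁ * e)⁻¹ = cj e₁ (cj e y) := by
          rw [_root_.mul_inv_rev, inv_eq hD he, inv_eq hD he₁D]; simp only [cj_def, mul_assoc]
      _ = cj (cj y (cj w e)) (cj y e) := by rw [h3, braid hD he hy hey]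
      _ = cj y (cj (cj w e) e) := (cj_cj_dist hD hy _ _).symm
      _ = w := by rw [h2, cj_of_commute hD hy hc]
  refine ⟨he₁D, hne₁, hce, p, ?_, hpy', hpw', hcpe.symm, hype.1⟩
  have hmem : (e₁ * e) ∈ two D p := by
    have h := inv_mem (two_of_twin hF hpD (mem_perp' he hpe hcpe) hype)
    rwa [_root_.mul_inv_rev, inv_eq hD he, inv_eq hD he₁D] at h
  have hw' := two_conj hF hpD (mem_perp' hy hpy' hpy) hmem
  rw [hkey] at hw'
  have h4 := ln_eq hF hpD hy hpy' hpy (right_mem hy) hw'.1 hne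
  rw [h4]
  exact left_mem hpD

/-- A member off a line commutes with some point of it. -/
theorem exists_on_line (hP : IsPolar D) {a b e : G} (ha : a ∈ D) (hb : b ∈ D) (hab : a ≠ b)
    (hc : Commute a b) (he : e ∈ D) : ∃ p ∈ ln D a b, Commute e p := by
  by_cases h1 : Commute e a
  · exact ⟨a, left_mem ha, h1⟩
  by_cases h2 : Commute e b
  · exact ⟨b, right_mem hb, h2⟩
  obtain ⟨-, -, -, p, hp, -, -, hep, -⟩ := star hP ha hb he hab hc h1 h2
  exact ⟨p, hp, hep⟩

/-- Exactly one point of each class commutes with a member not commuting with `x`. -/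
theorem exists_unique_sel (hP : IsPolar D) {x y e : G} (hx : x ∈ D) (hy : y ∈ perp D x) (he : e ∈ D)
    (hxe : ¬ Commute x e) :
    ∃ s ∈ cls D x y, Commute e s ∧ ∀ q ∈ cls D x y, Commute e q → q = s := by
  obtain ⟨s, hs, hes⟩ := exists_on_line hP hx hy.1 hy.2.1.symm hy.2.2 he
  have hsx : s ≠ x := fun h => hxe (h ▸ hes).symm
  refine ⟨s, ⟨hs, hsx⟩, hes, fun q hq heq => by_contra fun hne => hxe ?_⟩
  exact (commute_all hP.toIsFischer hx hy.1 hy.2.1.symm hy.2.2 hq.1 hs hne he heq hes (left_mem hx)).symm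

end Cfsg.Lib.Fischer.Polar
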