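import Mathlib

/-!
# Orientations of a system of planes over the field with two elements

Planes `range (N s)` are projected on each other by the maps `N`. Around a triangle the composite is the
identity or has no fixed vector, so it commutes with every map of order three: a map `w` with
`w² = w + 1` on one plane spreads consistently to a linear map of the whole space.
-/

set_option autoImplicit false
set_option linter.unusedSimpArgs false

namespace Cfsg.Lib.Fischer.Polar

/-- Planes indexed by the points of a Fischer space, with the projections onto them. -/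
structure Frame (ι U : Type*) [AddCommGroup U] [Module (ZMod 2) U] where
  adj : ι → ι → Prop
  third : ι → ι → ι
  N : ι → U →ₗ[ZMod 2] U
  symm : ∀ {s r}, adj s r → adj r s
  third_comm : ∀ {s r}, adj s r → third s r = third r s
  adj_third : ∀ {s r}, adj s r → adj s (third s r)
  third_third : ∀ {s r}, adj s r → third s (third s r) = r
  third_of : ∀ {n s r}, adj s r → ¬ adj n s → ¬ adj n r → ¬ adj n (third s r)
  sq : ∀ s u, N s (N s u) = 0
  zero : ∀ {s r}, ¬ adj s r → ∀ u, N s (N r u) = 0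
  inj : ∀ {s r}, adj s r → ∀ u, N s (N r u) = 0 → N r u = 0
  conjN : ∀ {s r}, adj s r → ∀ u, N (third s r) u = N r (u + N s u) + N s (N r (u + N s u))
  four : ∀ s, ∃ a b, a ≠ 0 ∧ b ≠ 0 ∧ a ≠ b ∧ a ∈ LinearMap.range (N s) ∧ b ∈ LinearMap.range (N s) ∧
    ∀ z ∈ LinearMap.range (N s), z = 0 ∨ z = a ∨ z = b ∨ z = a + b
  two_step : ∀ {n r}, ¬ adj n r → ∃ m, adj n m ∧ adj m r
  span : ⨆ s, LinearMap.range (N s) = ⊤

namespace Frame

variable {ι U : Type*} [AddCommGroup U] [Module (ZMod 2) U] (F : Frame ι U) {n s r : ι}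

theorem double (u : U) : u + u = 0 := ZModModule.add_self u

/-- The plane of `s`. -/
abbrev P (s : ι) : Submodule (ZMod 2) U := LinearMap.range (F.N s)

theorem N_mem (s : ι) (u : U) : F.N s u ∈ F.P s := ⟨u, rfl⟩

theorem N_self {a : U} (ha : a ∈ F.P s) : F.N s a = 0 := by
  obtain ⟨u, rfl⟩ := ha; exact F.sq s u

theorem N_zero (h : ¬ F.adj s r) {a : U} (ha : a ∈ F.P r) : F.N s a = 0 := by
  obtain ⟨u, rfl⟩ := ha; exact F.zero h u

theorem N_inj (h : F.adj s r) {a : U} (ha : a ∈ F.P r) (h0 : F.N s a = 0) : a = 0 := by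
  obtain ⟨u, rfl⟩ := ha; exact F.inj h u h0

theorem not_adj_third {n s r : ι} (h : F.adj s r) (hs : ¬ F.adj n s) (hr : F.adj n r) :
    F.adj n (F.third s r) := by
  by_contra hc
  have := F.third_of (F.adj_third h) hs hc
  rw [F.third_third h] at this
  exact this hr

theorem back (h : F.adj r s) {b : U} (hb : b ∈ F.P r) : F.N r (F.N s b) = b := by
  have e1 := F.conjN (F.symm h) b
  rw [F.third_comm (F.symm h), F.conjN h b, F.N_self hb] at e1
  simp only [add_zero, map_add, F.N_self hb, zero_add] at e1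
  have h2 : F.N s (b + F.N r (F.N s b)) = 0 := by
    rw [map_add]
    rw [add_comm (F.N s b)] at e1
    rw [← add_left_cancel e1, double]
  have h4 := F.N_inj (F.symm h) (add_mem hb (F.N_mem r _)) h2
  rw [← ZModModule.sub_eq_add, sub_eq_zero] at h4
  exact h4.symm

theorem back_mem (h : F.adj r s) {b : U} (hb : b ∈ F.P r) : ∃ a ∈ F.P s, F.N r a = b :=
  ⟨F.N s b, F.N_mem s b, F.back h hb⟩

/-- The composite around a triangle. -/
theorem triangle_cases (hns : F.adj n s) (hsr : F.adj s r) :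
    (∀ a ∈ F.P n, F.N n (F.N r (F.N s a)) = a) ∨
      (∀ a ∈ F.P n, F.N n (F.N r (F.N s a)) = a → a = 0) := by
  have hc : ∀ b ∈ F.P s, b + F.N r b ∈ F.P (F.third r s) := fun b hb => by
    obtain ⟨u, rfl⟩ := hb
    refine ⟨u + F.N r u, ?_⟩
    rw [F.conjN (F.symm hsr), map_add (F.N r) u, F.sq, add_zero,
      show u + F.N r u + F.N r u = u by rw [add_assoc, double, add_zero]]
  by_cases hk : F.adj n (F.third r s)
  · refine Or.inr fun a ha h => ?_
    have h1 : F.N n (F.N s a + F.N r (F.N s a)) = 0 := by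
      rw [map_add, F.back hns ha, h, double]
    have h2 := F.N_inj hk (hc _ (F.N_mem s a)) h1
    have h3 := congrArg (F.N r) h2
    rw [map_add, map_zero, F.sq, add_zero] at h3
    exact F.N_inj (F.symm hns) ha (F.N_inj (F.symm hsr) (F.N_mem s a) h3)
  · refine Or.inl fun a ha => ?_
    have h1 := F.N_zero hk (hc _ (F.N_mem s a))
    rw [map_add, F.back hns ha, ← ZModModule.sub_eq_add, sub_eq_zero] at h1
    exact h1.symm

/-- `w` acts on the plane of `s` with `w² = w + 1`. -/
def Or3 (s : ι) (w : U →ₗ[ZMod 2] U) : Prop := ∀ a ∈ F.P s, w a ∈ F.P s ∧ w (w a) = w a + a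

theorem Or3.ne {w : U →ₗ[ZMod 2] U} (hw : F.Or3 s w) {a : U} (ha : a ∈ F.P s) (h0 : a ≠ 0) :
    w a ≠ 0 ∧ w a ≠ a := by
  obtain ⟨-, h⟩ := hw a ha
  refine ⟨fun e => h0 ?_, fun e => h0 ?_⟩
  · rw [e, map_zero, zero_add] at h; exact h.symm
  · rw [e, e] at h; simpa using h

theorem plane_eq {a b z : U} (ha : a ∈ F.P s) (hb : b ∈ F.P s) (hz : z ∈ F.P s) (h1 : a ≠ 0)
    (h2 : b ≠ 0) (h3 : a ≠ b) : z = 0 ∨ z = a ∨ z = b ∨ z = a + b := by
  obtain ⟨A, B, -, -, -, -, -, hall⟩ := F.four s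
  have e1 : ∀ u v : U, u + (u + v) = v := fun u v => by rw [← add_assoc, double, zero_add]
  have e2 : ∀ u v : U, v + (u + v) = u := fun u v => by rw [add_comm u, e1]
  have e3 : ∀ u v : U, (u + v) + u = v := fun u v => by rw [add_comm, e1]
  have e4 : ∀ u v : U, (u + v) + v = u := fun u v => by rw [add_comm, e2]
  rcases hall a ha with ea | ea | ea | ea <;> subst ea <;>
    rcases hall b hb with eb | eb | eb | eb <;> subst eb <;>
    rcases hall z hz with ez | ez | ez | ez <;> subst ez <;>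
    first | exact absurd rfl h1 | exact absurd rfl h2 | exact absurd rfl h3 |
      simp [e1, e2, e3, e4, add_comm]

theorem Or3.cases {w : U →ₗ[ZMod 2] U} (hw : F.Or3 s w) {a z : U} (ha : a ∈ F.P s) (h0 : a ≠ 0)
    (hz : z ∈ F.P s) : z = 0 ∨ z = a ∨ z = w a ∨ z = a + w a :=
  F.plane_eq ha (hw a ha).1 hz h0 (hw.ne F ha h0).1 (hw.ne F ha h0).2.symm

/-- The composite around a triangle commutes with `w`. -/
theorem mono_comm {w : U →ₗ[ZMod 2] U} (hw : F.Or3 n w) (hns : F.adj n s) (hnr : F.adj n r)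
    (hsr : F.adj s r) {a : U} (ha : a ∈ F.P n) :
    w (F.N n (F.N r (F.N s a))) = F.N n (F.N r (F.N s (w a))) := by
  rcases F.triangle_cases hns hsr with h | h
  · rw [h a ha, h _ (hw a ha).1]
  rcases eq_or_ne a 0 with rfl | h0
  · simp
  set f := (F.N n).comp ((F.N r).comp (F.N s))
  have hf : ∀ u, F.N n (F.N r (F.N s u)) = f u := fun _ => rfl
  have hf0 : ∀ u ∈ F.P n, f u = 0 → u = 0 := fun u hu e =>
    F.N_inj (F.symm hns) hu (F.N_inj (F.symm hsr) (F.N_mem s u) (F.N_inj hnr (F.N_mem r _) e))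
  have hfm : ∀ u, f u ∈ F.P n := fun u => F.N_mem n _
  simp only [hf] at h ⊢
  obtain ⟨hwa, hwwa⟩ := hw a ha
  obtain ⟨n1, n2⟩ := hw.ne F ha h0
  have n3 : a + w a ≠ 0 := fun e => n2 (by rw [← ZModModule.sub_eq_add, sub_eq_zero] at e; exact e.symm)
  rcases hw.cases F ha h0 (hfm a) with e1 | e1 | e1 | e1
  · exact absurd (hf0 a ha e1) h0
  · exact absurd (h a ha e1) h0
  · rcases hw.cases F ha h0 (hfm (w a)) with e2 | e2 | e2 | e2
    · exact absurd (hf0 _ hwa e2) n1
    · exact absurd (h _ (add_mem ha hwa) (by rw [map_add, e1, e2, add_comm])) n3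
    · exact absurd (h _ hwa e2) n1
    · rw [e1, hwwa, e2, add_comm]
  · rcases hw.cases F ha h0 (hfm (w a)) with e2 | e2 | e2 | e2
    · exact absurd (hf0 _ hwa e2) n1
    · rw [e1, e2, map_add, hwwa, ← add_assoc, double, zero_add]
    · exact absurd (h _ hwa e2) n1
    · refine absurd (hf0 _ (add_mem ha hwa) ?_) n3
      rw [map_add, e1, e2, double]

/-- `ws` and `wr` agree across the edge `s r`. -/
def Good (s r : ι) (ws wr : U →ₗ[ZMod 2] U) : Prop := ∀ a ∈ F.P s, F.N r (ws a) = wr (F.N r a)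

variable {wn ws wr : U →ₗ[ZMod 2] U}

/-- Transport across an edge. -/
def tr (s r : ι) (w : U →ₗ[ZMod 2] U) : U →ₗ[ZMod 2] U := (F.N r).comp (w.comp (F.N s))

theorem good_tr (h : F.adj s r) : F.Good s r ws (F.tr s r ws) := fun a ha => by
  show _ = F.N r (ws (F.N s (F.N r a)))
  rw [F.back h ha]

theorem or_tr (h : F.adj s r) (hw : F.Or3 s ws) : F.Or3 r (F.tr s r ws) := fun a ha => by
  refine ⟨F.N_mem r _, ?_⟩
  show F.N r (ws (F.N s (F.N r (ws (F.N s a))))) = F.N r (ws (F.N s a)) + a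
  rw [F.back h (hw _ (F.N_mem s a)).1, (hw _ (F.N_mem s a)).2, map_add, F.back (F.symm h) ha]

theorem Good.symm' (h : F.adj s r) (hw : F.Or3 s ws) (hg : F.Good s r ws wr) : F.Good r s wr ws :=
  fun b hb => by
    have e := hg _ (F.N_mem s b)
    rw [F.back (F.symm h) hb] at e
    rw [← e, F.back h (hw _ (F.N_mem s b)).1]

theorem good_triangle (hw : F.Or3 n wn) (hns : F.adj n s) (hnr : F.adj n r) (hsr : F.adj s r)
    (gs : F.Good n s wn ws) (gr : F.Good n r wn wr) : F.Good s r ws wr := fun a ha => by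
  obtain ⟨a₀, ha₀, rfl⟩ := F.back_mem (F.symm hns) ha
  rw [← gs a₀ ha₀]
  set b := F.N r (F.N s a₀)
  have hb : b ∈ F.P r := F.N_mem r _
  rw [← F.back (F.symm hnr) hb, ← gr _ (F.N_mem n b), F.mono_comm hw hns hnr hsr ha₀]
  rw [F.back (F.symm hnr) (F.N_mem r _)]

theorem good_unique (h : F.adj s r) {wr' : U →ₗ[ZMod 2] U} (g : F.Good s r ws wr)
    (g' : F.Good s r ws wr') {b : U} (hb : b ∈ F.P r) : wr b = wr' b := by
  rw [← F.back (F.symm h) hb, ← g _ (F.N_mem s b), ← g' _ (F.N_mem s b)]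

/-- The map on `P r` carried from `n` along one path of length two fits any other. -/
theorem good_common (hw : F.Or3 n wn) {r m m' : ι} (hnr : ¬ F.adj n r) (hnm : F.adj n m)
    (hmr : F.adj m r) (hnm' : F.adj n m') (hm'r : F.adj m' r) {wm wm' : U →ₗ[ZMod 2] U}
    (gm : F.Good n m wn wm) (om : F.Or3 m wm) (gm' : F.Good n m' wn wm') (gr : F.Good m r wm wr) :
    F.Good m' r wm' wr := by
  by_cases h : F.adj m m'
  · exact F.good_triangle om h hmr hm'r (F.good_triangle hw hnm hnm' h gm gm') gr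
  set k := F.third n m
  set wk := F.tr n k wn
  have hnk : F.adj n k := F.adj_third hnm
  have hmk : F.adj m k := by
    show F.adj m (F.third n m)
    rw [F.third_comm hnm]; exact F.adj_third (F.symm hnm)
  have hkr : F.adj k r :=
    F.symm (F.not_adj_third hnm (fun h => hnr (F.symm h)) (F.symm hmr))
  have hkm' : F.adj k m' := by
    refine F.symm ?_
    show F.adj m' (F.third n m)
    rw [F.third_comm hnm]
    exact F.not_adj_third (F.symm hnm) (fun h' => h (F.symm h')) (F.symm hnm')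
  have gk : F.Good n k wn wk := F.good_tr hnk
  have g1 : F.Good k r wk wr := F.good_triangle om hmk hmr hkr (F.good_triangle hw hnm hnk hmk gm gk) gr
  exact F.good_triangle (F.or_tr hnk hw) hkm' hkr hm'r (F.good_triangle hw hnk hnm' hkm' gk gm') g1

theorem exists_or3 (n : ι) : ∃ w, F.Or3 n w := by
  obtain ⟨A, B, hA, hB, hAB, hAm, hBm, hall⟩ := F.four n
  have hsp : ∀ {u v : U}, u ≠ 0 → u ≠ v → v ≠ 0 → u ∉ Submodule.span (ZMod 2) {v} := by
    intro u v hu huv _ hm
    obtain ⟨c, rfl⟩ := Submodule.mem_span_singleton.1 hm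
    rcases (show ∀ z : ZMod 2, z = 0 ∨ z = 1 by decide) c with rfl | rfl
    · exact hu (zero_smul _ _)
    · exact huv (one_smul _ _)
  obtain ⟨f, hf, hfB⟩ := Submodule.exists_dual_map_eq_bot_of_notMem (hsp hA hAB hB) inferInstance
  obtain ⟨g, hg, hgA⟩ := Submodule.exists_dual_map_eq_bot_of_notMem (hsp hB hAB.symm hA) inferInstance
  have h1 : ∀ z : ZMod 2, z ≠ 0 → z = 1 := by decide
  have fB : f B = 0 := (Submodule.eq_bot_iff _).1 hfB _ ⟨B, Submodule.mem_span_singleton_self B, rfl⟩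
  have gA : g A = 0 := (Submodule.eq_bot_iff _).1 hgA _ ⟨A, Submodule.mem_span_singleton_self A, rfl⟩
  refine ⟨f.smulRight B + g.smulRight (A + B), fun a ha => ?_⟩
  have wA : (f.smulRight B + g.smulRight (A + B)) A = B := by simp [h1 _ hf, gA]
  have wB : (f.smulRight B + g.smulRight (A + B)) B = A + B := by simp [fB, h1 _ hg]
  rcases hall a ha with rfl | rfl | rfl | rfl
  · simp
  · rw [wA, wB, add_comm]; exact ⟨hBm, rfl⟩
  · rw [wB, map_add, wA, wB]; exact ⟨add_mem hAm hBm, add_comm _ _⟩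
  · rw [map_add, wA, wB, show B + (A + B) = A by rw [add_comm A, ← add_assoc, double, zero_add], wA]
    exact ⟨hAm, by rw [← add_assoc, double, zero_add]⟩

/-- A consistent orientation of all planes. -/
theorem exists_orientation [Nonempty ι] : ∃ w : ι → U →ₗ[ZMod 2] U,
    (∀ s, F.Or3 s (w s)) ∧ ∀ s r, F.adj s r → F.Good s r (w s) (w r) := by
  classical
  obtain ⟨n⟩ := ‹Nonempty ι›
  obtain ⟨wn, hw⟩ := F.exists_or3 n
  choose mid hmid using fun r => F.two_step (n := n) (r := r)
  let w : ι → U →ₗ[ZMod 2] U := fun r =>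
    if h : F.adj n r then F.tr n r wn else F.tr (mid r h) r (F.tr n (mid r h) wn)
  have w1 : ∀ {r}, F.adj n r → w r = F.tr n r wn := fun {r} h => dif_pos h
  have w2 : ∀ {r} (h : ¬ F.adj n r), w r = F.tr (mid r h) r (F.tr n (mid r h) wn) := fun {r} h => dif_neg h
  have hor : ∀ r, F.Or3 r (w r) := fun r => by
    by_cases h : F.adj n r
    · rw [w1 h]; exact F.or_tr h hw
    · rw [w2 h]; exact F.or_tr (hmid r h).2 (F.or_tr (hmid r h).1 hw)
  have gn : ∀ {r}, F.adj n r → F.Good n r wn (w r) := fun {r} h => w1 h ▸ F.good_tr h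
  have gmid : ∀ {r m}, ¬ F.adj n r → F.adj n m → F.adj m r → F.Good m r (w m) (w r) := by
    intro r m hnr hnm hmr
    refine F.good_common hw hnr (hmid r hnr).1 (hmid r hnr).2 hnm hmr (gn (hmid r hnr).1) (hor _) (gn hnm) ?_
    rw [w1 (hmid r hnr).1, w2 hnr]
    exact F.good_tr (hmid r hnr).2
  refine ⟨w, hor, fun s r hsr => ?_⟩
  by_cases hs : F.adj n s <;> by_cases hr : F.adj n r
  · exact F.good_triangle hw hs hr hsr (gn hs) (gn hr)
  · exact gmid hr hs hsr
  · exact (gmid hs hr (F.symm hsr)).symm' F (F.symm hsr) (hor r)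
  · obtain ⟨k, hnk, hks, hkr⟩ : ∃ k, F.adj n k ∧ F.adj k s ∧ F.adj k r := by
      obtain ⟨m, hnm, hms⟩ := F.two_step hs
      by_cases hmr : F.adj m r
      · exact ⟨m, hnm, hms, hmr⟩
      refine ⟨F.third m s, F.symm ?_, F.symm ?_, F.symm (F.not_adj_third hms (fun h => hmr (F.symm h))
        (F.symm hsr))⟩
      · rw [F.third_comm hms]
        exact F.symm (F.not_adj_third (F.symm hms) hs hnm)
      · rw [F.third_comm hms]
        exact F.adj_third (F.symm hms)
    exact F.good_triangle (hor k) hks hkr hsr (gmid hs hnk hks) (gmid hr hnk hkr)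

/-- The scalar of order three on the whole space. -/
theorem exists_omega [Nonempty ι] (hsep : ∀ u, (∀ s, F.N s u = 0) → u = 0) :
    ∃ ω : U →ₗ[ZMod 2] U, (∀ u, ω (ω u) = ω u + u) ∧ (∀ s u, ω (F.N s u) = F.N s (ω u)) := by
  classical
  obtain ⟨w, hor, hgood⟩ := F.exists_orientation
  let Φ : U →ₗ[ZMod 2] ι → U := LinearMap.pi fun s => F.N s
  let Ψ : U →ₗ[ZMod 2] ι → U := LinearMap.pi fun s => (w s).comp (F.N s)
  have hΦ : Function.Injective Φ := (injective_iff_map_eq_zero Φ).2 fun u hu =>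
    hsep u fun s => congrFun hu s
  have hP : ∀ r a, a ∈ F.P r → ∀ s, w s (F.N s a) = F.N s (w r a) := fun r a ha s => by
    by_cases h : F.adj r s
    · exact (hgood r s h a ha).symm
    · have h' : ¬ F.adj s r := fun h' => h (F.symm h')
      rw [F.N_zero h' ha, map_zero, F.N_zero h' (hor r a ha).1]
  have hle : LinearMap.range Ψ ≤ LinearMap.range Φ := by
    rw [LinearMap.range_eq_map, ← F.span, Submodule.map_iSup, iSup_le_iff]
    rintro r _ ⟨a, ha, rfl⟩
    exact ⟨w r a, funext fun s => (hP r a ha s).symm⟩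
  let ω : U →ₗ[ZMod 2] U := (LinearEquiv.ofInjective Φ hΦ).symm.toLinearMap.comp
    (Ψ.codRestrict (LinearMap.range Φ) fun u => hle ⟨u, rfl⟩)
  have hω : ∀ s u, F.N s (ω u) = w s (F.N s u) := fun s u => by
    have := congrArg Subtype.val ((LinearEquiv.ofInjective Φ hΦ).apply_symm_apply
      (Ψ.codRestrict (LinearMap.range Φ) (fun u => hle ⟨u, rfl⟩) u))
    exact congrFun this s
  have hagree : ∀ r a, a ∈ F.P r → ω a = w r a := fun r a ha => hΦ (funext fun s =>
    show F.N s (ω a) = F.N s (w r a) by rw [hω, hP r a ha])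
  refine ⟨ω, fun u => hΦ (funext fun s => ?_), fun s u => ?_⟩
  · show F.N s (ω (ω u)) = F.N s (ω u + u)
    rw [map_add, hω, hω, (hor s _ (F.N_mem s u)).2]
  · rw [hagree s _ (F.N_mem s u), hω]

/-- A sum of vectors of two adjacent planes with non-zero symplectic product lies in no plane. -/
theorem sum_not_singular {k : ι} (hsr : F.adj s r) {a b c : U} (ha : a ∈ F.P s) (hb : b ∈ F.P r)
    (ha0 : a ≠ 0) (hb0 : b ≠ 0) (hc : c ∈ F.P k) (h : ∀ i, F.N i c = F.N i a + F.N i b) :
    F.N s b = a := by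
  have e1 : F.N k a = F.N k b := by
    have := h k
    rw [F.N_self hc, eq_comm, ← ZModModule.sub_eq_add, sub_eq_zero] at this
    exact this
  have e2 : F.N r c = F.N r a := by rw [h, F.N_self hb, add_zero]
  have e3 : F.N s c = F.N s b := by rw [h, F.N_self ha, zero_add]
  by_cases hks : F.adj k s
  swap
  · exfalso
    rw [F.N_zero (fun h' => hks (F.symm h')) hc] at e3
    exact hb0 (F.N_inj hsr hb e3.symm)
  by_cases hkr : F.adj k r
  swap
  · exfalso
    rw [F.N_zero (fun h' => hkr (F.symm h')) hc] at e2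
    exact ha0 (F.N_inj (F.symm hsr) ha e2.symm)
  set a₀ := F.N k a with ha₀
  have hm : a₀ ∈ F.P k := F.N_mem k a
  have ea : F.N s a₀ = a := F.back (F.symm hks) ha
  have eb : F.N r a₀ = b := by rw [e1]; exact F.back (F.symm hkr) hb
  set f := (F.N k).comp ((F.N r).comp (F.N s))
  have c1 : f a₀ = c := by
    show F.N k (F.N r (F.N s a₀)) = c
    rw [ea, ← e2, F.back hkr hc]
  have c2 : f c = a₀ := by
    show F.N k (F.N r (F.N s c)) = a₀
    rw [e3, F.back (F.symm hsr) hb, ← e1]
  have hfix : f a₀ = a₀ := by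
    rcases F.triangle_cases hks hsr with h' | h'
    · exact h' a₀ hm
    · have h0 := h' (a₀ + c) (add_mem hm hc) (by
        show f (a₀ + c) = a₀ + c
        rw [map_add, c1, c2, add_comm])
      rw [← ZModModule.sub_eq_add, sub_eq_zero] at h0
      rw [c1, ← h0]
  have h5 : F.N r a = b := by
    have := F.back (F.symm hkr) (F.N_mem r a)
    rw [show F.N k (F.N r a) = a₀ by rw [← ea]; exact hfix, eb] at this
    exact this.symm
  rw [← h5, F.back hsr ha]

end Frame

end Cfsg.Lib.Fischer.Polar
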