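import Cfsg.Agent.Lib.Fischer.Polar.Translations
import Cfsg.Agent.Lib.Fischer.Polar.Mono

/-!
# The planes of a group with five points on a line

Modulo `x` the translations form a vector space over the field with two elements, with one plane for each
common neighbour of `x` and `e`. A translation fixing all neighbours of `x` is `1` or `x`.
-/

set_option autoImplicit false
set_option linter.style.haveILetI false
set_option linter.unusedSimpArgs false

namespace Cfsg.Lib.Fischer.Polar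

open Cfsg Cfsg.Lib.Fischer

/-- A group with five points on each line, and two members which do not commute. -/
structure Ctx {G : Type*} [Group G] [Finite G] (D : Set G) (x e : G) : Prop where
  polar : IsPolar D
  four : ∀ a ∈ D, ∀ b ∈ perp D a, (cls D a b).ncard = 4
  hx : x ∈ D
  he : e ∈ D
  hxe : ¬ Commute x e

namespace Ctx

variable {G : Type*} [Group G] [Finite G] {D : Set G} {x e : G} (C : Ctx D x e)

include C

theorem fis : IsFischer D := C.polar.toIsFischer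

theorem tra : Trans D := C.fis.toTrans

theorem ne_x {y w : G} (hy : y ∈ perp D x) (hw : w ∈ cls D x y) : y * w ≠ x := by
  intro h
  have hD := C.tra
  have hw' := cls_perp C.hx hy hw
  rcases eq_or_ne y w with rfl | hne
  · rw [mul_self hD hy.1] at h
    exact ne_one hD C.hx h.symm
  obtain ⟨a, ha, hxa, hay⟩ := exists_partner C.fis C.hx hy
  obtain ⟨s, -, -, hu⟩ := exists_unique_sel C.polar C.hx hy ha hxa
  have haw : ¬ Commute a w := fun h' => hne ((hu y (self_mem_cls hy) hay).trans (hu w hw h').symm)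
  have hyw := cls_commute C.fis C.hx hy (self_mem_cls hy) hw
  have h1 : cj x a = cj w a := by
    calc cj x a = (w * y) * a * (w * y)⁻¹ := by rw [← hyw.eq, h, ← cj_conj hD C.hx]
      _ = w * (y * a * y⁻¹) * w⁻¹ := by group
      _ = cj w a := by rw [hay.symm.eq, mul_inv_cancel_right, cj_conj hD hw'.1]
  rw [braid hD C.hx ha hxa, braid hD hw'.1 ha (fun h' => haw h'.symm), cj_inj hD ha] at h1
  exact hw'.2.1 h1.symm

/-- The translations. -/
abbrev T (_C : Ctx D x e) : Subgroup G := trl D x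

/-- The member `x` as a translation. -/
def xT : C.T := ⟨x, self_mem_trl⟩

/-- The centre of the translations. -/
def X : Subgroup C.T := Subgroup.zpowers C.xT

theorem xT_sq : C.xT * C.xT = 1 := Subtype.ext (mul_self C.tra C.hx)

theorem xT_comm (t : C.T) : t * C.xT = C.xT * t :=
  Subtype.ext (trl_commute C.fis C.hx t.2).eq

theorem mem_X {t : C.T} : t ∈ C.X ↔ t = 1 ∨ t = C.xT := by
  constructor
  · intro h
    rw [X, Subgroup.mem_zpowers_iff] at h
    obtain ⟨k, rfl⟩ := h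
    rcases Int.even_or_odd k with ⟨m, rfl⟩ | ⟨m, rfl⟩
    · exact Or.inl (by rw [← two_mul, zpow_mul, zpow_two, C.xT_sq, one_zpow])
    · exact Or.inr (by rw [zpow_add_one, zpow_mul, zpow_two, C.xT_sq, one_zpow, one_mul])
  · rintro (rfl | rfl)
    exacts [one_mem _, Subgroup.mem_zpowers _]

instance normal_X : C.X.Normal := ⟨fun n hn g => by
  rcases C.mem_X.1 hn with rfl | rfl
  · simp
  · rw [C.xT_comm, mul_inv_cancel_right]; exact hn⟩

/-- The translations modulo their centre. -/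
abbrev Q := C.T ⧸ C.X

noncomputable instance commQ : CommGroup C.Q :=
  { (inferInstance : Group C.Q) with
    mul_comm := fun a b => by
      induction a using QuotientGroup.induction_on with
      | _ t =>
      induction b using QuotientGroup.induction_on with
      | _ u =>
      rcases trl_comm_mem C.polar C.hx t.2 u.2 with h | h
      · rw [← QuotientGroup.mk_mul, ← QuotientGroup.mk_mul]
        have e' : u * t = t * u := Subtype.ext (mul_inv_eq_iff_eq_mul.1 h)
        rw [e']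
      · rw [← QuotientGroup.mk_mul, ← QuotientGroup.mk_mul, eq_comm, QuotientGroup.eq]
        have e' : u * t = t * u * C.xT := by
          refine Subtype.ext ((mul_inv_eq_iff_eq_mul.1 h).trans ?_)
          show (t : G) * x * u = t * u * x
          rw [mul_assoc, (trl_commute C.fis C.hx u.2).symm.eq, ← mul_assoc]
        rw [e', show (t * u * C.xT)⁻¹ * (t * u) = C.xT⁻¹ by group]
        exact inv_mem (Subgroup.mem_zpowers _) }

/-- The space of translations. -/
abbrev U := Additive C.Q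

theorem U_double (u : C.U) : u + u = 0 := by
  obtain ⟨q, rfl⟩ : ∃ q, Additive.ofMul q = u := ⟨Additive.toMul u, rfl⟩
  induction q using QuotientGroup.induction_on with
  | _ t =>
  rw [← ofMul_mul, ← QuotientGroup.mk_mul]
  refine congrArg Additive.ofMul ((QuotientGroup.eq_one_iff _).2 (C.mem_X.2 ?_))
  rcases trl_sq C.polar C.hx t.2 with h | h
  · exact Or.inl (Subtype.ext h)
  · exact Or.inr (Subtype.ext h)

noncomputable instance modU : Module (ZMod 2) C.U :=
  AddCommGroup.zmodModule fun u => by rw [two_nsmul]; exact C.U_double u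

/-- The projection. -/
def pr (t : C.T) : C.U := Additive.ofMul (QuotientGroup.mk t)

theorem pr_mul (t u : C.T) : C.pr (t * u) = C.pr t + C.pr u := rfl

theorem pr_one : C.pr 1 = 0 := rfl

theorem pr_x : C.pr C.xT = 0 :=
  congrArg Additive.ofMul ((QuotientGroup.eq_one_iff _).2 (Subgroup.mem_zpowers _))

theorem pr_surj : Function.Surjective C.pr := fun u => by
  obtain ⟨t, ht⟩ := QuotientGroup.mk_surjective (Additive.toMul u)
  exact ⟨t, by rw [pr, ht]; rfl⟩

theorem pr_eq_zero {t : C.T} (h : C.pr t = 0) : t = 1 ∨ t = C.xT :=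
  C.mem_X.1 ((QuotientGroup.eq_one_iff t).1 h)

theorem pr_eq {t u : C.T} (h : C.pr t = C.pr u) : t = u ∨ t = u * C.xT := by
  have h' : C.pr (u * t) = 0 := by rw [pr_mul, h]; exact C.U_double _
  have hu : u * u = 1 ∨ u * u = C.xT := (trl_sq C.polar C.hx u.2).imp
    (fun h => Subtype.ext h) (fun h => Subtype.ext h)
  have key : ∀ z : C.T, u * t = z → t = u⁻¹ * z := fun z h => by rw [← h, inv_mul_cancel_left]
  rcases hu with h2 | h2
  · rcases C.pr_eq_zero h' with h1 | h1 <;> rw [key _ h1, inv_eq_of_mul_eq_one_right h2]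
    · exact Or.inl (mul_one u)
    · exact Or.inr rfl
  · have hi : u⁻¹ = u * C.xT := inv_eq_of_mul_eq_one_right (by rw [← mul_assoc, h2, C.xT_sq])
    rcases C.pr_eq_zero h' with h1 | h1 <;> rw [key _ h1, hi]
    · exact Or.inr (mul_one _)
    · exact Or.inl (by rw [mul_assoc, C.xT_sq, mul_one])

/-- The common neighbours of `x` and `e`. -/
abbrev S (_C : Ctx D x e) := common D x e

theorem sel {y : G} (hy : y ∈ perp D x) : ∃ s : C.S, y ∈ cls D x s ∧ (s : G) ∈ cls D x y := by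
  obtain ⟨s, hs, h⟩ := exists_sel C.polar C.hx C.he C.hxe hy
  exact ⟨⟨s, hs⟩, h⟩

theorem perp_S (s : C.S) : (s : G) ∈ perp D x := s.2.1

theorem self_cls (s : C.S) : (s : G) ∈ cls D x s := self_mem_cls s.2.1

theorem pairT_mem (s : C.S) {q : G} (hq : q ∈ cls D x s) : (s : G) * q ∈ trl D x :=
  pair_mem_trl s.2.1 hq

/-- A product of two points of the class of `s`. -/
def pt (s : C.S) {q : G} (hq : q ∈ cls D x s) : C.T := ⟨(s : G) * q, C.pairT_mem s hq⟩

theorem pr_pt_self (s : C.S) : C.pr (C.pt s (C.self_cls s)) = 0 := by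
  have : C.pt s (C.self_cls s) = 1 := Subtype.ext (mul_self C.tra s.2.1.1)
  rw [this, pr_one]

theorem pr_pt_inj (s : C.S) {q q' : G} (hq : q ∈ cls D x s) (hq' : q' ∈ cls D x s)
    (h : C.pr (C.pt s hq) = C.pr (C.pt s hq')) : q = q' := by
  rcases C.pr_eq h with h1 | h1
  · exact mul_left_cancel (congrArg Subtype.val h1 : (s : G) * q = (s : G) * q')
  · exfalso
    have h2 : (s : G) * q = (s : G) * q' * x := congrArg Subtype.val h1
    rw [mul_assoc] at h2
    refine C.ne_x (cls_perp C.hx s.2.1 hq') (w := q) ?_ ?_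
    · rw [cls_eq C.fis C.hx s.2.1 hq']; exact hq
    · rw [mul_left_cancel h2, ← mul_assoc, mul_self C.tra hq'.1.1, one_mul]

theorem pr_pair (s : C.S) {y w : G} (hy : y ∈ cls D x s) (hw : w ∈ cls D x s) :
    ∃ h : y * w ∈ trl D x, C.pr ⟨y * w, h⟩ = C.pr (C.pt s hy) + C.pr (C.pt s hw) := by
  have h : y * w ∈ trl D x :=
    pair_mem_trl (cls_perp C.hx s.2.1 hy) (by rw [cls_eq C.fis C.hx s.2.1 hy]; exact hw)
  refine ⟨h, (congrArg C.pr (Subtype.ext ?_)).trans (C.pr_mul _ _)⟩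
  show y * w = (s : G) * y * ((s : G) * w)
  rw [(cls_commute C.fis C.hx s.2.1 (C.self_cls s) hy).eq, mul_assoc y, ← mul_assoc (s : G),
    mul_self C.tra s.2.1.1, one_mul]

theorem act_cls (s : C.S) (t : C.T) : (t : G) * s * (t : G)⁻¹ ∈ cls D x s :=
  trl_cls C.fis C.hx t.2 s s.2.1

theorem act_cls' (s : C.S) (t : C.T) {q : G} (hq : q ∈ cls D x s) :
    (t : G) * q * (t : G)⁻¹ ∈ cls D x s := by
  rw [← cls_eq C.fis C.hx s.2.1 hq]
  exact trl_cls C.fis C.hx t.2 q (cls_perp C.hx s.2.1 hq)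

/-- The displacement of `s`. -/
def nu (s : C.S) (t : C.T) : C.U := C.pr (C.pt s (C.act_cls s t))

theorem nu_congr {s : C.S} {q q' : G} (hq : q ∈ cls D x s) (hq' : q' ∈ cls D x s) (h : q = q') :
    C.pr (C.pt s hq) = C.pr (C.pt s hq') := by subst h; rfl

theorem nu_mul (s : C.S) (t u : C.T) : C.nu s (t * u) = C.nu s t + C.nu s u := by
  have hD := C.tra
  obtain ⟨q, hqd⟩ : ∃ q, q = (u : G) * s * (u : G)⁻¹ := ⟨_, rfl⟩
  obtain ⟨q', hq'd⟩ : ∃ q', q' = (t : G) * s * (t : G)⁻¹ := ⟨_, rfl⟩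
  obtain ⟨q'', hq''d⟩ : ∃ q'', q'' = ((t * u : C.T) : G) * s * ((t * u : C.T) : G)⁻¹ := ⟨_, rfl⟩
  have hq : q ∈ cls D x s := hqd ▸ C.act_cls s u
  have hq' : q' ∈ cls D x s := hq'd ▸ C.act_cls s t
  have hq'' : q'' ∈ cls D x s := hq''d ▸ C.act_cls s (t * u)
  rw [show C.nu s u = C.pr (C.pt s hq) from C.nu_congr _ _ hqd.symm,
    show C.nu s t = C.pr (C.pt s hq') from C.nu_congr _ _ hq'd.symm,
    show C.nu s (t * u) = C.pr (C.pt s hq'') from C.nu_congr _ _ hq''d.symm]
  have e2 : q'' = (t : G) * q * (t : G)⁻¹ := by rw [hq''d, hqd, Subgroup.coe_mul]; group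
  have ht2 : ∀ z ∈ cls D x s, (t : G) * ((t : G) * z * (t : G)⁻¹) * (t : G)⁻¹ = z := fun z hz => by
    rw [show (t : G) * ((t : G) * z * (t : G)⁻¹) * (t : G)⁻¹ = (t : G) * t * z * ((t : G) * t)⁻¹ by group,
      trl_sq_act C.polar C.hx t.2 z (cls_perp C.hx s.2.1 hz)]
  by_cases h1 : q' = s
  · have : q'' = q := by
      rw [e2, trl_fix C.polar C.hx t.2 s.2.1 hq (hq'd.symm.trans h1)]
    rw [C.nu_congr hq'' hq this, C.nu_congr hq' (C.self_cls s) h1, pr_pt_self, zero_add]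
  by_cases h2 : q = s
  · have : q'' = q' := by rw [e2, h2, hq'd]
    rw [C.nu_congr hq'' hq' this, C.nu_congr hq (C.self_cls s) h2, pr_pt_self, add_zero]
  by_cases h3 : q' = q
  · have : q'' = s := by rw [e2, ← h3, hq'd, ht2 s (C.self_cls s)]
    rw [C.nu_congr hq'' (C.self_cls s) this, pr_pt_self, C.nu_congr hq' hq h3, C.U_double]
  have h4 : q'' ≠ s := fun h => h3 (by
    have := ht2 q hq
    rw [← e2, h, ← hq'd] at this
    exact this)
  have h5 : q'' ≠ q' := fun h => h2 (by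
    have := h
    rw [e2, hq'd] at this
    simpa using this)
  have h6 : q'' ≠ q := fun h => h1 (by
    rw [hq'd]
    refine trl_fix C.polar C.hx t.2 (cls_perp C.hx s.2.1 hq) ?_ (e2.symm.trans h)
    rw [cls_eq C.fis C.hx s.2.1 hq]
    exact C.self_cls s)
  have h7 := prod_four C.polar C.hx s.2.1 (C.self_cls s) hq'' hq' hq h4.symm (Ne.symm h1) (Ne.symm h2)
    h5 h6 h3
  obtain ⟨hm, e3⟩ := C.pr_pair s hq' hq
  rw [← e3]
  have h8 : C.pr (C.pt s hq'') + C.pr ⟨q' * q, hm⟩ = 0 := by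
    rw [← pr_mul, show C.pt s hq'' * ⟨q' * q, hm⟩ = C.xT from Subtype.ext h7, pr_x]
  rwa [← ZModModule.sub_eq_add, sub_eq_zero] at h8

theorem nu_x (s : C.S) : C.nu s C.xT = 0 := by
  refine (C.nu_congr _ (C.self_cls s) ?_).trans (C.pr_pt_self s)
  show x * (s : G) * x⁻¹ = s
  rw [s.2.1.2.2.eq, mul_inv_cancel_right]

/-- The projection to the plane of `s`. -/
noncomputable def N (s : C.S) : C.U →ₗ[ZMod 2] C.U :=
  (MonoidHom.toAdditive (QuotientGroup.lift C.X
    ({ toFun := fun t => Additive.toMul (C.nu s t)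
       map_one' := by
         show Additive.toMul (C.nu s 1) = 1
         rw [show C.nu s 1 = 0 from (C.nu_congr _ (C.self_cls s) (by simp)).trans (C.pr_pt_self s)]
         rfl
       map_mul' := fun t u => congrArg Additive.toMul (C.nu_mul s t u) } : C.T →* C.Q)
    (fun t ht => by
      rcases C.mem_X.1 ht with rfl | rfl
      · exact map_one _
      · exact congrArg Additive.toMul (C.nu_x s)))).toZModLinearMap 2

theorem N_pr (s : C.S) (t : C.T) : C.N s (C.pr t) = C.nu s t := rfl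

theorem exists_shiftS (s : C.S) {q : G} (hq : q ∈ cls D x s) : ∃ u, C.N s u = C.pr (C.pt s hq) := by
  obtain ⟨t, ht, e'⟩ := cls_shift C.fis C.hx s.2.1 hq
  exact ⟨C.pr ⟨t, ht⟩, C.nu_congr _ _ e'⟩

theorem range_cases (s : C.S) {a : C.U} (h : a ∈ LinearMap.range (C.N s)) :
    ∃ (q : G) (hq : q ∈ cls D x s), a = C.pr (C.pt s hq) := by
  obtain ⟨u, rfl⟩ := h
  obtain ⟨t, rfl⟩ := C.pr_surj u
  exact ⟨_, C.act_cls s t, rfl⟩

theorem N_zero (s : C.S) (t : C.T) : C.N s (C.pr t) = 0 ↔ (t : G) * s * (t : G)⁻¹ = s := by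
  rw [N_pr]
  exact ⟨fun h => C.pr_pt_inj s _ (C.self_cls s) (h.trans (C.pr_pt_self s).symm),
    fun h => (C.nu_congr _ _ h).trans (C.pr_pt_self s)⟩

/-- The third point. -/
def thirdS (s r : C.S) : C.S := ⟨cj (s : G) r, by
  have hD := C.tra
  refine ⟨⟨cj_mem hD s.2.1.1 r.2.1.1, fun h => r.2.1.2.1 ?_, ?_⟩, ?_⟩
  · rw [← cj_cj hD s.2.1.1 (r : G), h, cj_of_commute hD s.2.1.1 s.2.1.2.2.symm]
  · exact (commute_cj_of hD s.2.1.1 s.2.1.2.2.symm).2 r.2.1.2.2
  · exact (commute_cj_of hD s.2.1.1 s.2.2.symm).2 r.2.2⟩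

theorem exists_adj (n : C.S) : ∃ m : C.S, ¬ Commute (n : G) m := by
  obtain ⟨s, hs, h⟩ := exists_separated C.polar C.hx C.he C.hxe n.2.1
  exact ⟨⟨s, hs⟩, h⟩

theorem cls_comm {s r : C.S} {p q : G} (hp : p ∈ cls D x s) (hq : q ∈ cls D x r) :
    Commute p q ↔ Commute (s : G) r := by
  have hq' := cls_perp C.hx r.2.1 hq
  rw [cls_commute_iff C.fis C.hx r.2.1 hq (C.self_cls r) (cls_perp C.hx s.2.1 hp).1
    (cls_perp C.hx s.2.1 hp).2.2.symm, Commute.symm_iff,
    cls_commute_iff C.fis C.hx s.2.1 hp (C.self_cls s) r.2.1.1 r.2.1.2.2.symm, Commute.symm_iff]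

theorem two_step {n r : C.S} (h : Commute (n : G) r) :
    ∃ m : C.S, ¬ Commute (n : G) m ∧ ¬ Commute (m : G) r := by
  have hD := C.tra
  let P : G → Prop := fun z => ∀ r : C.S, z ∈ cls D x r →
    ¬ Commute (n : G) r ∨ ∃ m : C.S, ¬ Commute (n : G) m ∧ ¬ Commute (m : G) r
  have hP : ∀ z ∈ perp D x, P z := by
    intro z hz
    refine comp_all C.fis C.hx n.2.1 hz P ?_ ?_
    · intro u hu v hv huv ihu r' hr'
      obtain ⟨r, hur, -⟩ := C.sel hu
      have hrr : ¬ Commute (r : G) r' := fun h' => huv ((C.cls_comm hur hr').2 h')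
      rcases ihu r hur with h1 | ⟨m, h1, h2⟩
      · exact Or.inr ⟨r, h1, hrr⟩
      by_cases h3 : Commute (m : G) r'
      swap
      · exact Or.inr ⟨m, h1, h3⟩
      by_cases h4 : Commute (n : G) r
      swap
      · exact Or.inr ⟨r, h4, hrr⟩
      refine Or.inr ⟨C.thirdS r m, ?_, ?_⟩
      · intro h'
        exact h1 ((commute_cj_of hD r.2.1.1 h4.symm).1 h')
      · intro h'
        have h5 : Commute (r' : G) (cj (m : G) r) :=
          braid hD m.2.1.1 r.2.1.1 h2 ▸ h'.symm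
        exact hrr ((commute_cj_of hD m.2.1.1 h3).1 h5).symm
    · intro r' hr'
      have : (r' : G) = n := (sel_unique C.polar C.hx C.he C.hxe r'.2 hr' n.2.2).symm
      obtain ⟨m, hm⟩ := C.exists_adj n
      exact Or.inr ⟨m, hm, fun h' => hm (this ▸ h'.symm)⟩
  rcases hP r r.2.1 r (C.self_cls r) with h' | h'
  · exact absurd h h'
  · exact h'

theorem sigma_pr (s : C.S) (t : C.T) :
    ∃ h : (s : G) * t * (s : G)⁻¹ ∈ trl D x, C.pr ⟨_, h⟩ = C.pr t + C.N s (C.pr t) := by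
  refine ⟨trl_conj C.fis C.hx (Subgroup.subset_closure (Set.mem_insert_of_mem _ s.2.1)) t.2, ?_⟩
  rw [N_pr, add_comm, nu, ← pr_mul]
  refine congrArg C.pr (Subtype.ext ?_)
  show (s : G) * t * (s : G)⁻¹ = (s : G) * ((t : G) * s * (t : G)⁻¹) * t
  rw [inv_eq C.tra s.2.1.1]
  group

theorem span_top : ⨆ s, LinearMap.range (C.N s) = ⊤ := by
  rw [eq_top_iff]
  rintro u -
  obtain ⟨⟨t, ht⟩, rfl⟩ := C.pr_surj u
  induction ht using Subgroup.closure_induction with
  | mem g hg =>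
    rcases hg with rfl | ⟨y, hy, w, hw, rfl⟩
    · rw [show (⟨_, _⟩ : C.T) = C.xT from rfl, pr_x]; exact zero_mem _
    obtain ⟨s, hys, hsy⟩ := C.sel hy
    have hws : w ∈ cls D x s := by rw [cls_eq C.fis C.hx hy hsy]; exact hw
    obtain ⟨h, e'⟩ := C.pr_pair s hys hws
    rw [e']
    obtain ⟨u, hu⟩ := C.exists_shiftS s hys
    obtain ⟨v, hv⟩ := C.exists_shiftS s hws
    exact Submodule.mem_iSup_of_mem s (add_mem ⟨u, hu⟩ ⟨v, hv⟩)
  | one => exact (show C.pr 1 = 0 from C.pr_one) ▸ zero_mem _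
  | mul a b ha hb iha ihb =>
    rw [show (⟨a * b, _⟩ : C.T) = ⟨a, ha⟩ * ⟨b, hb⟩ from rfl, pr_mul]
    exact add_mem iha ihb
  | inv a ha iha =>
    have h : C.pr ⟨a⁻¹, inv_mem ha⟩ + C.pr ⟨a, ha⟩ = 0 := by
      rw [← pr_mul, show (⟨a⁻¹, inv_mem ha⟩ : C.T) * ⟨a, ha⟩ = 1 from Subtype.ext (inv_mul_cancel a),
        pr_one]
    rw [← ZModModule.sub_eq_add, sub_eq_zero] at h
    rw [h]; exact iha

theorem four_range (s : C.S) : ∃ a b, a ≠ 0 ∧ b ≠ 0 ∧ a ≠ b ∧ a ∈ LinearMap.range (C.N s) ∧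
    b ∈ LinearMap.range (C.N s) ∧ ∀ z ∈ LinearMap.range (C.N s), z = 0 ∨ z = a ∨ z = b ∨ z = a + b := by
  obtain ⟨p, hp, hps⟩ : ∃ p ∈ cls D x s, p ≠ (s : G) := by
    obtain ⟨p, hp, hne⟩ := Set.exists_ne_of_one_lt_ncard
      (show 1 < (cls D x (s : G)).ncard by rw [C.four x C.hx s s.2.1]; norm_num) (s : G)
    exact ⟨p, hp, hne⟩
  obtain ⟨r, hr, hrn⟩ : ∃ r ∈ cls D x s, r ∉ ({(s : G), p} : Set G) :=
    Set.exists_mem_notMem_of_ncard_lt_ncard (by
      rw [C.four x C.hx s s.2.1, Set.ncard_pair (Ne.symm hps)]; norm_num) (Set.toFinite _)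
  simp only [Set.mem_insert_iff, Set.mem_singleton_iff, not_or] at hrn
  refine ⟨C.pr (C.pt s hp), C.pr (C.pt s hr), fun h => hps ?_, fun h => hrn.1 ?_, fun h => hrn.2 ?_,
    C.exists_shiftS s hp, C.exists_shiftS s hr, fun z hz => ?_⟩
  · exact C.pr_pt_inj s hp (C.self_cls s) (h.trans (C.pr_pt_self s).symm)
  · exact C.pr_pt_inj s hr (C.self_cls s) (h.trans (C.pr_pt_self s).symm)
  · exact (C.pr_pt_inj s hp hr h).symm
  obtain ⟨q, hq, rfl⟩ := C.range_cases s hz
  by_cases h1 : q = s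
  · exact Or.inl ((C.nu_congr hq (C.self_cls s) h1).trans (C.pr_pt_self s))
  by_cases h2 : q = p
  · exact Or.inr (Or.inl (C.nu_congr hq hp h2))
  by_cases h3 : q = r
  · exact Or.inr (Or.inr (Or.inl (C.nu_congr hq hr h3)))
  refine Or.inr (Or.inr (Or.inr ?_))
  obtain ⟨h, e'⟩ := C.pr_pair s hp hr
  rw [← e']
  have h7 := prod_four C.polar C.hx s.2.1 (C.self_cls s) hq hp hr (Ne.symm h1) (Ne.symm hps)
    (Ne.symm hrn.1) h2 h3 (Ne.symm hrn.2)
  have h8 : C.pr (C.pt s hq) + C.pr ⟨p * r, h⟩ = 0 := by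
    rw [← pr_mul, show C.pt s hq * ⟨p * r, h⟩ = C.xT from Subtype.ext h7, pr_x]
  rwa [← ZModModule.sub_eq_add, sub_eq_zero] at h8

/-- The frame of the planes. -/
noncomputable def frame : Frame C.S C.U where
  adj s r := ¬ Commute (s : G) r
  third := C.thirdS
  N := C.N
  symm h h' := h h'.symm
  third_comm {s r} h := Subtype.ext (braid C.tra s.2.1.1 r.2.1.1 h)
  adj_third {s r} h := not_commute_cj C.tra s.2.1.1 h
  third_third {s r} _ := Subtype.ext (cj_cj C.tra s.2.1.1 (r : G))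
  third_of {n s r} _ h1 h2 := fun h => h ((commute_cj_of C.tra s.2.1.1 (not_not.1 h1).symm).2 (not_not.1 h2))
  sq s u := by
    obtain ⟨q, hq, e'⟩ := C.range_cases s ⟨u, rfl⟩
    rw [e', N_zero]
    show (s : G) * q * s * ((s : G) * q)⁻¹ = s
    have h := cls_commute C.fis C.hx s.2.1 hq (C.self_cls s)
    rw [mul_assoc (s : G) q, h.eq, ← mul_assoc, mul_self C.tra s.2.1.1, one_mul, _root_.mul_inv_rev,
      ← mul_assoc, mul_inv_cancel, one_mul, inv_eq C.tra s.2.1.1]
  zero {s r} h u := by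
    obtain ⟨q, hq, e'⟩ := C.range_cases r ⟨u, rfl⟩
    rw [e', N_zero]
    show (r : G) * q * s * ((r : G) * q)⁻¹ = s
    have h1 : Commute (r : G) s := (not_not.1 h).symm
    have h2 : Commute q s := ((C.cls_comm (C.self_cls s) hq).2 (not_not.1 h)).symm
    rw [(h1.mul_left h2).eq, mul_inv_cancel_right]
  inj {s r} h u hu := by
    obtain ⟨q, hq, e'⟩ := C.range_cases r ⟨u, rfl⟩
    rw [e', N_zero] at hu
    rw [e']
    have hD := C.tra
    have hq' := cls_perp C.hx r.2.1 hq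
    have h1 : cj q (s : G) = cj (r : G) s := by
      rw [← cj_cj hD r.2.1.1 (cj q (s : G))]
      refine congrArg (cj (r : G)) ?_
      calc cj (r : G) (cj q (s : G)) = (r : G) * q * s * ((r : G) * q)⁻¹ := by
            rw [_root_.mul_inv_rev, inv_eq hD r.2.1.1, inv_eq hD hq'.1]; simp only [cj_def, mul_assoc]
        _ = s := hu
    rw [braid hD hq'.1 s.2.1.1 (fun h' => h ((C.cls_comm hq (C.self_cls s)).1 h').symm),
      braid hD r.2.1.1 s.2.1.1 (fun h' => h h'.symm), cj_inj hD s.2.1.1] at h1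
    exact (C.nu_congr hq (C.self_cls r) h1).trans (C.pr_pt_self r)
  conjN {s r} _ u := by
    obtain ⟨t, rfl⟩ := C.pr_surj u
    obtain ⟨ht, e1⟩ := C.sigma_pr s t
    rw [← e1, N_pr, N_pr]
    obtain ⟨hn, e2⟩ := C.sigma_pr s (C.pt r (C.act_cls r ⟨_, ht⟩))
    rw [show C.nu r ⟨_, ht⟩ = C.pr (C.pt r (C.act_cls r ⟨_, ht⟩)) from rfl, ← e2]
    refine congrArg C.pr (Subtype.ext ?_)
    show cj (s : G) r * ((t : G) * cj (s : G) r * (t : G)⁻¹) =
      (s : G) * ((r : G) * ((s : G) * t * (s : G)⁻¹ * r * ((s : G) * t * (s : G)⁻¹)⁻¹)) * (s : G)⁻¹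
    simp only [cj_def, _root_.mul_inv_rev, inv_inv, inv_eq C.tra s.2.1.1, mul_assoc,
      mul_self C.tra s.2.1.1, mul_one]
  four := C.four_range
  two_step {n r} h := C.two_step (not_not.1 h)
  span := C.span_top

theorem exists_S : Nonempty C.S := by
  obtain ⟨s, hs⟩ := common_nonempty C.fis C.hx C.he C.hxe
  exact ⟨⟨s, hs⟩⟩

open scoped Classical in
/-- The conjugate of a product of two points of a class by a translation. -/
theorem conj_pt (s : C.S) {q : G} (hq : q ∈ cls D x s) (hne : q ≠ (s : G)) (t : C.T) :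
    (t : G) * ((s : G) * q) * (t : G)⁻¹ = if C.N s (C.pr t) = 0 ∨ C.N s (C.pr t) = C.pr (C.pt s hq)
      then (s : G) * q else (s : G) * q * x := by
  classical
  have hD := C.tra
  have hs' : (t : G) * s * (t : G)⁻¹ ∈ cls D x s := C.act_cls s t
  have hq' := C.act_cls' s t hq
  have hinv : ∀ z ∈ cls D x s, (t : G) * ((t : G) * z * (t : G)⁻¹) * (t : G)⁻¹ = z := fun z hz => by
    rw [show (t : G) * ((t : G) * z * (t : G)⁻¹) * (t : G)⁻¹ = (t : G) * t * z * ((t : G) * t)⁻¹ by group,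
      trl_sq_act C.polar C.hx t.2 z (cls_perp C.hx s.2.1 hz)]
  have hsq := cls_commute C.fis C.hx s.2.1 (C.self_cls s) hq
  rw [show (t : G) * ((s : G) * q) * (t : G)⁻¹ =
    ((t : G) * s * (t : G)⁻¹) * ((t : G) * q * (t : G)⁻¹) by group]
  by_cases h1 : (t : G) * s * (t : G)⁻¹ = s
  · rw [if_pos (Or.inl ((C.N_zero s t).2 h1)), h1, trl_fix C.polar C.hx t.2 s.2.1 hq h1]
  by_cases h2 : (t : G) * s * (t : G)⁻¹ = q
  · have hsq2 : (t : G) * q * (t : G)⁻¹ = s := by rw [← h2]; exact hinv _ (C.self_cls s)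
    rw [if_pos (Or.inr (show C.N s (C.pr t) = C.pr (C.pt s hq) from C.nu_congr _ _ h2)), h2, hsq2, hsq.eq]
  rw [if_neg]
  swap
  · rintro (h | h)
    · exact h1 ((C.N_zero s t).1 h)
    · exact h2 (C.pr_pt_inj s hs' hq h)
  have h3 : (t : G) * q * (t : G)⁻¹ ≠ s := fun h => h2 (by
    calc (t : G) * s * (t : G)⁻¹ = (t : G) * ((t : G) * q * (t : G)⁻¹) * (t : G)⁻¹ := by rw [h]
      _ = q := hinv q hq)
  have h4 : (t : G) * q * (t : G)⁻¹ ≠ q := fun h =>
    h1 (trl_fix C.polar C.hx t.2 (cls_perp C.hx s.2.1 hq)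
      (by rw [cls_eq C.fis C.hx s.2.1 hq]; exact C.self_cls s) h)
  have h5 := prod_four C.polar C.hx s.2.1 (C.self_cls s) hq hs' hq' hne.symm (Ne.symm h1) (Ne.symm h3)
    (Ne.symm h2) (Ne.symm h4) fun h => hne (by simpa using h.symm)
  rw [← eq_inv_mul_iff_mul_eq, _root_.mul_inv_rev, inv_eq hD hq.1.1, inv_eq hD s.2.1.1, ← hsq.eq] at h5
  exact h5

/-- A translation fixing all common neighbours of `x` and `e` is trivial or `x`. -/
theorem kernel (t : C.T) (h : ∀ s : C.S, C.N s (C.pr t) = 0) : C.pr t = 0 := by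
  have hD := C.tra
  have hperp : ∀ d ∈ perp D x, Commute (t : G) d := by
    intro d hd
    obtain ⟨s, hds, -⟩ := C.sel hd
    exact mul_inv_eq_iff_eq_mul.1 (trl_fix C.polar C.hx t.2 s.2.1 hds ((C.N_zero s t).1 (h s)))
  have hcx : Commute (t : G) x := trl_commute C.fis C.hx t.2
  have hz : ∀ {u : G}, u * u = 1 → Commute u x → (∀ d ∈ perp D x, Commute u d) → u = (t : G) → C.pr t = 0 := by
    intro u h1 h2 h3 e'
    rcases kernel_invol C.polar C.hx h1 h2 h3 with rfl | rfl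
    · rw [show t = 1 from Subtype.ext e'.symm, pr_one]
    · rw [show t = C.xT from Subtype.ext e'.symm, pr_x]
  rcases trl_sq C.polar C.hx t.2 with h2 | h2
  · exact hz h2 hcx hperp rfl
  exfalso
  obtain ⟨s⟩ := C.exists_S
  obtain ⟨r, hsr⟩ := C.exists_adj s
  obtain ⟨A, B, hA, hB, hAB, hAm, hBm, -⟩ := C.four_range s
  obtain ⟨q, hq, rfl⟩ := C.range_cases s hAm
  have hb : C.N r (B) ∈ LinearMap.range (C.N r) := ⟨B, rfl⟩
  obtain ⟨p, hp, ep⟩ := C.range_cases r hb
  have hNb : C.N s (C.pr (C.pt r hp)) = B := by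
    rw [← ep]; exact C.frame.back hsr hBm
  have hqs : q ≠ (s : G) := fun h' => hA ((C.nu_congr hq (C.self_cls s) h').trans (C.pr_pt_self s))
  have hc := C.conj_pt s hq hqs (C.pt r hp)
  rw [if_neg (by rw [hNb]; exact not_or.2 ⟨hB, hAB.symm⟩)] at hc
  obtain ⟨a, had⟩ : ∃ a, a = (s : G) * q := ⟨_, rfl⟩
  obtain ⟨b, hbd⟩ : ∃ b, b = (r : G) * p := ⟨_, rfl⟩
  have hb2 : b * b = 1 := by
    rw [hbd, mul_assoc, ← mul_assoc p, (cls_commute C.fis C.hx r.2.1 hp (C.self_cls r)).eq,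
      mul_assoc (r : G), mul_self hD hp.1.1, mul_one, mul_self hD r.2.1.1]
  have ha2 : a * a = 1 := by
    rw [had, mul_assoc, ← mul_assoc q, (cls_commute C.fis C.hx s.2.1 hq (C.self_cls s)).eq,
      mul_assoc (s : G), mul_self hD hq.1.1, mul_one, mul_self hD s.2.1.1]
  have hbab : b * a * b = a * x := by
    have hc' : b * a * b⁻¹ = a * x := by rw [had, hbd]; exact hc
    rwa [inv_eq_of_mul_eq_one_right hb2] at hc'
  have htc : ∀ {u : G}, u ∈ trl D x → Commute (t : G) u := by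
    intro u hu
    have hle : trl D x ≤ Subgroup.centralizer ({(t : G)} : Set G) := by
      rw [trl, Subgroup.closure_le]
      rintro g (rfl | ⟨y, hy, w, hw, rfl⟩)
      · exact Subgroup.mem_centralizer_singleton_iff.2 hcx.symm.eq
      · exact Subgroup.mem_centralizer_singleton_iff.2
          ((hperp y hy).mul_right (hperp w (cls_perp C.hx hy hw))).symm.eq
    exact (Subgroup.mem_centralizer_singleton_iff.1 (hle hu) : u * t = t * u).symm
  have hat : a ∈ trl D x := had ▸ C.pairT_mem s hq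
  have hbt : b ∈ trl D x := hbd ▸ C.pairT_mem r hp
  set u : C.T := C.pt s hq * C.pt r hp * t with hu
  have hu2 : (u : G) * u = 1 := by
    show (s : G) * q * ((r : G) * p) * t * ((s : G) * q * ((r : G) * p) * t) = 1
    rw [← had, ← hbd]
    calc a * b * t * (a * b * t) = a * b * (t * (a * b)) * t := by simp only [mul_assoc]
      _ = a * b * (a * b * t) * t := by rw [((htc hat).mul_right (htc hbt)).eq]
      _ = a * (b * a * b) * ((t : G) * t) := by simp only [mul_assoc]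
      _ = 1 := by rw [hbab, h2, ← mul_assoc, ha2, one_mul, mul_self hD C.hx]
  have hpu : ∀ i : C.S, C.N i (C.pr u) = C.N i (C.pr (C.pt s hq)) + C.N i (C.pr (C.pt r hp)) := fun i => by
    rw [hu, pr_mul, pr_mul, map_add, map_add, h i, add_zero]
  have hne : ∀ {z : C.T}, C.pr z = 0 → u ≠ z := fun {z} hz' e' => hB (by
    have h' := hpu s
    rwa [e', hz', map_zero, show C.N s (C.pr (C.pt s hq)) = 0 from
      C.frame.N_self ⟨_, (C.exists_shiftS s hq).choose_spec⟩, hNb, zero_add,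
      eq_comm] at h')
  obtain ⟨k, hk, m, hm, -, hum⟩ := exists_singular C.polar C.hx C.he C.hxe u.2 hu2
    (fun e' => hne C.pr_one (Subtype.ext e')) (fun e' => hne C.pr_x (Subtype.ext e'))
  have hur : C.pr u = C.pr (C.pt ⟨k, hk⟩ hm) := by
    rcases hum with e' | e'
    · rw [show u = C.pt ⟨k, hk⟩ hm from Subtype.ext e']
    · rw [show u = C.pt ⟨k, hk⟩ hm * C.xT from Subtype.ext e', pr_mul, pr_x, add_zero]
  have hP : ∀ (i : C.S) {z : G} (hz : z ∈ cls D x i), C.pr (C.pt i hz) ∈ C.frame.P i := fun i z hz =>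
    C.exists_shiftS i hz
  have hB0 : C.pr (C.pt r hp) ≠ 0 := fun h' => hB (by rw [← hNb, h', map_zero])
  have key := C.frame.sum_not_singular hsr (hP s hq) (hP r hp) hA hB0 (hP ⟨k, hk⟩ hm)
    (fun i => by rw [← hur]; exact hpu i)
  exact hAB.symm (hNb.symm.trans key)

theorem sep (u : C.U) (h : ∀ s : C.S, C.N s u = 0) : u = 0 := by
  obtain ⟨t, rfl⟩ := C.pr_surj u
  exact C.kernel t h

/-- Members commuting with all common neighbours of a non-commuting pair lie in its triple. -/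
theorem third_unique {b : G} (hb : b ∈ D) (h : ∀ z ∈ D, Commute x z → Commute e z → Commute b z) :
    b = x ∨ b = e ∨ b = cj x e := by
  have hD := C.tra
  by_cases hxb : Commute x b
  · rcases eq_or_ne b x with hbx | hbx
    · exact Or.inl hbx
    obtain ⟨s, hs, hn⟩ := exists_separated C.polar C.hx C.he C.hxe (mem_perp' hb hbx.symm hxb)
    exact absurd (h s hs.1.1 hs.1.2.2 hs.2) hn
  obtain ⟨t, ht, rfl⟩ := trl_trans C.polar C.hx C.he C.hxe hb hxb
  have h0 : C.pr ⟨t, ht⟩ = 0 := C.sep _ fun s => (C.N_zero s ⟨t, ht⟩).2 (by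
    have hb' : t * e * t⁻¹ ∈ D := hD.conj t e C.he
    obtain ⟨r, -, -, hr⟩ := exists_unique_sel C.polar C.hx s.2.1 hb' hxb
    exact (hr _ (C.act_cls s ⟨t, ht⟩) ((Commute.conj_iff t).2 s.2.2)).trans
      (hr (s : G) (C.self_cls s) (h s s.2.1.1 s.2.1.2.2 s.2.2)).symm)
  rcases C.pr_eq_zero h0 with h1 | h1
  · exact Or.inr (Or.inl (by rw [show t = 1 from congrArg Subtype.val h1]; simp))
  · exact Or.inr (Or.inr (by rw [show t = x from congrArg Subtype.val h1, cj_conj hD C.hx]))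

end Ctx

end Cfsg.Lib.Fischer.Polar
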