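import Cfsg.Agent.Lib.Fischer.Polar.Unitary

/-!
# The unitary space of a group with five points on each line

The space is `F ⊕ U ⊕ F`: `x` and its neighbours are the isotropic points with last coordinate zero,
the member moved from `e` by the translation `t` is the point with coordinates of `t`.
-/

set_option autoImplicit false
set_option linter.style.haveILetI false
set_option linter.unusedSimpArgs false
set_option linter.unusedSectionVars false

namespace Cfsg.Lib.Fischer.Polar

open Cfsg Cfsg.Lib.Fischer Module Cfsg.Lib.Linear.Herm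

/-- A field with four elements. -/
abbrev F4 : Type := GaloisField 2 2

noncomputable instance fintypeF4 : Fintype F4 := Fintype.ofFinite F4

theorem card_F4 : Fintype.card F4 = 2 ^ 2 := by
  rw [Fintype.card_eq_nat_card]
  exact GaloisField.card 2 2 (by norm_num)

/-- The conjugation. -/
noncomputable abbrev σ4 : F4 →+* F4 := frob card_F4

theorem two_F4 : (2 : F4) = 0 := (RadicalAbelian.fourField card_F4).two

theorem σ4_algebraMap (i : ZMod 2) : σ4 (algebraMap (ZMod 2) F4 i) = algebraMap (ZMod 2) F4 i := by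
  rcases z2 i with rfl | rfl <;> simp

theorem exists_gen_F4 : ∃ o : F4, o * o = o + 1 ∧ σ4 o = o + 1 := by
  classical
  obtain ⟨o, -, h0, h1⟩ : ∃ o : F4, o ∈ Finset.univ ∧ o ≠ 0 ∧ o ≠ 1 := by
    have h : ({0, 1} : Finset F4).card < (Finset.univ : Finset F4).card := by
      rw [Finset.card_univ, card_F4]
      exact lt_of_le_of_lt Finset.card_le_two (by norm_num)
    obtain ⟨o, ho, hn⟩ := Finset.exists_mem_notMem_of_card_lt_card h
    simp only [Finset.mem_insert, Finset.mem_singleton, not_or] at hn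
    exact ⟨o, ho, hn⟩
  have hc := (RadicalAbelian.fourField card_F4).cube o h0
  have h2 := two_F4
  have hoo : o * o = o + 1 := by
    have : (o - 1) * (o * o + o + 1) = 0 := by linear_combination hc
    rcases mul_eq_zero.1 this with h | h
    · exact absurd (sub_eq_zero.1 h) h1
    · linear_combination h - (o + 1) * h2
  exact ⟨o, hoo, by rw [(RadicalAbelian.fourField card_F4).sq, ← hoo]⟩

namespace Ctx.Forms

variable {G : Type*} [Group G] [Finite G] {D : Set G} {x e : G} {C : Ctx D x e} (Φ : Forms C)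

include Φ

theorem ω_smul_cases {s : C.S} {a b : C.U} (ha : a ∈ C.frame.P s) (h0 : a ≠ 0) (hb : b ∈ C.frame.P s) :
    ∃ i j : ZMod 2, b = i • a + j • Φ.ω a := by
  have hor : C.frame.Or3 s Φ.ω := fun z hz => ⟨Φ.ω_mem hz, Φ.sq z⟩
  rcases hor.cases C.frame ha h0 hb with h | h | h | h
  · exact ⟨0, 0, by simp [h]⟩
  · exact ⟨1, 0, by simp [h]⟩
  · exact ⟨0, 1, by simp [h]⟩
  · exact ⟨1, 1, by simp [h]⟩

/-- The group is unitary. Its degree is four or five unless two common neighbours of a non-commuting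
pair commute. -/
theorem exists_unitary_image :
    ∃ n : ℕ, (4 ≤ n ∧ ∃ e : G ≃* Cfsg.PSU n F4 2, ∃ d ∈ D, ∃ A : ↥(Cfsg.SU n F4 2), e d = QuotientGroup.mk A ∧
      (((A : Matrix.SpecialLinearGroup (Fin n) F4) : Matrix (Fin n) (Fin n) F4) - 1).rank = 1) ∧
      (n = 4 ∨ n = 5 ∨ (6 ≤ n ∧ ∃ s r : C.S, s ≠ r ∧ Commute (s : G) r)) := by
  classical
  obtain ⟨o, ho, hσo⟩ := exists_gen_F4
  have hD := C.tra
  have h2F := two_F4
  let am := algebraMap (ZMod 2) F4
  -- coordinates in the field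
  let ι : ZMod 2 × ZMod 2 → F4 := fun p => am p.1 + am p.2 * o
  have ι_add : ∀ p q, ι (p + q) = ι p + ι q := fun p q => by
    simp only [ι, Prod.fst_add, Prod.snd_add, map_add]; ring
  have ι_mul : ∀ p q : ZMod 2 × ZMod 2,
      ι p * ι q = ι (p.1 * q.1 + p.2 * q.2, p.1 * q.2 + p.2 * q.1 + p.2 * q.2) := fun p q => by
    simp only [ι, map_add, map_mul]
    linear_combination (am p.2 * am q.2) * ho
  have ι_zero : ι (0, 0) = 0 := by simp [ι]
  have ι_inj : Function.Injective ι := by
    have key : ∀ p : ZMod 2 × ZMod 2, ι p = 0 → p = 0 := by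
      rintro ⟨i, j⟩ h
      simp only [ι] at h
      rcases z2 j with rfl | rfl
      · rw [map_zero, zero_mul, add_zero, map_eq_zero] at h
        rw [h]; rfl
      · exfalso
        rw [map_one, one_mul] at h
        rcases z2 i with rfl | rfl
        · rw [map_zero, zero_add] at h
          rw [h] at ho; simp at ho
        · rw [map_one] at h
          have h' : o = 1 := by linear_combination h - h2F
          rw [h'] at ho
          exact one_ne_zero (α := F4) (by linear_combination -ho)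
    intro p q h
    have h' := key (p + q) (by rw [ι_add, h]; linear_combination ι q * h2F)
    rwa [← ZModModule.sub_eq_add, sub_eq_zero] at h'
  have ι_surj : Function.Surjective ι := by
    refine ((Fintype.bijective_iff_injective_and_card ι).2 ⟨ι_inj, ?_⟩).2
    rw [card_F4, Fintype.card_prod, ZMod.card]; norm_num
  choose co hco using ι_surj
  have co_ι : ∀ p, co (ι p) = p := fun p => ι_inj (hco _)
  have co_add : ∀ k l, co (k + l) = co k + co l := fun k l => ι_inj (by rw [hco, ι_add, hco, hco])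
  have co_mul : ∀ k l, co (k * l) = ((co k).1 * (co l).1 + (co k).2 * (co l).2,
      (co k).1 * (co l).2 + (co k).2 * (co l).1 + (co k).2 * (co l).2) := fun k l =>
    ι_inj (by rw [hco, ← ι_mul, hco, hco])
  have co_one : co 1 = (1, 0) := ι_inj (by rw [hco]; simp [ι])
  have co_zero : co 0 = (0, 0) := ι_inj (by rw [hco, ι_zero])
  have σι : ∀ p : ZMod 2 × ZMod 2, σ4 (ι p) = ι (p.1 + p.2, p.2) := fun p => by
    simp only [ι, map_add, map_mul, σ4_algebraMap, hσo, am]; ring
  letI : SMul F4 C.U := ⟨fun k u => (co k).1 • u + (co k).2 • Φ.ω u⟩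
  have hsmul : ∀ (k : F4) (u : C.U), k • u = (co k).1 • u + (co k).2 • Φ.ω u := fun _ _ => rfl
  letI mU : Module F4 C.U :=
    { one_smul := fun u => by rw [hsmul, co_one, one_smul, zero_smul, add_zero]
      mul_smul := fun k l u => by
        simp only [hsmul, co_mul, map_add, map_smul, Φ.sq, smul_add, add_smul, mul_smul]
        abel
      smul_zero := fun k => by simp only [hsmul, map_zero, smul_zero, add_zero]
      smul_add := fun k u v => by simp only [hsmul, map_add, smul_add]; abel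
      add_smul := fun k l u => by simp only [hsmul, co_add, Prod.fst_add, Prod.snd_add, add_smul]; abel
      zero_smul := fun u => by simp only [hsmul, co_zero, zero_smul, add_zero] }
  haveI : Finite C.U := Finite.of_surjective C.pr C.pr_surj
  -- the Hermitian form
  let H : C.U → C.U → F4 := fun u v => ι (Φ.γ u v, Φ.B u v)
  have H_addl : ∀ u u' v, H (u + u') v = H u v + H u' v := fun u u' v => by
    simp only [H, map_add, LinearMap.add_apply]; exact ι_add (_, _) (_, _)
  have H_addr : ∀ u v v', H u (v + v') = H u v + H u v' := fun u v v' => by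
    simp only [H, map_add]; exact ι_add (_, _) (_, _)
  have H_smulr : ∀ (k : F4) u v, H u (k • v) = k * H u v := fun k u v => by
    conv_rhs => rw [← hco k, ι_mul]
    simp only [H, hsmul, map_add, map_smul, smul_eq_mul, Φ.γ_ω_right, Φ.B_ω_right]
    congr 2
    ring
  have H_symm : ∀ u v, σ4 (H u v) = H v u := fun u v => by
    have h1 : Φ.γ v u = Φ.γ u v + Φ.B u v := by
      rw [← Φ.B_ω_right, Φ.B_symm]; rfl
    simp only [H, σι, h1, Φ.B_symm v u]
  have H_smull : ∀ (k : F4) u v, H (k • u) v = σ4 k * H u v := fun k u v => by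
    rw [← H_symm v, H_smulr, map_mul, H_symm]
  have H_zero : ∀ u v, H u v = 0 ↔ Φ.γ u v = 0 ∧ Φ.B u v = 0 := fun u v => by
    refine ⟨fun h => ?_, fun h => by simp only [H, h.1, h.2, ι_zero]⟩
    have h' := ι_inj (h.trans ι_zero.symm)
    exact ⟨congrArg Prod.fst h', congrArg Prod.snd h'⟩
  have B_self : ∀ u, Φ.B u u = 0 := fun u => by rw [← Φ.pol_γ, pol_self]
  have H_self : ∀ u, H u u = am (Φ.γ u u) := fun u => by
    simp only [H, ι, B_self, map_zero, zero_mul, add_zero]
  let BV : (F4 × C.U × F4) →ₛₗ[σ4] (F4 × C.U × F4) →ₗ[F4] F4 :=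
    LinearMap.mk₂'ₛₗ σ4 (RingHom.id F4)
      (fun p q => σ4 p.1 * q.2.2 + σ4 p.2.2 * q.1 + H p.2.1 q.2.1)
      (fun p p' q => by simp only [Prod.fst_add, Prod.snd_add, map_add, H_addl]; ring)
      (fun k p q => by simp only [Prod.smul_fst, Prod.smul_snd, smul_eq_mul, map_mul, H_smull]; ring)
      (fun p q q' => by simp only [Prod.fst_add, Prod.snd_add, H_addr]; ring)
      (fun k p q => by simp only [Prod.smul_fst, Prod.smul_snd, smul_eq_mul, H_smulr, RingHom.id_apply]; ring)
  have BV_apply : ∀ p q, BV p q = σ4 p.1 * q.2.2 + σ4 p.2.2 * q.1 + H p.2.1 q.2.1 := fun _ _ => rfl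
  have BV_symm : BV.IsSymm := ⟨fun p q => by
    simp only [BV_apply, map_add, map_mul, frob_frob, H_symm]
    ring⟩
  have H0r : ∀ u, H u 0 = 0 := fun u => (H_zero u 0).2 ⟨map_zero _, map_zero _⟩
  have BV_nondeg : BV.Nondegenerate := by
    have key : ∀ p, (∀ q, BV p q = 0) → p = 0 := by
      rintro ⟨a, u, b⟩ h
      have ha : a = 0 := by
        have := h (0, 0, 1)
        simp only [BV_apply, mul_one, mul_zero, add_zero, H0r] at this
        exact σ4.injective (this.trans (map_zero _).symm)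
      have hb : b = 0 := by
        have := h (1, 0, 0)
        simp only [BV_apply, mul_one, mul_zero, zero_add, add_zero, H0r] at this
        exact σ4.injective (this.trans (map_zero _).symm)
      have hu : u = 0 := by_contra fun hu => by
        obtain ⟨v, hv⟩ := Φ.nondeg hu
        have := h (0, v, 0)
        simp only [BV_apply, mul_zero, zero_add] at this
        rw [Φ.pol_γ, ((H_zero u v).1 this).2] at hv
        exact zero_ne_one hv
      simp [ha, hb, hu]
    exact ⟨key, fun q hq => key q fun p => BV_symm.isRefl _ _ (hq p)⟩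
  -- representatives of the planes
  have hAs : ∀ s : C.S, ∃ a ∈ C.frame.P s, a ≠ 0 := fun s => by
    obtain ⟨a, -, ha, -, -, ham, -⟩ := C.four_range s
    exact ⟨a, ham, ha⟩
  choose as has has0 using hAs
  -- the coordinate of a point of a plane
  let hc : C.S → C.U → F4 := fun s p =>
    ι (if Φ.ω (as s) = 0 ∨ p = 0 ∨ p = Φ.ω (as s) then 0 else 1,
      if as s = 0 ∨ p = 0 ∨ p = as s then 0 else 1)
  have hHc : ∀ s u, H (as s) u = hc s (C.N s u) := fun s u => by
    simp only [H, hc, Φ.γ_apply]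
    rw [Φ.B_plane (Φ.ω_mem (has s)), Φ.B_plane (has s)]
  have hc_inj : ∀ s p p', p ∈ C.frame.P s → p' ∈ C.frame.P s → hc s p = hc s p' → p = p' := by
    intro s p p' hp hp' h
    obtain ⟨u, rfl⟩ := hp
    obtain ⟨u', rfl⟩ := hp'
    show C.N s u = C.N s u'
    have h' : H (as s) (u + u') = 0 := by
      rw [H_addr, hHc, hHc]
      show hc s (C.frame.N s u) + hc s (C.frame.N s u') = 0
      rw [h]
      linear_combination hc s (C.frame.N s u') * h2F
    obtain ⟨h1, h3⟩ := (H_zero _ _).1 h'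
    rw [Φ.γ_apply, Φ.B_plane (Φ.ω_mem (has s))] at h1
    rw [Φ.B_plane (has s)] at h3
    by_contra hne
    have hne' : C.N s (u + u') ≠ 0 := by
      rw [map_add]
      intro h0
      rw [← ZModModule.sub_eq_add, sub_eq_zero] at h0
      exact hne h0
    by_cases hA : C.N s (u + u') = as s
    · rw [if_neg (not_or.2 ⟨fun h => has0 s (Φ.ω_zero.1 h), not_or.2 ⟨hne', fun h => Φ.ω_ne (has0 s) (h.symm.trans hA)⟩⟩)] at h1
      exact one_ne_zero h1
    · rw [if_neg (not_or.2 ⟨has0 s, not_or.2 ⟨hne', hA⟩⟩)] at h3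
      exact one_ne_zero h3
  -- coordinates of members
  have hsel : ∀ d : G, d ∈ perp D x → ∃ s : C.S, d ∈ cls D x s := fun d hd =>
    let ⟨s, hs, _⟩ := C.sel hd
    ⟨s, hs⟩
  choose sel hsel using hsel
  have sel_eq : ∀ {d : G} (hd : d ∈ perp D x) {s : C.S}, d ∈ cls D x s → sel d hd = s := fun {d} hd {s} hs => by
    refine Subtype.ext (sel_unique C.polar C.hx C.he C.hxe s.2 ?_ (sel d hd).2.2)
    rw [← cls_eq C.fis C.hx s.2.1 hs, cls_eq C.fis C.hx (sel d hd).2.1 (hsel d hd)]
    exact C.self_cls _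
  have htr : ∀ d : G, d ∈ D → ¬ Commute x d → ∃ t : C.T, (t : G) * e * (t : G)⁻¹ = d := fun d hd hn => by
    obtain ⟨t, ht, h⟩ := trl_trans C.polar C.hx C.he C.hxe hd hn
    exact ⟨⟨t, ht⟩, h⟩
  choose tr htr using htr
  obtain ⟨χ, χmul, χx, χroot⟩ := Φ.exists_chi
  let cA : C.T → F4 × C.U × F4 := fun t => (ι (χ t, Φ.γ (C.pr t) (C.pr t)), C.pr t, 1)
  let cP : (s : C.S) → {q : G // q ∈ cls D x s} → F4 × C.U × F4 := fun s q =>
    (σ4 (hc s (C.pr (C.pt s q.2))), as s, 0)
  let c : D → F4 × C.U × F4 := fun d =>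
    if h : Commute x (d : G) then
      if h' : (d : G) = x then (1, 0, 0) else
        cP (sel d ⟨d.2, h', h⟩) ⟨d, hsel d ⟨d.2, h', h⟩⟩
    else cA (tr d d.2 h)
  have c_x : ∀ d : D, (d : G) = x → c d = (1, 0, 0) := fun d hd => by
    simp only [c]
    rw [dif_pos (show Commute x (d : G) by rw [hd]), dif_pos hd]
  have c_P : ∀ (d : D) (s : C.S) (hq : (d : G) ∈ cls D x s), c d = cP s ⟨d, hq⟩ := fun d s hq => by
    have hd := cls_perp C.hx s.2.1 hq
    simp only [c]
    rw [dif_pos hd.2.2, dif_neg hd.2.1]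
    obtain rfl := sel_eq hd hq
    rfl
  have c_A : ∀ (d : D) (t : C.T), (t : G) * e * (t : G)⁻¹ = d → c d = cA t := fun d t ht => by
    have hn : ¬ Commute x (d : G) := fun h => C.hxe (by
      rw [← ht] at h
      refine (Commute.conj_iff (t : G)).1 ?_
      rwa [show (t : G) * x * (t : G)⁻¹ = x by rw [(trl_commute C.fis C.hx t.2).eq, mul_inv_cancel_right]])
    simp only [c]
    rw [dif_neg hn]
    congr 1
    exact Subtype.ext (trl_eq_of C.polar C.hx (tr d d.2 hn).2 t.2 C.he C.hxe ((htr d d.2 hn).trans ht.symm))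
  have kinds : ∀ d : D, ((d : G) = x) ∨ (∃ s : C.S, (d : G) ∈ cls D x s) ∨
      ∃ t : C.T, (t : G) * e * (t : G)⁻¹ = d := fun d => by
    by_cases h : Commute x (d : G)
    · rcases eq_or_ne (d : G) x with h' | h'
      · exact Or.inl h'
      · exact Or.inr (Or.inl ⟨_, hsel d ⟨d.2, h', h⟩⟩)
    · exact Or.inr (Or.inr ⟨_, htr d d.2 h⟩)
  have γP0 : ∀ {s : C.S} {a : C.U}, a ∈ C.frame.P s → H a a = 0 := fun {s a} ha => by
    rw [H_self, Φ.γ_P ha ha, map_zero]
  -- isotropy
  have hiso : ∀ d, BV (c d) (c d) = 0 := fun d => by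
    rcases kinds d with h | ⟨s, h⟩ | ⟨t, h⟩
    · rw [c_x d h, BV_apply]
      show σ4 1 * 0 + σ4 0 * 1 + H 0 0 = 0
      rw [H0r, map_zero]; ring
    · rw [c_P d s h, BV_apply]
      simp only [cP, mul_zero, map_zero, zero_mul, zero_add, γP0 (has s)]
    · rw [c_A d t h, BV_apply]
      simp only [cA, σι, map_one, mul_one, one_mul, H_self, ← ι_add]
      simp only [ι, Prod.fst_add, Prod.snd_add, map_add, am]
      linear_combination (am (χ t) + am (Φ.γ (C.pr t) (C.pr t)) * o + am (Φ.γ (C.pr t) (C.pr t))) * h2F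
  have hne : ∀ d, c d ≠ 0 := fun d h0 => by
    rcases kinds d with h | ⟨s, h⟩ | ⟨t, h⟩
    · rw [c_x d h] at h0
      exact one_ne_zero (congrArg Prod.fst h0)
    · rw [c_P d s h] at h0
      exact has0 s (congrArg (fun p => p.2.1) h0)
    · rw [c_A d t h] at h0
      exact one_ne_zero (congrArg (fun p => p.2.2) h0)
  -- singular translations
  have root_iff : ∀ t : C.T, Φ.IsRoot t ↔ Φ.γ (C.pr t) (C.pr t) = 0 ∧ χ t = 0 := fun t => by
    constructor
    · intro ht
      refine ⟨?_, χroot t ht⟩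
      rcases eq_or_ne t 1 with rfl | h
      · rw [C.pr_one]; simp
      · obtain ⟨s, q, hq, -, -, e2⟩ := Φ.root_pr ht h
        rw [e2]; exact Φ.γ_P (C.exists_shiftS s hq) (C.exists_shiftS s hq)
    · rintro ⟨h1, h3⟩
      obtain ⟨u, hu, hpu⟩ : ∃ u, Φ.IsRoot u ∧ C.pr u = C.pr t := by
        rcases eq_or_ne (C.pr t) 0 with h | h
        · refine ⟨1, ?_, by rw [C.pr_one, h]⟩
          show Commute e ((1 : G) * e * (1 : G)⁻¹)
          rw [one_mul, inv_one, mul_one]
        · obtain ⟨s, hs⟩ := Φ.singular_mem h1 h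
          exact Φ.root_exists hs
      rcases C.pr_eq hpu.symm with rfl | rfl
      · exact hu
      · exfalso
        rw [χmul, χroot u hu, χx, C.pr_x, map_zero, zero_add, add_zero] at h3
        exact one_ne_zero h3
  have pr_inv : ∀ t : C.T, C.pr t⁻¹ = C.pr t := fun t => by
    have h := C.pr_mul t t⁻¹
    rw [mul_inv_cancel, C.pr_one, eq_comm, ← ZModModule.sub_eq_add, sub_eq_zero] at h
    exact h.symm
  have χone : χ 1 = 0 := by
    have h := χmul 1 1
    rw [one_mul, C.pr_one, map_zero, add_zero, ← two_mul, show (2 : ZMod 2) = 0 from rfl, zero_mul] at h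
    exact h
  have χinv : ∀ t : C.T, χ t⁻¹ = χ t + Φ.γ (C.pr t) (C.pr t) := fun t => by
    have h := χmul t t⁻¹
    rw [mul_inv_cancel, χone, pr_inv] at h
    linear_combination -h - ZModModule.add_self (χ t + Φ.γ (C.pr t) (C.pr t))
  -- incidence
  have hAA : ∀ t u : C.T, Commute ((t : G) * e * (t : G)⁻¹) ((u : G) * e * (u : G)⁻¹) ↔
      BV (cA t) (cA u) = 0 := fun t u => by
    have e1 : Commute ((t : G) * e * (t : G)⁻¹) ((u : G) * e * (u : G)⁻¹) ↔ Φ.IsRoot (t⁻¹ * u) := by
      rw [← Commute.conj_iff (t : G)⁻¹]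
      show Commute _ _ ↔ Commute e (((t⁻¹ * u : C.T) : G) * e * ((t⁻¹ * u : C.T) : G)⁻¹)
      rw [show (t : G)⁻¹ * ((t : G) * e * (t : G)⁻¹) * (t : G)⁻¹⁻¹ = e by group,
        show (t : G)⁻¹ * ((u : G) * e * (u : G)⁻¹) * (t : G)⁻¹⁻¹ =
          ((t⁻¹ * u : C.T) : G) * e * ((t⁻¹ * u : C.T) : G)⁻¹ by
          rw [Subgroup.coe_mul, Subgroup.coe_inv]; group]
    rw [e1, root_iff, BV_apply, χmul, χinv, C.pr_mul, pr_inv, quad_add, Φ.pol_γ]
    simp only [cA, map_one, mul_one, one_mul, σι, ← ι_add, H, Prod.mk_add_mk]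
    rw [← ι_zero, ι_inj.eq_iff, Prod.mk.injEq]
    constructor
    · rintro ⟨h1, h3⟩
      exact ⟨by linear_combination h3, by linear_combination h1⟩
    · rintro ⟨h1, h3⟩
      exact ⟨by linear_combination h3, by linear_combination h1⟩
  have hPA : ∀ (s : C.S) (q : {q : G // q ∈ cls D x s}) (t : C.T),
      Commute (q : G) ((t : G) * e * (t : G)⁻¹) ↔ BV (cP s q) (cA t) = 0 := fun s q t => by
    rw [BV_apply]
    simp only [cP, cA, mul_one, map_zero, zero_mul, add_zero, frob_frob]
    rw [hHc]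
    have hq : C.pr (C.pt s q.2) ∈ C.frame.P s := C.exists_shiftS s q.2
    have e1 : hc s (C.pr (C.pt s q.2)) + hc s (C.N s (C.pr t)) = 0 ↔
        C.pr (C.pt s q.2) = C.N s (C.pr t) := by
      refine ⟨fun h => hc_inj s _ _ hq ⟨_, rfl⟩ ?_, fun h => by
        rw [h]; linear_combination hc s (C.N s (C.pr t)) * h2F⟩
      linear_combination h - hc s (C.N s (C.pr t)) * h2F
    rw [e1]
    have hb : (t : G) * e * (t : G)⁻¹ ∈ D := hD.conj _ e C.he
    have hxb : ¬ Commute x ((t : G) * e * (t : G)⁻¹) := fun h => C.hxe (by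
      refine (Commute.conj_iff (t : G)).1 ?_
      rwa [show (t : G) * x * (t : G)⁻¹ = x by rw [(trl_commute C.fis C.hx t.2).eq, mul_inv_cancel_right]])
    have hs : Commute ((t : G) * e * (t : G)⁻¹) ((t : G) * s * (t : G)⁻¹) :=
      (Commute.conj_iff (t : G)).2 s.2.2
    constructor
    · intro h
      obtain ⟨r, -, -, hr⟩ := exists_unique_sel C.polar C.hx s.2.1 hb hxb
      exact C.nu_congr q.2 (C.act_cls s t) ((hr _ q.2 h.symm).trans (hr _ (C.act_cls s t) hs).symm)
    · intro h
      have h' : (q : G) = (t : G) * s * (t : G)⁻¹ := C.pr_pt_inj s q.2 (C.act_cls s t) h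
      rw [h']; exact hs.symm
  have hPP : ∀ (s r : C.S) (p : {q : G // q ∈ cls D x s}) (q : {q : G // q ∈ cls D x r}),
      Commute (p : G) q ↔ BV (cP s p) (cP r q) = 0 := fun s r p q => by
    rw [C.cls_comm p.2 q.2, BV_apply]
    simp only [cP, mul_zero, map_zero, zero_mul, zero_add]
    rw [H_zero]
    constructor
    · intro h
      exact ⟨Φ.B_P_zero (Φ.ω_mem (has s)) (C.frame.N_zero (fun h' => h' h) (has r)),
        Φ.B_P_zero (has s) (C.frame.N_zero (fun h' => h' h) (has r))⟩
    · intro h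
      by_contra hn
      obtain ⟨h1, h3⟩ := h
      have hN : C.N s (as r) ≠ 0 := fun h' => has0 r (C.frame.N_inj hn (has r) h')
      rw [Φ.γ_apply, Φ.B_plane (Φ.ω_mem (has s))] at h1
      rw [Φ.B_plane (has s)] at h3
      by_cases hA : C.N s (as r) = as s
      · rw [if_neg (not_or.2 ⟨fun h => has0 s (Φ.ω_zero.1 h), not_or.2 ⟨hN, fun h => Φ.ω_ne (has0 s) (h.symm.trans hA)⟩⟩)] at h1
        exact one_ne_zero h1
      · rw [if_neg (not_or.2 ⟨has0 s, not_or.2 ⟨hN, hA⟩⟩)] at h3
        exact one_ne_zero h3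
  have hcomm : ∀ a b : D, Commute (a : G) b ↔ BV (c a) (c b) = 0 := by
    have sym : ∀ p q, BV p q = 0 ↔ BV q p = 0 := fun p q => ⟨BV_symm.isRefl p q, BV_symm.isRefl q p⟩
    have hxP : ∀ (s : C.S) (q : {q : G // q ∈ cls D x s}), BV (1, 0, 0) (cP s q) = 0 := fun s q => by
      rw [BV_apply]
      show σ4 1 * 0 + σ4 0 * _ + H 0 _ = 0
      rw [(H_zero 0 _).2 ⟨by simp, by simp⟩, map_zero]; ring
    have hxA : ∀ t : C.T, BV (1, 0, 0) (cA t) = 1 := fun t => by
      rw [BV_apply]
      show σ4 1 * 1 + σ4 0 * _ + H 0 _ = 1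
      rw [(H_zero 0 _).2 ⟨by simp, by simp⟩, map_one, map_zero]; ring
    have hnA : ∀ t : C.T, ¬ Commute x ((t : G) * e * (t : G)⁻¹) := fun t h => C.hxe (by
      refine (Commute.conj_iff (t : G)).1 ?_
      rwa [show (t : G) * x * (t : G)⁻¹ = x by rw [(trl_commute C.fis C.hx t.2).eq, mul_inv_cancel_right]])
    intro a b
    rcases kinds a with ha | ⟨s, ha⟩ | ⟨t, ha⟩ <;> rcases kinds b with hb | ⟨r, hb⟩ | ⟨u, hb⟩
    · exact iff_of_true (ha ▸ hb ▸ Commute.refl x) (by rw [c_x b hb, ← c_x a ha, hiso])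
    · refine iff_of_true (ha ▸ (cls_perp C.hx r.2.1 hb).2.2) ?_
      rw [c_x a ha, c_P b r hb]; exact hxP r _
    · refine iff_of_false (by rw [ha, ← hb]; exact hnA u) ?_
      rw [c_x a ha, c_A b u hb, hxA]; exact one_ne_zero
    · refine iff_of_true (hb ▸ (cls_perp C.hx s.2.1 ha).2.2.symm) ?_
      rw [sym, c_x b hb, c_P a s ha]; exact hxP s _
    · rw [c_P a s ha, c_P b r hb]; exact hPP s r ⟨a, ha⟩ ⟨b, hb⟩
    · rw [c_P a s ha, c_A b u hb, ← hb]; exact hPA s ⟨a, ha⟩ u
    · refine iff_of_false (by rw [hb, ← ha]; exact fun h => hnA t h.symm) ?_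
      rw [sym, c_x b hb, c_A a t ha, hxA]; exact one_ne_zero
    · rw [Commute.symm_iff, sym, c_P b r hb, c_A a t ha, ← ha]; exact hPA r ⟨b, hb⟩ t
    · rw [c_A a t ha, c_A b u hb, ← ha, ← hb]; exact hAA t u
  -- every isotropic point is a member
  have hevery : ∀ w, BV w w = 0 → w ≠ 0 → ∃ d, ∃ k : F4, k ≠ 0 ∧ c d = k • w := by
    rintro ⟨a, u, b⟩ hw hw0
    rw [BV_apply] at hw
    simp only [] at hw
    rcases eq_or_ne b 0 with rfl | hb0
    · simp only [mul_zero, map_zero, zero_mul, zero_add] at hw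
      rcases eq_or_ne u 0 with rfl | hu0
      · have ha0 : a ≠ 0 := fun h => hw0 (by rw [h]; rfl)
        refine ⟨⟨x, C.hx⟩, a⁻¹, inv_ne_zero ha0, ?_⟩
        rw [c_x _ rfl]
        simp [Prod.smul_mk, inv_mul_cancel₀ ha0]
      have hγ : Φ.γ u u = 0 := ((H_zero u u).1 hw).1
      obtain ⟨s, hs⟩ := Φ.singular_mem hγ hu0
      obtain ⟨i, j, hij⟩ := Φ.ω_smul_cases hs hu0 (has s)
      have hk : ι (i, j) • u = as s := by rw [hsmul, co_ι]; exact hij.symm
      have hk0 : ι (i, j) ≠ 0 := fun h => has0 s (by rw [← hk, h, zero_smul])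
      -- the point with the prescribed coordinate
      obtain ⟨p, hp, hpc⟩ : ∃ p ∈ C.frame.P s, hc s p = σ4 (ι (i, j) * a) := by
        have hinj : Function.Injective (fun p : C.frame.P s => hc s p) := fun p p' h =>
          Subtype.ext (hc_inj s _ _ p.2 p'.2 h)
        have hcard : Nat.card (C.frame.P s) = Nat.card F4 := by
          have h4 : 4 ≤ Nat.card (C.frame.P s) := by
            obtain ⟨A, B, hA, hB, hAB, hAm, hBm, -⟩ := C.four_range s
            have : Function.Injective (fun p : ZMod 2 × ZMod 2 =>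
                (⟨p.1 • A + p.2 • B, add_mem (Submodule.smul_mem _ _ hAm) (Submodule.smul_mem _ _ hBm)⟩ : C.frame.P s)) := by
              intro p q h
              have h' : (p.1 + q.1) • A + (p.2 + q.2) • B = 0 := by
                have h'' : p.1 • A + p.2 • B = q.1 • A + q.2 • B := congrArg Subtype.val h
                rw [add_smul, add_smul, show p.1 • A + q.1 • A + (p.2 • B + q.2 • B) =
                  (p.1 • A + p.2 • B) + (q.1 • A + q.2 • B) by abel, h'', C.U_double]
              have key : p.1 + q.1 = 0 ∧ p.2 + q.2 = 0 := by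
                rcases z2 (p.1 + q.1) with h1 | h1 <;> rcases z2 (p.2 + q.2) with h3 | h3 <;>
                  rw [h1, h3] at h' <;>
                  simp only [zero_smul, one_smul, zero_add, add_zero] at h'
                · exact ⟨h1, h3⟩
                · exact absurd h' hB
                · exact absurd h' hA
                · rw [← ZModModule.sub_eq_add, sub_eq_zero] at h'
                  exact absurd h' hAB
              exact Prod.ext (by rw [← sub_eq_zero, ZModModule.sub_eq_add]; exact key.1)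
                (by rw [← sub_eq_zero, ZModModule.sub_eq_add]; exact key.2)
            have := Nat.card_le_card_of_injective _ this
            simpa using this
          refine le_antisymm (Nat.card_le_card_of_injective _ hinj) ?_
          rw [Nat.card_eq_fintype_card (α := F4), card_F4]
          exact h4
        obtain ⟨p, hp⟩ := ((Nat.bijective_iff_injective_and_card _).2 ⟨hinj, hcard⟩).2 (σ4 (ι (i, j) * a))
        exact ⟨p, p.2, hp⟩
      obtain ⟨q, hq, rfl⟩ := C.range_cases s hp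
      refine ⟨⟨q, hq.1.1⟩, ι (i, j), hk0, ?_⟩
      rw [c_P _ s hq]
      simp only [cP, Prod.smul_mk, smul_eq_mul, mul_zero, hk]
      rw [hpc, frob_frob]
    · -- normalise the last coordinate
      have hw' : σ4 (b⁻¹ * a) * 1 + σ4 1 * (b⁻¹ * a) + H (b⁻¹ • u) (b⁻¹ • u) = 0 := by
        rw [H_smull, H_smulr, map_one]
        have hb' : σ4 b⁻¹ * σ4 b = 1 := by rw [← map_mul, inv_mul_cancel₀ hb0, map_one]
        rw [map_mul]
        linear_combination (σ4 b⁻¹ * b⁻¹) * hw - σ4 b⁻¹ * σ4 a * inv_mul_cancel₀ hb0 -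
          b⁻¹ * a * hb'
      obtain ⟨⟨i, j⟩, hij⟩ : ∃ p, ι p = b⁻¹ * a := ⟨_, hco _⟩
      rw [map_one, mul_one, one_mul, H_self, ← hij, σι] at hw'
      have hj : j = Φ.γ (b⁻¹ • u) (b⁻¹ • u) := by
        have h' : ι (Φ.γ (b⁻¹ • u) (b⁻¹ • u) + j, 0) = 0 := by
          simp only [ι, map_add, map_zero, zero_mul, add_zero, am] at hw' ⊢
          linear_combination hw' - (algebraMap (ZMod 2) F4 i + algebraMap (ZMod 2) F4 j * o) * h2F
        have h'' := congrArg Prod.fst (ι_inj (h'.trans ι_zero.symm))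
        rw [← ZModModule.sub_eq_add, sub_eq_zero] at h''
        exact h''.symm
      obtain ⟨t, ht⟩ := C.pr_surj (b⁻¹ • u)
      obtain ⟨t', ht', hχ⟩ : ∃ t' : C.T, C.pr t' = b⁻¹ • u ∧ χ t' = i := by
        rcases z2 (χ t + i) with h | h
        · refine ⟨t, ht, ?_⟩
          rwa [← ZModModule.sub_eq_add, sub_eq_zero] at h
        · refine ⟨t * C.xT, by rw [C.pr_mul, C.pr_x, add_zero, ht], ?_⟩
          rw [χmul, χx, C.pr_x, map_zero, add_zero, ← h, ← add_assoc, ZModModule.add_self, zero_add]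
      refine ⟨⟨(t' : G) * e * (t' : G)⁻¹, hD.conj _ e C.he⟩, b⁻¹, inv_ne_zero hb0, ?_⟩
      rw [c_A _ t' rfl]
      simp only [cA, Prod.smul_mk, smul_eq_mul, inv_mul_cancel₀ hb0, ht', hχ, ← hj, hij]
  have hinjc : ∀ a b : D, ∀ k : F4, c b = k • c a → a = b := by
    intro a b k h
    have hk : k ≠ 0 := fun h' => hne b (by rw [h, h', zero_smul])
    rcases kinds a with ha | ⟨s, ha⟩ | ⟨t, ha⟩ <;> rcases kinds b with hb | ⟨r, hb⟩ | ⟨u, hb⟩
    · exact Subtype.ext (ha.trans hb.symm)
    · rw [c_x a ha, c_P b r hb] at h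
      have h' := congrArg (fun p => p.2.1) h
      simp [cP] at h'
      exact absurd h' (has0 r)
    · rw [c_x a ha, c_A b u hb] at h
      have h' := congrArg (fun p => p.2.2) h
      simp [cA] at h'
    · rw [c_P a s ha, c_x b hb] at h
      have h' := congrArg (fun p => p.2.1) h
      simp only [cP, Prod.smul_mk] at h'
      exact absurd ((smul_eq_zero.1 h'.symm).resolve_left hk) (has0 s)
    · rw [c_P a s ha, c_P b r hb] at h
      simp only [cP, Prod.smul_mk, Prod.mk.injEq, smul_eq_mul, mul_zero, and_true] at h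
      obtain ⟨h1, h3⟩ := h
      have hr : as r ∈ C.frame.P s := by
        rw [h3, hsmul]
        exact add_mem (Submodule.smul_mem _ _ (has s)) (Submodule.smul_mem _ _ (Φ.ω_mem (has s)))
      obtain rfl := Φ.P_disjoint hr (has r) (has0 r)
      have hk1 : k = 1 := by
        by_contra hne1
        have h5 : (k - 1) • as s = 0 := by rw [sub_smul, one_smul, ← h3, sub_self]
        exact has0 s ((smul_eq_zero.1 h5).resolve_left (sub_ne_zero.2 hne1))
      rw [hk1, one_mul] at h1
      exact Subtype.ext (C.pr_pt_inj s ha hb (hc_inj s _ _ (C.exists_shiftS s ha) (C.exists_shiftS s hb)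
        (σ4.injective h1).symm))
    · rw [c_P a s ha, c_A b u hb] at h
      have h' := congrArg (fun p => p.2.2) h
      simp [cA, cP] at h'
    · rw [c_A a t ha, c_x b hb] at h
      have h' := congrArg (fun p => p.2.2) h
      simp [cA] at h'
      exact absurd h'.symm hk
    · rw [c_A a t ha, c_P b r hb] at h
      have h' := congrArg (fun p => p.2.2) h
      simp [cA, cP] at h'
      exact absurd h'.symm hk
    · rw [c_A a t ha, c_A b u hb] at h
      simp only [cA, Prod.smul_mk, Prod.mk.injEq, smul_eq_mul, mul_one] at h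
      obtain ⟨h1, h3, h5⟩ := h
      subst h5
      rw [one_mul, ι_inj.eq_iff, Prod.mk.injEq] at h1
      rw [one_smul] at h3
      rcases C.pr_eq h3 with h' | h'
      · exact Subtype.ext (by rw [← ha, ← hb, h'])
      · exfalso
        have h6 := h1.1
        rw [h', χmul, χx, C.pr_x, map_zero, add_zero, add_eq_left] at h6
        exact one_ne_zero h6
  have hthird : ∀ d ∈ D, ∀ a ∈ D, ∀ b ∈ D, ¬ Commute d a →
      (∀ z ∈ D, Commute d z → Commute a z → Commute b z) → b = d ∨ b = a ∨ b = cj d a :=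
    fun d hd a ha b hb hn h => (⟨C.polar, C.four, hd, ha, hn⟩ : Ctx D d a).third_unique hb h
  -- two planes span at least two dimensions
  have hU2 : 2 ≤ finrank F4 C.U := by
    obtain ⟨s⟩ := C.exists_S
    obtain ⟨r, hsr⟩ := C.exists_adj s
    have hli : LinearIndependent F4 ![as s, as r] := by
      rw [linearIndependent_fin2]
      refine ⟨by simpa using has0 r, fun k h => ?_⟩
      simp only [Matrix.cons_val_zero, Matrix.cons_val_one, Matrix.head_cons] at h
      have hsP : as s ∈ C.frame.P r := by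
        rw [← h, hsmul]
        exact add_mem (Submodule.smul_mem _ _ (has r)) (Submodule.smul_mem _ _ (Φ.ω_mem (has r)))
      exact hsr (by rw [Φ.P_disjoint (has s) hsP (has0 s)])
    simpa using hli.fintype_card_le_finrank
  have hdim : finrank F4 (F4 × C.U × F4) = finrank F4 C.U + 2 := by
    rw [Module.finrank_prod, Module.finrank_prod, Module.finrank_self]; omega
  refine ⟨_, ⟨by omega, iso_psu_image card_F4 BV_symm BV_nondeg (by omega) C.fis hthird c hiso hne hcomm hevery hinjc⟩, ?_⟩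
  rcases (show finrank F4 C.U = 2 ∨ finrank F4 C.U = 3 ∨ 4 ≤ finrank F4 C.U by omega) with h | h | h
  · exact Or.inl (by omega)
  · exact Or.inr (Or.inl (by omega))
  refine Or.inr (Or.inr ⟨by omega, ?_⟩)
  let BU : C.U →ₛₗ[σ4] C.U →ₗ[F4] F4 := LinearMap.mk₂'ₛₗ σ4 (RingHom.id F4) H H_addl H_smull H_addr H_smulr
  have BU_symm : BU.IsSymm := ⟨fun u v => H_symm u v⟩
  have BU_nondeg : BU.Nondegenerate := by
    have key : ∀ u, (∀ v, BU u v = 0) → u = 0 := fun u hu => by_contra fun hu0 => by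
      obtain ⟨v, hv⟩ := Φ.nondeg hu0
      rw [Φ.pol_γ, ((H_zero u v).1 (hu v)).2] at hv
      exact zero_ne_one hv
    exact ⟨key, fun v hv => key v fun u => BU_symm.isRefl _ _ (hv u)⟩
  obtain ⟨φ, hφ⟩ := exists_coords card_F4 BU_symm BU_nondeg
  let v1 : Fin (finrank F4 C.U) → F4 := fun i => if (i : ℕ) = 0 ∨ (i : ℕ) = 1 then 1 else 0
  let v2 : Fin (finrank F4 C.U) → F4 := fun i => if (i : ℕ) = 2 ∨ (i : ℕ) = 3 then 1 else 0
  have hsum : ∀ (a b : ℕ), a ≠ b → a < finrank F4 C.U → b < finrank F4 C.U →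
      hB card_F4 _ (fun i : Fin (finrank F4 C.U) => if (i : ℕ) = a ∨ (i : ℕ) = b then (1 : F4) else 0)
        (fun i => if (i : ℕ) = a ∨ (i : ℕ) = b then 1 else 0) = 0 := by
    intro a b hab ha hb
    rw [hB_apply]
    show ∑ i, _ = (0 : F4)
    rw [← Finset.sum_subset (s₁ := {⟨a, ha⟩, ⟨b, hb⟩}) (Finset.subset_univ _)]
    · rw [Finset.sum_pair (by simp [Fin.ext_iff, hab])]
      simp only [true_or, or_true, if_true, one_pow, mul_one]
      linear_combination h2F
    · intro i _ hi
      simp only [Finset.mem_insert, Finset.mem_singleton, Fin.ext_iff] at hi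
      beta_reduce
      rw [if_neg hi, zero_mul]
  have h12 : hB card_F4 _ v1 v2 = 0 := by
    rw [hB_apply]
    show ∑ i, _ = (0 : F4)
    refine Finset.sum_eq_zero fun i _ => ?_
    simp only [v1, v2]
    split_ifs with h1 h3
    · omega
    all_goals simp
  have hv1 : v1 ≠ 0 := fun h' => by
    have := congrFun h' ⟨0, by omega⟩
    simp [v1] at this
  have hv2 : v2 ≠ 0 := fun h' => by
    have := congrFun h' ⟨2, by omega⟩
    simp [v2] at this
  have hsing : ∀ w, hB card_F4 _ w w = 0 → w ≠ 0 → ∃ s : C.S, φ.symm w ∈ C.frame.P s := fun w hw hw0 => by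
    have h' : H (φ.symm w) (φ.symm w) = 0 := by
      show BU _ _ = 0
      rw [← hφ, φ.apply_symm_apply, hw]
    exact Φ.singular_mem ((H_zero _ _).1 h').1 ((map_ne_zero_iff _ φ.symm.injective).2 hw0)
  obtain ⟨s, hs⟩ := hsing v1 (hsum 0 1 (by omega) (by omega) (by omega)) hv1
  obtain ⟨r, hr⟩ := hsing v2 (hsum 2 3 (by omega) (by omega) (by omega)) hv2
  have hu0 : φ.symm v1 ≠ 0 := (map_ne_zero_iff _ φ.symm.injective).2 hv1
  refine ⟨s, r, ?_, ?_⟩
  · rintro rfl
    obtain ⟨i, j, hij⟩ := Φ.ω_smul_cases hs hu0 hr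
    have hk : ι (i, j) • φ.symm v1 = φ.symm v2 := by rw [hsmul, co_ι]; exact hij.symm
    rw [← map_smul, φ.symm.injective.eq_iff] at hk
    have := congrFun hk ⟨2, by omega⟩
    simp [v1, v2] at this
  · by_contra hn
    have h' : H (φ.symm v1) (φ.symm v2) = 0 := by
      show BU _ _ = 0
      rw [← hφ, φ.apply_symm_apply, φ.apply_symm_apply, h12]
    obtain ⟨h1, h3⟩ := (H_zero _ _).1 h'
    have hv20 : φ.symm v2 ≠ 0 := (map_ne_zero_iff _ φ.symm.injective).2 hv2
    have hN : C.N s (φ.symm v2) ≠ 0 := fun h' => hv20 (C.frame.N_inj hn hr h')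
    rw [Φ.γ_apply, Φ.B_plane (Φ.ω_mem hs)] at h1
    rw [Φ.B_plane hs] at h3
    by_cases hA : C.N s (φ.symm v2) = φ.symm v1
    · rw [if_neg (not_or.2 ⟨fun h => hu0 (Φ.ω_zero.1 h), not_or.2 ⟨hN, fun h => Φ.ω_ne hu0 (h.symm.trans hA)⟩⟩)] at h1
      exact one_ne_zero h1
    · rw [if_neg (not_or.2 ⟨hu0, not_or.2 ⟨hN, hA⟩⟩)] at h3
      exact one_ne_zero h3

theorem exists_unitary :
    ∃ n : ℕ, Nonempty (G ≃* Cfsg.PSU n F4 2) ∧
      (n = 4 ∨ n = 5 ∨ (6 ≤ n ∧ ∃ s r : C.S, s ≠ r ∧ Commute (s : G) r)) := by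
  obtain ⟨n, ⟨-, e, -⟩, h⟩ := Φ.exists_unitary_image
  exact ⟨n, ⟨e⟩, h⟩

end Ctx.Forms

end Cfsg.Lib.Fischer.Polar
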