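import Cfsg.Agent.Lib.Fischer.Polar.Main
import Cfsg.Agent.Lib.Fischer.Structure
import Cfsg.Agent.Lib.Fischer.Relations.TwentyNine.Pair

/-!
# Solvable local groups

A solvable local group contains no chain of four members, so no two common neighbours of a non-commuting
pair of a polar group commute.
-/

set_option autoImplicit false
set_option linter.style.haveILetI false

namespace Cfsg.Lib.Fischer.Polar

open Cfsg Cfsg.Lib.Fischer Equiv

variable {G : Type*} [Group G] [Finite G] {D : Set G}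

/-- Two commuting neighbours have a common non-commuting neighbour. -/
theorem exists_between (hF : IsFischer D) {x n r : G} (hx : x ∈ D) (hn : n ∈ perp D x)
    (hr : r ∈ perp D x) (hc : Commute n r) : ∃ m ∈ perp D x, ¬ Commute n m ∧ ¬ Commute m r := by
  have hD := hF.toTrans
  let P : G → Prop := fun z => ¬ Commute n z ∨ ∃ m ∈ perp D x, ¬ Commute n m ∧ ¬ Commute m z
  have hP : P r := by
    refine comp_all hF hx hn hr P ?_ ?_
    · intro u hu v hv huv ihu
      rcases ihu with h1 | ⟨m, hm, h1, h2⟩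
      · exact Or.inr ⟨u, hu, h1, huv⟩
      by_cases h3 : Commute m v
      swap
      · exact Or.inr ⟨m, hm, h1, h3⟩
      by_cases h4 : Commute n u
      swap
      · exact Or.inr ⟨u, hu, h4, huv⟩
      refine Or.inr ⟨cj u m, ⟨cj_mem hD hu.1 hm.1, ?_, ?_⟩, ?_, ?_⟩
      · intro e
        refine hm.2.1 ?_
        rw [← cj_cj hD hu.1 m, e, cj_of_commute hD hu.1 hu.2.2.symm]
      · exact (commute_cj_of hD hu.1 hu.2.2.symm).2 hm.2.2
      · exact fun h => h1 ((commute_cj_of hD hu.1 h4.symm).1 h)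
      · intro h
        have h5 : Commute v (cj m u) := braid hD hu.1 hm.1 (fun h => h2 h.symm) ▸ h.symm
        exact huv ((commute_cj_of hD hm.1 h3).1 h5).symm
    · obtain ⟨m, hm, hnm⟩ := exists_perp_ne hF hx hn
      exact Or.inr ⟨m, hm, hnm, fun h => hnm h.symm⟩
  exact hP.resolve_left fun h => h hc

/-- A solvable group contains no chain of four members. -/
theorem no_chain (hD : Trans D) {K : Subgroup G} (hK : Group.IsSolvable K) {a b c e : G} (ha : a ∈ D)
    (hb : b ∈ D) (hc : c ∈ D) (he : e ∈ D) (haK : a ∈ K) (hbK : b ∈ K) (hcK : c ∈ K) (heK : e ∈ K)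
    (hab : ¬ Commute a b) (hbc : ¬ Commute b c) (hce : ¬ Commute c e) (hac : Commute a c)
    (hae : Commute a e) (hbe : Commute b e) : False := by
  obtain ⟨φ, h1, h2, h3, h4⟩ :=
    Relations.TwentyNine.chain_four hD ha hb hc he hab hbc hce hac hae hbe
  have hle : ∀ g, φ g ∈ K := by
    intro g
    have hgen : Subgroup.closure (Set.range fun i : Fin 4 => swap i.castSucc i.succ) =
        (⊤ : Subgroup (Perm (Fin 5))) := by
      refine eq_top_iff.2 fun g _ => ?_
      have h := Perm.mclosure_swap_castSucc_succ 4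
      have hle : Submonoid.closure (Set.range fun i : Fin 4 => swap i.castSucc i.succ) ≤
          (Subgroup.closure (Set.range fun i : Fin 4 => swap i.castSucc i.succ)).toSubmonoid :=
        Submonoid.closure_le.2 Subgroup.subset_closure
      exact hle (h ▸ Submonoid.mem_top g)
    have : Subgroup.closure (Set.range fun i : Fin 4 => swap i.castSucc i.succ) ≤ K.comap φ := by
      rw [Subgroup.closure_le]
      rintro _ ⟨i, rfl⟩
      rw [SetLike.mem_coe, Subgroup.mem_comap]
      fin_cases i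
      · exact h1.symm ▸ haK
      · exact h2.symm ▸ hbK
      · exact h3.symm ▸ hcK
      · exact h4.symm ▸ heK
    exact this (hgen ▸ Subgroup.mem_top g)
  let ψ : Perm (Fin 5) →* K := φ.codRestrict K hle
  let z : Perm (Fin 5) := swap 0 1 * swap 1 2
  have hz : ∀ n, z ∈ derivedSeries (Perm (Fin 5)) n := by
    intro n
    induction n with
    | zero => exact Subgroup.mem_top _
    | succ n ih =>
      have hN : (derivedSeries (Perm (Fin 5)) n).Normal := derivedSeries_normal _ n
      obtain ⟨g, h, k, hk⟩ : ∃ g h k : Perm (Fin 5), g = 1 ∧ h = swap 1 3 * swap 2 4 ∧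
          k * ((g * z * g⁻¹) * (h * z * h⁻¹) * (g * z * g⁻¹)⁻¹ * (h * z * h⁻¹)⁻¹) * k⁻¹ = z := by
        refine ⟨1, swap 1 3 * swap 2 4, ?_⟩
        decide +kernel
      rw [← hk.2.2]
      refine (derivedSeries_normal _ (n + 1)).conj_mem _ ?_ k
      exact Subgroup.commutator_mem_commutator (hN.conj_mem z ih g) (hN.conj_mem z ih h)
  obtain ⟨n, hn⟩ := hK
  have h0 : ψ z ∈ derivedSeries K n := map_derivedSeries_le_derivedSeries ψ n ⟨z, hz n, rfl⟩
  rw [hn, Subgroup.mem_bot] at h0
  have hab1 : a * b = 1 := by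
    rw [← h1, ← h2, ← map_mul]
    exact congrArg Subtype.val h0
  exact hab (by rw [eq_inv_of_mul_eq_one_right hab1, inv_eq hD ha])

/-- Two commuting members of `common D x e` start a chain of four neighbours of `x`. -/
theorem not_solvable_loc (hP : IsPolar D) {x e s r : G} (hx : x ∈ D) (he : e ∈ D) (hxe : ¬ Commute x e)
    (hs : s ∈ common D x e) (hr : r ∈ common D x e) (hne : s ≠ r) (hc : Commute s r) :
    ¬ Group.IsSolvable (loc D x) := by
  intro hsol
  have hF := hP.toIsFischer
  have hD := hF.toTrans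
  have hsD : s ∈ D := hs.1.1
  have hrs : r ∈ perp D s := mem_perp' hr.1.1 hne hc
  obtain ⟨m, hm, hsm, hmr⟩ := exists_between hF hx hs.1 hr.1 hc
  obtain ⟨p, hp, hmp, -⟩ := exists_unique_sel hP hsD hrs hm.1 hsm
  have hpp := cls_perp hsD hrs hp
  have hxs : x ∈ perp D s := mem_perp' hx hs.1.2.1 hs.1.2.2.symm
  have hxl : x ∉ ln D s r := fun h => hxe
    (h.2 e ⟨he, hs.2.symm, hr.2.symm⟩)
  have hxp : x ≠ p := fun h => hxl (h ▸ hp.1)
  have hcpx : Commute p x := hp.1.2 x ⟨hx, hs.1.2.2.symm, hr.1.2.2.symm⟩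
  -- a member of the neighbourhood of `s` and `m` commuting with `x` but not with `p`
  obtain ⟨d, hd, hdx, hdp⟩ : ∃ d ∈ common D s m, Commute d x ∧ ¬ Commute d p := by
    by_contra hcon
    push Not at hcon
    obtain ⟨u, hu, hpu⟩ := exists_separated hP hsD hm.1 hsm hpp
    have hux : ¬ Commute u x := fun h => hpu (hcon u hu h).symm
    set L := common D s m with hL
    have hconj : ∀ a b : G, a ∈ L → b ∈ L → ¬ Commute a b →
        ∀ z ∈ L, (cj a b) * z * (cj a b)⁻¹ ∈ L := by
      intro a b ha hb _ z hz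
      have hab := cj_mem hD ha.1.1 hb.1.1
      have h1 : Commute s (cj a b) := (commute_cj_of hD ha.1.1 ha.1.2.2.symm).2 hb.1.2.2
      have h2 : Commute m (cj a b) := (commute_cj_of hD ha.1.1 ha.2.symm).2 hb.2
      rw [← cj_conj hD hab]
      refine ⟨⟨cj_mem hD hab hz.1.1, fun e' => hz.1.2.1 ?_, (commute_cj_of hD hab h1.symm).2 hz.1.2.2⟩,
        (commute_cj_of hD hab h2.symm).2 hz.2⟩
      rw [← cj_cj hD hab z, e', cj_of_commute hD hab h1.symm]
    have hxL : x ∈ L := ⟨hxs, hm.2.2.symm⟩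
    have hpL : p ∈ L := ⟨hpp, hmp⟩
    let g := cj u p * cj x u
    have hgx : g * x * g⁻¹ = p := by
      have h1 : cj x u * x * (cj x u)⁻¹ = u := by
        rw [← cj_conj hD (cj_mem hD hx hu.1.1)]
        exact cj_third hD hx hu.1.1 fun h => hux h.symm
      have h2 : cj u p * u * (cj u p)⁻¹ = p := by
        rw [← cj_conj hD (cj_mem hD hu.1.1 hpp.1)]
        exact cj_third hD hu.1.1 hpp.1 fun h => hpu h.symm
      calc g * x * g⁻¹ = cj u p * (cj x u * x * (cj x u)⁻¹) * (cj u p)⁻¹ := by
            simp only [g, _root_.mul_inv_rev, mul_assoc]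
        _ = p := by rw [h1, h2]
    have hgL : ∀ z ∈ L, g * z * g⁻¹ ∈ L := by
      intro z hz
      have h1 := hconj u p hu hpL (fun h => hpu h.symm) _ (hconj x u hxL hu (fun h => hux h.symm) z hz)
      rwa [show g * z * g⁻¹ = cj u p * (cj x u * z * (cj x u)⁻¹) * (cj u p)⁻¹ by
        simp only [g, _root_.mul_inv_rev, mul_assoc]]
    set A := {z | z ∈ L ∧ Commute z x}
    set B := {z | z ∈ L ∧ Commute z p}
    have hAB : A = B := by
      refine Set.eq_of_subset_of_ncard_le (fun z hz => ⟨hz.1, hcon z hz.1 hz.2⟩) ?_ (Set.toFinite _)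
      have himg : (fun z => g * z * g⁻¹) '' L = L :=
        Set.eq_of_subset_of_ncard_le (Set.image_subset_iff.2 hgL)
          (by rw [Set.ncard_image_of_injective _ fun a b h => by simpa using h]) (Set.toFinite _)
      have hsub : B ⊆ (fun z => g * z * g⁻¹) '' A := by
        rintro z ⟨hz, hzp⟩
        obtain ⟨w, hw, rfl⟩ := himg.symm ▸ hz
        rw [← hgx] at hzp
        exact ⟨w, ⟨hw, (Commute.conj_iff g).1 hzp⟩, rfl⟩
      exact (Set.ncard_le_ncard hsub (Set.toFinite _)).trans
        (Set.ncard_image_le (Set.toFinite _))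
    have hpx : p ∈ ln D s x := by
      refine ⟨hpp.1, fun q hq => ?_⟩
      rcases eq_or_ne q s with rfl | hqs
      · exact hpp.2.2.symm
      have hq' : q ∈ perp D s := mem_perp' hq.1 hqs.symm hq.2.1
      by_cases hmq : Commute m q
      · exact ((hAB ▸ (⟨⟨hq', hmq⟩, hq.2.2.symm⟩ : q ∈ A) : q ∈ B).2).symm
      obtain ⟨t, ht, hmt, -⟩ := exists_unique_sel hP hsD hq' hm.1 hsm
      have htx : Commute x t :=
        (cls_commute_iff hF hsD hq' (self_mem_cls hq') ht hx hs.1.2.2).1 hq.2.2
      have htp : Commute t p :=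
        (hAB ▸ (⟨⟨cls_perp hsD hq' ht, hmt⟩, htx.symm⟩ : t ∈ A) : t ∈ B).2
      exact (cls_commute_iff hF hsD hq' (self_mem_cls hq') ht hpp.1 hpp.2.2.symm).2 htp.symm
    refine hxl ?_
    rw [← ln_eq_left hF hsD hr.1.1 hne hc hp.1 hp.2, ln_eq_left hF hsD hx hxs.2.1.symm hxs.2.2 hpx hp.2]
    exact right_mem hx
  have hdr : ¬ Commute r d := fun h => hdp
    (commute_all hF hsD hr.1.1 hne hc (left_mem hsD) (right_mem hr.1.1) hne hd.1.1 hd.1.2.2.symm h.symm hp.1)
  have hdx' : d ≠ x := fun h => hdp (h ▸ hcpx.symm)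
  have hdP : d ∈ perp D x := mem_perp' hd.1.1 hdx'.symm hdx.symm
  exact no_chain hD hsol hsD hm.1 hr.1.1 hd.1.1 (Subgroup.subset_closure hs.1) (Subgroup.subset_closure hm)
    (Subgroup.subset_closure hr.1) (Subgroup.subset_closure hdP) hsm hmr hdr hc hd.1.2.2 hd.2

omit [Finite G] in
/-- Solvability of one local group passes to all of them. -/
theorem solvable_loc (hF : IsFischer D) {x a : G} (hx : x ∈ D) (ha : a ∈ D)
    (hs : Group.IsSolvable (loc D x)) : Group.IsSolvable (loc D a) := by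
  obtain ⟨g, rfl⟩ := hF.trans x hx a ha
  have e : loc D (g * x * g⁻¹) = (loc D x).map (MulAut.conj g).toMonoidHom := by
    rw [loc, MonoidHom.map_closure]
    congr 1
    ext z
    rw [mem_perp_conj hF.toTrans]
    refine ⟨fun h => ⟨_, h, by simp [mul_assoc]⟩, ?_⟩
    rintro ⟨w, hw, rfl⟩
    simpa [mul_assoc] using hw
  haveI := hs
  rw [e]
  exact Group.isSolvable_of_surjective
    (f := (MulAut.conj g).toMonoidHom.subgroupMap (loc D x)) (MonoidHom.subgroupMap_surjective _ _)

/-- A solvable local group has a non-central core. -/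
theorem core_not_central (hF : IsFischer D) {x : G} (hx : x ∈ D) (hs : Group.IsSolvable (loc D x))
    (h2 : pCore 2 (loc D x) ≤ Subgroup.center (loc D x)) :
    ¬ oddCore (loc D x) ≤ Subgroup.center (loc D x) := by
  intro hodd
  haveI := hs
  haveI : Fact (Nat.Prime 3) := ⟨Nat.prime_three⟩
  have hT := trans_loc hF hx
  have h3 : pCore 3 (loc D x) ≤ Subgroup.center (loc D x) := by
    refine le_trans (Lib.Core.le_pPrimeCore' inferInstance ?_) hodd
    obtain ⟨k, hk⟩ := IsPGroup.iff_card.1 (Lib.Core.pCore_isPGroup 3 (loc D x))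
    rw [hk]
    exact Nat.Coprime.pow_left k (by norm_num)
  have hf := fitting_le_center hT h2 h3
  have htop : fittingSubgroup (loc D x) = ⊤ := by
    refine top_le_iff.1 (le_trans (fun g _ => ?_) Lib.Core.centralizer_fitting_le_of_isSolvable)
    exact Subgroup.mem_centralizer_iff.2 fun y hy => (Subgroup.mem_center_iff.1 (hf hy) g).symm
  obtain ⟨y, hy, hyx, hxy⟩ := exists_perp hF hx
  obtain ⟨q, hq, hyq⟩ := exists_perp_ne hF hx (y := y) ⟨hy, hyx, hxy⟩
  refine hyq ?_
  have h := Subgroup.mem_center_iff.1 (hf (htop ▸ Subgroup.mem_top (⟨q, Subgroup.subset_closure hq⟩ : loc D x)))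
    ⟨y, Subgroup.subset_closure ⟨hy, hyx, hxy⟩⟩
  exact congrArg Subtype.val h

end Cfsg.Lib.Fischer.Polar
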