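import Cfsg.Agent.Lib.Fischer.Polar.Kernel

/-!
# The translations of the members not commuting with `x`

The products of two points of one class, together with `x`, act regularly on the members not commuting
with `x`. Modulo `x` they form an elementary abelian group whose involutions are products of two points.
-/

set_option autoImplicit false
set_option linter.style.haveILetI false

namespace Cfsg.Lib.Fischer.Polar

open Cfsg Cfsg.Lib.Fischer

variable {G : Type*} [Group G] {D : Set G} {x e : G}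

/-- The generators of the translations. -/
def trGen (D : Set G) (x : G) : Set G := {g | g = x ∨ ∃ y ∈ perp D x, ∃ w ∈ cls D x y, g = y * w}

/-- The translation group. -/
def trl (D : Set G) (x : G) : Subgroup G := Subgroup.closure (trGen D x)

theorem self_mem_trl : x ∈ trl D x := Subgroup.subset_closure (Or.inl rfl)

theorem pair_mem_trl {y w : G} (hy : y ∈ perp D x) (hw : w ∈ cls D x y) : y * w ∈ trl D x :=
  Subgroup.subset_closure (Or.inr ⟨y, hy, w, hw, rfl⟩)

theorem gen_le (hx : x ∈ D) : trGen D x ⊆ Subgroup.closure (insert x (perp D x)) := by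
  rintro g (rfl | ⟨y, hy, w, hw, rfl⟩)
  · exact Subgroup.subset_closure (Set.mem_insert _ _)
  · exact mul_mem (Subgroup.subset_closure (Set.mem_insert_of_mem _ hy))
      (Subgroup.subset_closure (Set.mem_insert_of_mem _ (cls_perp hx hy hw)))

variable [Finite G]

theorem trl_commute (hF : IsFischer D) (hx : x ∈ D) {t : G} (ht : t ∈ trl D x) : Commute t x :=
  commute_of_mem_closure hF hx ((Subgroup.closure_le _).2 (gen_le hx) ht)

omit [Finite G] in
theorem trl_perp (hD : Trans D) (hx : x ∈ D) {t q : G} (ht : t ∈ trl D x) (hq : q ∈ perp D x) :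
    t * q * t⁻¹ ∈ perp D x :=
  ((conj_mem_perp hD hx ((Subgroup.closure_le _).2 (gen_le hx) ht)).2 q hq).1

theorem trl_cls (hF : IsFischer D) (hx : x ∈ D) {t : G} (ht : t ∈ trl D x) :
    ∀ q ∈ perp D x, t * q * t⁻¹ ∈ cls D x q := by
  have hD := hF.toTrans
  induction ht using Subgroup.closure_induction with
  | mem g hg =>
    intro q hq
    rcases hg with rfl | ⟨y, hy, w, hw, rfl⟩
    · rw [hq.2.2.eq, mul_inv_cancel_right]; exact self_mem_cls hq
    · exact two_conj hF hx hq (two_of_twin hF hx hy hw)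
  | one => intro q hq; simpa using self_mem_cls hq
  | mul a b ha hb iha ihb =>
    intro q hq
    have h1 := ihb q hq
    have h2 := iha _ (trl_perp hD hx hb hq)
    rw [cls_eq hF hx hq h1] at h2
    simpa [mul_assoc] using h2
  | inv a ha iha =>
    intro q hq
    have hq' : a⁻¹ * q * (a⁻¹)⁻¹ ∈ perp D x := trl_perp hD hx (inv_mem ha) hq
    have h1 := iha _ hq'
    have h2 := cls_eq hF hx hq' h1
    simp only [inv_inv, ← mul_assoc, mul_inv_cancel, one_mul, mul_inv_cancel_right] at h2 ⊢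
    rw [h2]
    exact self_mem_cls (by simpa using hq')

omit [Finite G] in
/-- Translations are normalized by the neighbours. -/
theorem trl_conj (hF : IsFischer D) (hx : x ∈ D) {u t : G}
    (hu : u ∈ Subgroup.closure (insert x (perp D x))) (ht : t ∈ trl D x) : u * t * u⁻¹ ∈ trl D x := by
  have hD := hF.toTrans
  have hux : u * x * u⁻¹ = x := (conj_mem_perp hD hx hu).1
  induction ht using Subgroup.closure_induction with
  | mem g hg =>
    rcases hg with rfl | ⟨y, hy, w, hw, rfl⟩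
    · rw [hux]; exact self_mem_trl
    · have hy' := ((conj_mem_perp hD hx hu).2 y hy).1
      have hw' : u * w * u⁻¹ ∈ cls D x (u * y * u⁻¹) :=
        ⟨hux ▸ conj_mem_ln hD u hw.1, fun h => hw.2 (by rw [← hux] at h; simpa using h)⟩
      rw [show u * (y * w) * u⁻¹ = (u * y * u⁻¹) * (u * w * u⁻¹) by group]
      exact pair_mem_trl hy' hw'
  | one => simp
  | mul a b _ _ iha ihb =>
    rw [show u * (a * b) * u⁻¹ = (u * a * u⁻¹) * (u * b * u⁻¹) by group]; exact mul_mem iha ihb
  | inv a _ iha => rw [show u * a⁻¹ * u⁻¹ = (u * a * u⁻¹)⁻¹ by group]; exact inv_mem iha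

theorem exists_sel (hP : IsPolar D) (hx : x ∈ D) (he : e ∈ D) (hxe : ¬ Commute x e) {y : G}
    (hy : y ∈ perp D x) : ∃ s ∈ common D x e, y ∈ cls D x s ∧ s ∈ cls D x y := by
  obtain ⟨s, hs, hes, -⟩ := exists_unique_sel hP hx hy he hxe
  exact ⟨s, ⟨cls_perp hx hy hs, hes⟩,
    by rw [cls_eq hP.toIsFischer hx hy hs]; exact self_mem_cls hy, hs⟩

theorem sel_unique (hP : IsPolar D) (hx : x ∈ D) (he : e ∈ D) (hxe : ¬ Commute x e) {s q : G}
    (hs : s ∈ common D x e) (hq : q ∈ cls D x s) (h : Commute e q) : q = s := by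
  obtain ⟨r, -, -, hr⟩ := exists_unique_sel hP hx hs.1 he hxe
  exact (hr q hq h).trans (hr s (self_mem_cls hs.1) hs.2).symm

/-- The translations are transitive on the members not commuting with `x`. -/
theorem trl_trans (hP : IsPolar D) (hx : x ∈ D) (he : e ∈ D) (hxe : ¬ Commute x e) {c : G} (hc : c ∈ D)
    (hxc : ¬ Commute x c) : ∃ t ∈ trl D x, t * e * t⁻¹ = c := by
  have hF := hP.toIsFischer
  have hD := hF.toTrans
  let P : G → Prop := fun c => ∃ t ∈ trl D x, t * e * t⁻¹ = c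
  have hnc : ∀ {t : G}, t ∈ trl D x → t * e * t⁻¹ ∈ D ∧ ¬ Commute x (t * e * t⁻¹) := fun {t} ht =>
    ⟨hD.conj t e he, fun h => hxe (by
      rw [← show t * x * t⁻¹ = x by rw [(trl_commute hF hx ht).eq, mul_inv_cancel_right]] at h
      exact (Commute.conj_iff t).1 h)⟩
  have hgen : ∀ d ∈ insert x (perp D x), ∀ c, P c → P (d * c * d⁻¹) := by
    rintro d (rfl | hd) c ⟨t, ht, rfl⟩
    · exact ⟨_ * t, mul_mem self_mem_trl ht, by group⟩
    obtain ⟨s, hs, hds, -⟩ := exists_sel hP hx (hnc ht).1 (hnc ht).2 hd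
    refine ⟨d * s * t, mul_mem (pair_mem_trl hd ?_) ht, ?_⟩
    · rw [cls_eq hF hx hs.1 hds]; exact self_mem_cls hs.1
    · calc d * s * t * e * (d * s * t)⁻¹ = d * (s * (t * e * t⁻¹) * s⁻¹) * d⁻¹ := by group
        _ = d * (t * e * t⁻¹) * d⁻¹ := by rw [hs.2.symm.eq, mul_inv_cancel_right]
  have hinv : ∀ g ∈ Subgroup.closure (insert x (perp D x)), ∀ c, P c ↔ P (g * c * g⁻¹) := by
    intro g hg
    induction hg using Subgroup.closure_induction with
    | mem d hd =>
      intro c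
      refine ⟨hgen d hd c, fun h => ?_⟩
      have hdD : d ∈ D := hd.elim (fun h => h ▸ hx) (fun h => h.1)
      have := hgen d hd _ h
      rwa [show d * (d * c * d⁻¹) * d⁻¹ = c by
        rw [inv_eq hD hdD, ← mul_assoc, ← mul_assoc, mul_self hD hdD, one_mul, mul_assoc,
          mul_self hD hdD, mul_one]] at this
    | one => intro c; simp
    | mul a b _ _ iha ihb =>
      intro c
      rw [ihb c, iha (b * c * b⁻¹), show a * (b * c * b⁻¹) * a⁻¹ = a * b * c * (a * b)⁻¹ by group]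
    | inv a _ iha =>
      intro c
      rw [iha (a⁻¹ * c * a⁻¹⁻¹), show a * (a⁻¹ * c * a⁻¹⁻¹) * a⁻¹ = c by group]
  obtain ⟨g, hg, rfl⟩ := orb_all hF hx he hc hxe hxc
  exact (hinv g hg e).1 ⟨1, one_mem _, by simp⟩

/-- A generator fixing one point of a class fixes the class. -/
theorem gen_fix (hF : IsFischer D) (hx : x ∈ D) {g q z : G} (hg : g ∈ trGen D x) (hq : q ∈ perp D x)
    (hz : z ∈ cls D x q) (hfix : g * q * g⁻¹ = q) : g * z * g⁻¹ = z := by
  have hD := hF.toTrans
  have hz' := cls_perp hx hq hz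
  rcases hg with rfl | ⟨y, hy, w, hw, rfl⟩
  · rw [hz'.2.2.eq, mul_inv_cancel_right]
  have hyw := cls_commute hF hx hy (self_mem_cls hy) hw
  rcases eq_or_ne y w with rfl | hne
  · rw [mul_self hD hy.1, one_mul, inv_one, mul_one]
  by_cases hc : Commute y q
  · have h1 : Commute y z :=
      (cls_commute_iff hF hx hq (self_mem_cls hq) hz hy.1 hy.2.2.symm).1 hc
    have h2 : Commute z w :=
      (cls_commute_iff hF hx hy (self_mem_cls hy) hw hz'.1 hz'.2.2.symm).1 h1.symm
    rw [(h1.mul_left h2.symm).eq, mul_inv_cancel_right]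
  exfalso
  have hcw : ¬ Commute q w := fun h =>
    hc ((cls_commute_iff hF hx hy (self_mem_cls hy) hw hq.1 hq.2.2.symm).2 h).symm
  have h1 : cj w q = cj y q := by
    calc cj w q = cj y (cj y (cj w q)) := (cj_cj hD hy.1 _).symm
      _ = cj y ((y * w) * q * (y * w)⁻¹) := by
          rw [_root_.mul_inv_rev, inv_eq hD hy.1, inv_eq hD hw.1.1]; simp only [cj_def, mul_assoc]
      _ = cj y q := by rw [hfix]
  rw [braid hD hw.1.1 hq.1 (fun h => hcw h.symm), braid hD hy.1 hq.1 hc, cj_inj hD hq.1] at h1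
  exact hne h1.symm

/-- Two generators act in the same way in either order on each class. -/
theorem gen_gen (hP : IsPolar D) (hx : x ∈ D) {g k : G} (hg : g ∈ trGen D x) (hk : k ∈ trGen D x)
    {q : G} (hq : q ∈ perp D x) : g * (k * q * k⁻¹) * g⁻¹ = k * (g * q * g⁻¹) * k⁻¹ := by
  classical
  have hF := hP.toIsFischer
  have hD := hF.toTrans
  have hgg : ∀ {u : G}, u ∈ trGen D x → u * u = 1 := by
    rintro u (rfl | ⟨y, hy, w, hw, rfl⟩)
    · exact mul_self hD hx
    · rw [mul_assoc, ← mul_assoc w, (cls_commute hF hx hy hw (self_mem_cls hy)).eq, mul_assoc y,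
        mul_self hD hw.1.1, mul_one, mul_self hD hy.1]
  have hsq : ∀ {u : G}, u ∈ trGen D x → ∀ z, u * (u * z * u⁻¹) * u⁻¹ = z := fun {u} hu z => by
    rw [show u * (u * z * u⁻¹) * u⁻¹ = (u * u) * z * (u * u)⁻¹ by group, hgg hu, one_mul, inv_one,
      mul_one]
  have hgc := trl_cls hF hx (Subgroup.subset_closure hg)
  have hkc := trl_cls hF hx (Subgroup.subset_closure hk)
  have hg1 := hgc q hq
  have hk1 := hkc q hq
  by_cases h1 : g * q * g⁻¹ = q
  · rw [h1, gen_fix hF hx hg hq hk1 h1]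
  by_cases h2 : k * q * k⁻¹ = q
  · rw [h2, gen_fix hF hx hk hq hg1 h2]
  by_cases h3 : g * q * g⁻¹ = k * q * k⁻¹
  · calc g * (k * q * k⁻¹) * g⁻¹ = q := by rw [← h3, hsq hg]
      _ = k * (g * q * g⁻¹) * k⁻¹ := by rw [h3, hsq hk]
  have hin : ∀ {u v : G}, u ∈ trGen D x → v ∈ cls D x q → u * v * u⁻¹ ∈ cls D x q := fun {u v} hu hv => by
    rw [← cls_eq hF hx hq hv]
    exact trl_cls hF hx (Subgroup.subset_closure hu) v (cls_perp hx hq hv)
  have key : ∀ {u v : G}, u ∈ trGen D x → v ∈ trGen D x → u * q * u⁻¹ ≠ q → v * q * v⁻¹ ≠ q →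
      u * q * u⁻¹ ≠ v * q * v⁻¹ →
      u * (v * q * v⁻¹) * u⁻¹ ≠ q ∧ u * (v * q * v⁻¹) * u⁻¹ ≠ u * q * u⁻¹ ∧
        u * (v * q * v⁻¹) * u⁻¹ ≠ v * q * v⁻¹ := by
    intro u v hu hv a b c
    refine ⟨fun h => c ?_, fun h => b (by simpa using h), fun h => a ?_⟩
    · conv_lhs => rw [← h, hsq hu]
    · refine gen_fix hF hx hu (cls_perp hx hq (hin hv (self_mem_cls hq))) ?_ h
      rw [cls_eq hF hx hq (hin hv (self_mem_cls hq))]
      exact self_mem_cls hq
  obtain ⟨a1, a2, a3⟩ := key hg hk h1 h2 h3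
  obtain ⟨b1, b2, b3⟩ := key hk hg h2 h1 (Ne.symm h3)
  by_contra hne
  have hsub : ({q, g * q * g⁻¹, k * q * k⁻¹, g * (k * q * k⁻¹) * g⁻¹, k * (g * q * g⁻¹) * k⁻¹} : Finset G) ⊆
      (Set.toFinite (cls D x q)).toFinset := by
    intro z hz
    rw [Set.Finite.mem_toFinset]
    simp only [Finset.mem_insert, Finset.mem_singleton] at hz
    rcases hz with rfl | rfl | rfl | rfl | rfl
    exacts [self_mem_cls hq, hg1, hk1, hin hg hk1, hin hk hg1]
  have h5 := Finset.card_le_card hsub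
  rw [← Set.ncard_eq_toFinset_card (cls D x q), Finset.card_insert_of_notMem (by
      simp [Ne.symm h1, Ne.symm h2, Ne.symm a1, Ne.symm b1]),
    Finset.card_insert_of_notMem (by simp [h3, Ne.symm a2, Ne.symm b3]),
    Finset.card_insert_of_notMem (by simp [Ne.symm a3, Ne.symm b2]),
    Finset.card_insert_of_notMem (by simpa using hne), Finset.card_singleton] at h5
  rcases cls_two_or_four hP hx hq with h | h <;> omega

/-- The action of the translations on every class is abelian. -/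
theorem act_comm (hP : IsPolar D) (hx : x ∈ D) {t u : G} (ht : t ∈ trl D x) (hu : u ∈ trl D x) :
    ∀ q ∈ perp D x, t * (u * q * u⁻¹) * t⁻¹ = u * (t * q * t⁻¹) * u⁻¹ := by
  have hD := hP.toTrans
  have ext : ∀ (P : G → G → Prop), (P = fun a b => ∀ q ∈ perp D x,
      a * (b * q * b⁻¹) * a⁻¹ = b * (a * q * a⁻¹) * b⁻¹) →
      ∀ a, (∀ g ∈ trGen D x, P a g) → ∀ b ∈ trl D x, P a b := by
    rintro P rfl a hgen b hb
    induction hb using Subgroup.closure_induction with
    | mem g hg => exact hgen g hg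
    | one => intro q _; simp
    | mul b c _ hc ihb ihc =>
      intro q hq
      have h1 := ihb _ (trl_perp hD hx hc hq)
      have h2 := ihc q hq
      calc a * (b * c * q * (b * c)⁻¹) * a⁻¹ = a * (b * (c * q * c⁻¹) * b⁻¹) * a⁻¹ := by group
        _ = b * (a * (c * q * c⁻¹) * a⁻¹) * b⁻¹ := h1
        _ = b * (c * (a * q * a⁻¹) * c⁻¹) * b⁻¹ := by rw [h2]
        _ = b * c * (a * q * a⁻¹) * (b * c)⁻¹ := by group
    | inv b hb ihb =>
      intro q hq
      have h := ihb (b⁻¹ * q * b⁻¹⁻¹) (trl_perp hD hx (inv_mem hb) hq)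
      rw [show b * (b⁻¹ * q * b⁻¹⁻¹) * b⁻¹ = q by group] at h
      calc a * (b⁻¹ * q * b⁻¹⁻¹) * a⁻¹ = b⁻¹ * (b * (a * (b⁻¹ * q * b⁻¹⁻¹) * a⁻¹) * b⁻¹) * b⁻¹⁻¹ := by
            group
        _ = b⁻¹ * (a * q * a⁻¹) * b⁻¹⁻¹ := by rw [← h]
  refine ext _ rfl t (fun g hg q hq => ?_) u hu
  exact (ext _ rfl g (fun k hk q hq => gen_gen hP hx hg hk hq) t ht q hq).symm

theorem cls_shift (hF : IsFischer D) (hx : x ∈ D) {q z : G} (hq : q ∈ perp D x) (hz : z ∈ cls D x q) :
    ∃ t ∈ trl D x, t * q * t⁻¹ = z := by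
  obtain ⟨d, hd, hqd⟩ := exists_perp_ne hF hx hq
  obtain ⟨d', hd', e'⟩ := exists_shift hF hx hq hd (self_mem_cls hq) hz (fun h => hqd h.symm)
  refine ⟨d' * d, pair_mem_trl (cls_perp hx hd hd') ?_, e'⟩
  rw [cls_eq hF hx hd hd']
  exact self_mem_cls hd

/-- A translation fixing a point of a class fixes all of it. -/
theorem trl_fix (hP : IsPolar D) (hx : x ∈ D) {t q z : G} (ht : t ∈ trl D x) (hq : q ∈ perp D x)
    (hz : z ∈ cls D x q) (hfix : t * q * t⁻¹ = q) : t * z * t⁻¹ = z := by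
  obtain ⟨u, hu, rfl⟩ := cls_shift hP.toIsFischer hx hq hz
  rw [act_comm hP hx ht hu q hq, hfix]

/-- The translations act freely on the members not commuting with `x`. -/
theorem trl_free (hP : IsPolar D) (hx : x ∈ D) {t a : G} (ht : t ∈ trl D x) (ha : a ∈ D)
    (hxa : ¬ Commute x a) (h : t * a * t⁻¹ = a) : t = 1 := by
  have hF := hP.toIsFischer
  refine eq_one_of_fix hF hx (trl_commute hF hx ht) (fun d hd => ?_) ha hxa (mul_inv_eq_iff_eq_mul.1 h)
  obtain ⟨s, hs, hds, -⟩ := exists_sel hP hx ha hxa hd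
  have h1 : t * s * t⁻¹ = s := sel_unique hP hx ha hxa hs (trl_cls hF hx ht s hs.1) (by
    rw [← h]; exact (Commute.conj_iff t).2 hs.2)
  exact mul_inv_eq_iff_eq_mul.1 (trl_fix hP hx ht hs.1 hds h1)

theorem trl_eq_of (hP : IsPolar D) (hx : x ∈ D) {t u a : G} (ht : t ∈ trl D x) (hu : u ∈ trl D x)
    (ha : a ∈ D) (hxa : ¬ Commute x a) (h : t * a * t⁻¹ = u * a * u⁻¹) : t = u := by
  have h1 := trl_free hP hx (mul_mem (inv_mem hu) ht) ha hxa (by
    calc u⁻¹ * t * a * (u⁻¹ * t)⁻¹ = u⁻¹ * (t * a * t⁻¹) * u := by group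
      _ = a := by rw [h]; group)
  exact (inv_mul_eq_one.1 h1).symm

/-- The singular translations joining `e` to members commuting with it. -/
theorem root_commute (hP : IsPolar D) (hx : x ∈ D) (he : e ∈ D) (hxe : ¬ Commute x e) {s q : G}
    (hs : s ∈ common D x e) (hq : q ∈ cls D x s) (hne : q ≠ s) :
    (s * q * x) * e * (s * q * x)⁻¹ = cj q (cj x e) ∧ Commute e (cj q (cj x e)) ∧
      cj q (cj x e) ∈ ln D s e ∧ cj q (cj x e) ≠ e ∧ ¬ Commute e ((s * q) * e * (s * q)⁻¹) := by
  have hF := hP.toIsFischer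
  have hD := hF.toTrans
  have hq' := cls_perp hx hs.1 hq
  have heq : ¬ Commute e q := fun h => hne (sel_unique hP hx he hxe hs hq h)
  have hsq : Commute s q := cls_commute hF hx hs.1 (self_mem_cls hs.1) hq
  have hsx : Commute s x := hs.1.2.2.symm
  have h1 : (s * q * x) * e * (s * q * x)⁻¹ = cj q (cj x e) := by
    calc (s * q * x) * e * (s * q * x)⁻¹ = (q * x * s) * e * (q * x * s)⁻¹ := by
          rw [show s * q * x = q * x * s by rw [hsq.eq, mul_assoc, hsx.eq, ← mul_assoc]]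
      _ = q * x * (s * e * s⁻¹) * (q * x)⁻¹ := by group
      _ = cj q (cj x e) := by
          rw [hs.2.symm.eq, mul_inv_cancel_right, _root_.mul_inv_rev, inv_eq hD hx, inv_eq hD hq'.1]
          simp only [cj_def, mul_assoc]
  obtain ⟨-, hn1, h2, p, hp, hpx, -, hep, hmem⟩ :=
    star hP hx hq'.1 he hq'.2.1.symm hq'.2.2 (fun h => hxe h.symm) heq
  have hps : p = s := sel_unique hP hx he hxe hs
    (by rw [← cls_eq hF hx hs.1 hq]; exact ⟨hp, hpx⟩) hep
  refine ⟨h1, h2, hps ▸ hmem, hn1, ?_⟩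
  rw [show (s * q) * e * (s * q)⁻¹ = cj q e by
    calc (s * q) * e * (s * q)⁻¹ = (q * s) * e * (q * s)⁻¹ := by rw [hsq.eq]
      _ = q * (s * e * s⁻¹) * q⁻¹ := by group
      _ = cj q e := by rw [hs.2.symm.eq, mul_inv_cancel_right, cj_conj hD hq'.1]]
  exact not_commute_cj' hD hq'.1 he fun h => heq h.symm

omit [Finite G] in
theorem pair_mem' {s' q : G} (hs : s' ∈ perp D x) (hq : q ∈ cls D x s') : s' * q * x ∈ trl D x :=
  mul_mem (pair_mem_trl hs hq) self_mem_trl

/-- Translations moving `e` to a member commuting with it are singular. -/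
theorem exists_root (hP : IsPolar D) (hx : x ∈ D) (he : e ∈ D) (hxe : ¬ Commute x e) {t : G}
    (ht : t ∈ trl D x) (hc : Commute e (t * e * t⁻¹)) (hne : t ≠ 1) :
    ∃ s ∈ common D x e, ∃ q ∈ cls D x s, q ≠ s ∧ t = s * q * x := by
  have hF := hP.toIsFischer
  have hD := hF.toTrans
  set a := t * e * t⁻¹ with ha
  have haD : a ∈ D := hD.conj t e he
  have hae : a ≠ e := fun h => hne (trl_free hP hx ht he hxe h)
  have hxa : ¬ Commute x a := fun h => hxe (by
    rw [ha, ← show t * x * t⁻¹ = x by rw [(trl_commute hF hx ht).eq, mul_inv_cancel_right]] at h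
    exact (Commute.conj_iff t).1 h)
  obtain ⟨s, hs, hxs⟩ := exists_on_line hP he haD hae.symm hc hx
  have hes : Commute s e := commute_left he hc hs
  have hsx : s ≠ x := fun h => hxe (h ▸ hes)
  have hse : s ≠ e := fun h => hxe (h ▸ hxs)
  have hsS : s ∈ common D x e := ⟨mem_perp' hs.1 hsx.symm hxs, hes.symm⟩
  set f := fun q => cj q (cj x e) with hf
  set M := ln D s e \ {s, e} with hM
  have hmaps : f '' (cls D x s \ {s}) ⊆ M := by
    rintro _ ⟨q, ⟨hq, hqs⟩, rfl⟩
    obtain ⟨h0, -, h2, h3, -⟩ := root_commute hP hx he hxe hsS hq hqs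
    refine ⟨h2, ?_⟩
    rintro (h | h)
    · exact hxe (by
        have h4 : Commute x (cj q (cj x e)) := by rw [show cj q (cj x e) = s from h]; exact hxs
        rw [commute_cj_of hD hq.1.1 (cls_perp hx hsS.1 hq).2.2.symm,
          commute_cj_of hD hx (Commute.refl x)] at h4
        exact h4)
    · exact h3 h
  have hinj : Set.InjOn f (cls D x s \ {s}) := by
    rintro u ⟨hu, hus⟩ v ⟨hv, hvs⟩ h
    have hzD : cj x e ∈ D := cj_mem hD hx he
    have hz : ∀ {p : G}, p ∈ cls D x s → p ≠ s → ¬ Commute p (cj x e) := fun {p} hp hps h' =>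
      hps (sel_unique hP hx he hxe hsS hp
        ((commute_cj_of hD hx (cls_perp hx hsS.1 hp).2.2).1 h').symm)
    have h' : cj u (cj x e) = cj v (cj x e) := h
    rwa [braid hD hu.1.1 hzD (hz hu hus), braid hD hv.1.1 hzD (hz hv hvs), cj_inj hD hzD] at h'
  have heq : f '' (cls D x s \ {s}) = M := by
    refine Set.eq_of_subset_of_ncard_le hmaps ?_ (Set.toFinite _)
    rw [hinj.ncard_image, hM, Set.ncard_sdiff (by rintro z (rfl | rfl); exacts [left_mem hsS.1.1, right_mem he])
      (Set.toFinite _), Set.ncard_pair hse,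
      Set.ncard_sdiff_singleton_of_mem (self_mem_cls hsS.1),
      show cls D x s = ln D x s \ {x} from rfl, Set.ncard_sdiff_singleton_of_mem (left_mem hx),
      ln_card hF hx hsS.1.1 hsx.symm hxs hsS.1.1 he hse hes]
    omega
  have haM : a ∈ M := by
    refine ⟨?_, ?_⟩
    · rw [ln_comm, ln_eq_left hF he haD hae.symm hc hs hse]
      exact right_mem haD
    · rintro (h | h)
      exacts [hxa (by rw [h]; exact hxs), hae h]
  rw [← heq] at haM
  obtain ⟨q, ⟨hq, hqs⟩, hfa⟩ := haM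
  refine ⟨s, hsS, q, hq, hqs, trl_eq_of hP hx ht (pair_mem' hsS.1 hq) he hxe ?_⟩
  rw [← ha, (root_commute hP hx he hxe hsS hq hqs).1]
  exact hfa.symm

/-- Involutory translations are singular. -/
theorem exists_singular (hP : IsPolar D) (hx : x ∈ D) (he : e ∈ D) (hxe : ¬ Commute x e) {t : G}
    (ht : t ∈ trl D x) (h2 : t * t = 1) (hne : t ≠ 1) (hne' : t ≠ x) :
    ∃ s ∈ common D x e, ∃ q ∈ cls D x s, q ≠ s ∧ (t = s * q ∨ t = s * q * x) := by
  have hF := hP.toIsFischer
  have hD := hF.toTrans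
  set a := t * e * t⁻¹ with ha
  by_cases hc : Commute e a
  · obtain ⟨s, hs, q, hq, hqs, e'⟩ := exists_root hP hx he hxe ht hc hne
    exact ⟨s, hs, q, hq, hqs, Or.inr e'⟩
  have haD : a ∈ D := hD.conj t e he
  set k := cj e a with hk
  have hkD : k ∈ D := cj_mem hD he haD
  have hta : t * a * t⁻¹ = e := by
    rw [ha, show t * (t * e * t⁻¹) * t⁻¹ = (t * t) * e * (t * t)⁻¹ by group, h2, one_mul, inv_one,
      mul_one]
  have htk : t * k * t⁻¹ = k := by
    calc t * k * t⁻¹ = (t * e * t⁻¹) * (t * a * t⁻¹) * (t * e * t⁻¹) := by rw [hk, cj_def]; group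
      _ = cj a e := by rw [hta]; rfl
      _ = k := (braid hD he haD hc).symm
  have hke : ¬ Commute k e := fun h => not_commute_cj hD he hc h.symm
  have hak : a = cj k e := by rw [braid hD hkD he hke, hk, cj_cj hD he]
  rcases eq_or_ne k x with hkx | hkx
  · refine absurd (trl_eq_of hP hx ht self_mem_trl he hxe ?_) hne'
    rw [← cj_conj hD hx, ← hkx]
    exact hak
  by_cases hxk : Commute x k
  swap
  · exact absurd (trl_free hP hx ht hkD hxk htk) hne
  have hkp : k ∈ perp D x := mem_perp' hkD hkx.symm hxk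
  obtain ⟨s, hs, hks, -⟩ := exists_sel hP hx he hxe hkp
  have hne2 : k ≠ s := fun h => hke (h ▸ hs.2).symm
  refine ⟨s, hs, k, hks, hne2, Or.inl (trl_eq_of hP hx ht (pair_mem_trl hs.1 hks) he hxe ?_)⟩
  rw [← ha, hak, cj_conj hD hkD, (cls_commute hF hx hs.1 (self_mem_cls hs.1) hks).eq,
    show k * s * e * (k * s)⁻¹ = k * (s * e * s⁻¹) * k⁻¹ by group, hs.2.symm.eq, mul_inv_cancel_right]

/-- Translations acting on a class have order two there. -/
theorem trl_sq_act (hP : IsPolar D) (hx : x ∈ D) {t : G} (ht : t ∈ trl D x) :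
    ∀ q ∈ perp D x, (t * t) * q * (t * t)⁻¹ = q := by
  have hD := hP.toTrans
  induction ht using Subgroup.closure_induction with
  | mem g hg =>
    intro q hq
    rcases hg with rfl | ⟨y, hy, w, hw, rfl⟩
    · rw [mul_self hD hx, one_mul, inv_one, mul_one]
    · rw [show y * w * (y * w) = 1 by
        rw [mul_assoc, ← mul_assoc w, (cls_commute hP.toIsFischer hx hy hw (self_mem_cls hy)).eq,
          mul_assoc y, mul_self hD hw.1.1, mul_one, mul_self hD hy.1], one_mul, inv_one, mul_one]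
  | one => intro q _; simp
  | mul a b ha hb iha ihb =>
    intro q hq
    have h1 := act_comm hP hx ha hb _ (trl_perp hD hx hb hq)
    rw [show b * (b * q * b⁻¹) * b⁻¹ = (b * b) * q * (b * b)⁻¹ by group, ihb q hq] at h1
    calc a * b * (a * b) * q * (a * b * (a * b))⁻¹
        = a * (b * (a * (b * q * b⁻¹) * a⁻¹) * b⁻¹) * a⁻¹ := by group
      _ = a * (a * (b * (b * q * b⁻¹) * b⁻¹) * a⁻¹) * a⁻¹ := by
          rw [act_comm hP hx ha hb _ (trl_perp hD hx hb hq)]
      _ = (a * a) * (b * b * q * (b * b)⁻¹) * (a * a)⁻¹ := by group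
      _ = q := by rw [ihb q hq, iha q hq]
  | inv a ha iha =>
    intro q hq
    have h := iha q hq
    calc a⁻¹ * a⁻¹ * q * (a⁻¹ * a⁻¹)⁻¹ = (a * a)⁻¹ * ((a * a) * q * (a * a)⁻¹) * (a * a) := by
          rw [h]; simp [mul_assoc]
      _ = q := by group

/-- Commutators of translations lie in the centre `{1, x}`. -/
theorem trl_comm_mem (hP : IsPolar D) (hx : x ∈ D) {t u : G} (ht : t ∈ trl D x) (hu : u ∈ trl D x) :
    u * t * u⁻¹ = t ∨ u * t * u⁻¹ = t * x := by
  have hF := hP.toIsFischer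
  have hD := hF.toTrans
  have hux : u * x * u⁻¹ = x := by rw [(trl_commute hF hx hu).eq, mul_inv_cancel_right]
  induction ht using Subgroup.closure_induction with
  | mem g hg =>
    rcases hg with rfl | ⟨y, hy, w, hw, rfl⟩
    · exact Or.inl hux
    rcases eq_or_ne y w with rfl | hne
    · exact Or.inl (by rw [mul_self hD hy.1, mul_one, mul_inv_cancel])
    rw [show u * (y * w) * u⁻¹ = (u * y * u⁻¹) * (u * w * u⁻¹) by group]
    have hy' : u * y * u⁻¹ ∈ cls D x y := trl_cls hF hx hu y hy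
    have hw' : u * w * u⁻¹ ∈ cls D x y := by
      rw [← cls_eq hF hx hy hw]; exact trl_cls hF hx hu w (cls_perp hx hy hw)
    have hinv : ∀ q ∈ perp D x, u * (u * q * u⁻¹) * u⁻¹ = q := fun q hq => by
      rw [show u * (u * q * u⁻¹) * u⁻¹ = (u * u) * q * (u * u)⁻¹ by group, trl_sq_act hP hx hu q hq]
    have hyw := cls_commute hF hx hy (self_mem_cls hy) hw
    by_cases h1 : u * y * u⁻¹ = y
    · exact Or.inl (by rw [h1, trl_fix hP hx hu hy hw h1])
    by_cases h2 : u * y * u⁻¹ = w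
    · refine Or.inl ?_
      have h3 : u * w * u⁻¹ = y := by rw [← h2]; exact hinv y hy
      rw [h2, h3, hyw.eq]
    have h3 : u * w * u⁻¹ ≠ y := fun h => h2 (by rw [← h]; exact hinv w (cls_perp hx hy hw))
    have h4 : u * w * u⁻¹ ≠ w := fun h =>
      h1 (trl_fix hP hx hu (cls_perp hx hy hw) (by rw [cls_eq hF hx hy hw]; exact self_mem_cls hy) h)
    have h5 := prod_four hP hx hy (self_mem_cls hy) hw hy' hw' hne (Ne.symm h1) (Ne.symm h3)
      (Ne.symm h2) (Ne.symm h4) fun h => hne (by simpa using h)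
    refine Or.inr ?_
    rw [← eq_inv_mul_iff_mul_eq, _root_.mul_inv_rev, inv_eq hD hw.1.1, inv_eq hD hy.1, ← hyw.eq] at h5
    exact h5
  | one => exact Or.inl (by simp)
  | mul a b ha hb iha ihb =>
    rw [show u * (a * b) * u⁻¹ = (u * a * u⁻¹) * (u * b * u⁻¹) by group]
    have hbx : x * b = b * x := (trl_commute hF hx hb).symm.eq
    rcases iha with e1 | e1 <;> rcases ihb with e2 | e2 <;> rw [e1, e2]
    · exact Or.inl rfl
    · exact Or.inr (by rw [mul_assoc])
    · exact Or.inr (by rw [mul_assoc, hbx, mul_assoc])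
    · refine Or.inl ?_
      rw [mul_assoc, ← mul_assoc x, hbx, mul_assoc b, mul_self hD hx, mul_one]
  | inv a ha iha =>
    rw [show u * a⁻¹ * u⁻¹ = (u * a * u⁻¹)⁻¹ by group]
    rcases iha with h | h
    · exact Or.inl (by rw [h])
    · exact Or.inr (by rw [h, _root_.mul_inv_rev, inv_eq hD hx, ((trl_commute hF hx ha).inv_left).eq])

theorem trl_sq (hP : IsPolar D) (hx : x ∈ D) {t : G} (ht : t ∈ trl D x) : t * t = 1 ∨ t * t = x := by
  have hF := hP.toIsFischer
  have hD := hF.toTrans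
  induction ht using Subgroup.closure_induction with
  | mem g hg =>
    rcases hg with rfl | ⟨y, hy, w, hw, rfl⟩
    · exact Or.inl (mul_self hD hx)
    · refine Or.inl ?_
      rw [mul_assoc, ← mul_assoc w, (cls_commute hF hx hy hw (self_mem_cls hy)).eq, mul_assoc y,
        mul_self hD hw.1.1, mul_one, mul_self hD hy.1]
  | one => exact Or.inl (mul_one 1)
  | mul a b ha hb iha ihb =>
    have hbx : x * b = b * x := (trl_commute hF hx hb).symm.eq
    have hab : a * b * (a * b) = (a * a) * (b * b) ∨ a * b * (a * b) = (a * a) * (b * b) * x := by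
      rw [show a * b * (a * b) = (a * a) * (a⁻¹ * b * a⁻¹⁻¹) * b by group]
      rcases trl_comm_mem hP hx hb (inv_mem ha) with h | h <;> rw [h]
      · exact Or.inl (mul_assoc _ _ _)
      · exact Or.inr (by simp only [mul_assoc]; rw [hbx])
    rcases iha with e1 | e1 <;> rcases ihb with e2 | e2 <;> rcases hab with e3 | e3 <;>
      rw [e3, e1, e2] <;> simp [mul_self hD hx]
  | inv a _ iha =>
    rcases iha with h | h
    · exact Or.inl (by rw [← _root_.mul_inv_rev, h, inv_one])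
    · exact Or.inr (by rw [← _root_.mul_inv_rev, h, inv_eq hD hx])

end Cfsg.Lib.Fischer.Polar
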