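import Cfsg.Agent.Lib.Fischer.Polar.Planes
import Cfsg.Agent.Lib.Fischer.Polar.Linearize
import Cfsg.Agent.Lib.Fischer.Polar.Herm

/-!
# Lines with five points: the unitary groups over the field with four elements

The translations carry a Hermitian form over the field with four elements, and the members correspond
to the isotropic points of that space enlarged by a hyperbolic pair.
-/

set_option autoImplicit false
set_option linter.style.haveILetI false
set_option linter.unusedSimpArgs false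
set_option linter.unusedSectionVars false

namespace Cfsg.Lib.Fischer.Polar

open Cfsg Cfsg.Lib.Fischer

namespace Ctx

variable {G : Type*} [Group G] [Finite G] {D : Set G} {x e : G} (C : Ctx D x e)

include C

open scoped Classical in
/-- The commutator of two translations as a scalar. -/
noncomputable def cm (_C : Ctx D x e) (t u : G) : ZMod 2 := if u * t * u⁻¹ = t then 0 else 1

theorem cm_zero {t u : G} (h : u * t * u⁻¹ = t) : C.cm t u = 0 := if_pos h

theorem cm_one {t u : G} (h : ¬ u * t * u⁻¹ = t) : C.cm t u = 1 := if_neg h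

theorem cm_symm (t u : G) : C.cm t u = C.cm u t := by
  have key : ∀ a b : G, b * a * b⁻¹ = a → a * b * a⁻¹ = b := fun a b h => by
    rw [mul_inv_eq_iff_eq_mul] at h ⊢; exact h.symm
  by_cases h : u * t * u⁻¹ = t
  · rw [C.cm_zero h, C.cm_zero (key t u h)]
  · rw [C.cm_one h, C.cm_one fun h' => h (key u t h')]

theorem x_ne_one : x ≠ (1 : G) := ne_one C.tra C.hx

theorem mul_x_ne (t : G) : t * x ≠ t := fun h => C.x_ne_one (mul_eq_left.1 h)

theorem cm_mul (t t' u : C.T) : C.cm ((t : G) * t') u = C.cm t u + C.cm t' u := by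
  have hx' : ∀ z : C.T, x * (z : G) = z * x := fun z => (trl_commute C.fis C.hx z.2).symm.eq
  have e : (u : G) * ((t : G) * t') * (u : G)⁻¹ =
      ((u : G) * t * (u : G)⁻¹) * ((u : G) * t' * (u : G)⁻¹) := by group
  rcases trl_comm_mem C.polar C.hx t.2 u.2 with h1 | h1 <;>
    rcases trl_comm_mem C.polar C.hx t'.2 u.2 with h2 | h2
  · rw [C.cm_zero (e.trans (by rw [h1, h2])), C.cm_zero h1, C.cm_zero h2, add_zero]
  · have e' : (u : G) * ((t : G) * t') * (u : G)⁻¹ = (t : G) * t' * x := e.trans (by rw [h1, h2, mul_assoc])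
    rw [C.cm_zero h1, C.cm_one (h2.trans_ne (C.mul_x_ne _)), C.cm_one (e'.trans_ne (C.mul_x_ne _)), zero_add]
  · have e' : (u : G) * ((t : G) * t') * (u : G)⁻¹ = (t : G) * t' * x :=
      e.trans (by rw [h1, h2, mul_assoc, hx', mul_assoc])
    rw [C.cm_zero h2, C.cm_one (h1.trans_ne (C.mul_x_ne _)), C.cm_one (e'.trans_ne (C.mul_x_ne _)), add_zero]
  · have e' : (u : G) * ((t : G) * t') * (u : G)⁻¹ = (t : G) * t' := e.trans (by
      rw [h1, h2, mul_assoc, ← mul_assoc x, hx', mul_assoc (t' : G), mul_self C.tra C.hx, mul_one])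
    rw [C.cm_zero e', C.cm_one (h1.trans_ne (C.mul_x_ne _)), C.cm_one (h2.trans_ne (C.mul_x_ne _))]
    decide

/-- The commutator form. -/
theorem exists_form : ∃ B : C.U →ₗ[ZMod 2] C.U →ₗ[ZMod 2] ZMod 2,
    ∀ t u : C.T, B (C.pr t) (C.pr u) = C.cm t u := by
  choose rep hrep using C.pr_surj
  have hl : ∀ t u : C.T, C.cm (rep (C.pr t) : C.T) u = C.cm t u := fun t u => by
    rcases C.pr_eq (hrep (C.pr t)) with h | h <;> rw [h]
    rw [Subgroup.coe_mul, C.cm_mul, C.cm_zero (t := (C.xT : G))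
      (show (u : G) * x * (u : G)⁻¹ = x by rw [(trl_commute C.fis C.hx u.2).eq, mul_inv_cancel_right]),
      add_zero]
  let f : C.U → C.U → ZMod 2 := fun a b => C.cm (rep a : C.T) (rep b : C.T)
  have hf : ∀ t u : C.T, f (C.pr t) (C.pr u) = C.cm t u := fun t u => by
    show C.cm (rep _ : C.T) (rep _ : C.T) = _
    rw [hl, C.cm_symm, hl, C.cm_symm]
  have hadd : ∀ a a' b, f (a + a') b = f a b + f a' b := fun a a' b => by
    obtain ⟨t, rfl⟩ := C.pr_surj a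
    obtain ⟨t', rfl⟩ := C.pr_surj a'
    obtain ⟨u, rfl⟩ := C.pr_surj b
    rw [← C.pr_mul, hf, hf, hf, Subgroup.coe_mul, C.cm_mul]
  have hsymm : ∀ a b, f a b = f b a := fun a b => C.cm_symm _ _
  have h0 : ∀ b, f 0 b = 0 := fun b => by
    have h := hadd 0 0 b
    rw [add_zero] at h
    exact add_left_cancel (h.symm.trans (add_zero _).symm)
  have hsmul : ∀ (k : ZMod 2) a b, f (k • a) b = k • f a b := fun k a b => by
    rcases z2 k with rfl | rfl
    · rw [zero_smul, zero_smul, h0]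
    · rw [one_smul, one_smul]
  exact ⟨LinearMap.mk₂ (ZMod 2) f hadd hsmul (fun a b b' => by rw [hsymm, hadd, hsymm b, hsymm b'])
    (fun k a b => by rw [hsymm, hsmul, hsymm b]), hf⟩

/-- The forms and the scalar of order three. -/
structure Forms (C : Ctx D x e) where
  B : C.U →ₗ[ZMod 2] C.U →ₗ[ZMod 2] ZMod 2
  ω : C.U →ₗ[ZMod 2] C.U
  B_pr : ∀ t u : C.T, B (C.pr t) (C.pr u) = C.cm t u
  sq : ∀ u, ω (ω u) = ω u + u
  comm : ∀ s u, ω (C.N s u) = C.N s (ω u)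

theorem exists_forms : Nonempty (Forms C) := by
  obtain ⟨B, hB⟩ := C.exists_form
  haveI := C.exists_S
  obtain ⟨ω, h1, h2⟩ := C.frame.exists_omega C.sep
  exact ⟨⟨B, ω, hB, h1, h2⟩⟩

end Ctx

namespace Ctx.Forms

variable {G : Type*} [Group G] [Finite G] {D : Set G} {x e : G} {C : Ctx D x e} (Φ : Forms C)

include Φ

theorem B_symm (u v : C.U) : Φ.B u v = Φ.B v u := by
  obtain ⟨t, rfl⟩ := C.pr_surj u
  obtain ⟨t', rfl⟩ := C.pr_surj v
  rw [Φ.B_pr, Φ.B_pr, C.cm_symm]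

theorem cube (u : C.U) : Φ.ω (Φ.ω (Φ.ω u)) = u := by
  rw [Φ.sq (Φ.ω u), Φ.sq, add_comm (Φ.ω u), add_assoc, C.U_double, add_zero]

theorem ω_mem {s : C.S} {a : C.U} (ha : a ∈ C.frame.P s) : Φ.ω a ∈ C.frame.P s := by
  obtain ⟨u, rfl⟩ := ha
  exact ⟨Φ.ω u, (Φ.comm s u).symm⟩

theorem ω_zero {a : C.U} : Φ.ω a = 0 ↔ a = 0 := by
  refine ⟨fun h => ?_, fun h => by rw [h, map_zero]⟩
  rw [← Φ.cube a, h, map_zero, map_zero]

theorem ω_ne {a : C.U} (h : a ≠ 0) : Φ.ω a ≠ a := fun e' => h (by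
  have h' := Φ.sq a
  rw [e', e', C.U_double] at h'
  exact h')

open scoped Classical in
/-- The form on a plane is the determinant. -/
theorem B_plane {s : C.S} {a : C.U} (ha : a ∈ C.frame.P s) (v : C.U) :
    Φ.B a v = if a = 0 ∨ C.N s v = 0 ∨ C.N s v = a then 0 else 1 := by
  rcases eq_or_ne a 0 with rfl | h0
  · rw [if_pos (Or.inl rfl), map_zero, LinearMap.zero_apply]
  obtain ⟨q, hq, rfl⟩ := C.range_cases s ha
  obtain ⟨t, rfl⟩ := C.pr_surj v
  have hqs : q ≠ (s : G) := fun h => h0 ((C.nu_congr hq (C.self_cls s) h).trans (C.pr_pt_self s))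
  rw [Φ.B_pr]
  have h := C.conj_pt s hq hqs t
  by_cases hc : C.N s (C.pr t) = 0 ∨ C.N s (C.pr t) = C.pr (C.pt s hq)
  · rw [if_pos hc] at h
    rw [if_pos (Or.inr hc)]
    exact C.cm_zero h
  · rw [if_neg hc] at h
    rw [if_neg (not_or.2 ⟨h0, hc⟩)]
    exact C.cm_one fun h' => C.mul_x_ne ((s : G) * q) (h.symm.trans h')

theorem B_P_zero {s : C.S} {a b : C.U} (ha : a ∈ C.frame.P s) (hb : C.N s b = 0) : Φ.B a b = 0 := by
  classical
  rw [Φ.B_plane ha, if_pos (Or.inr (Or.inl hb))]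

theorem B_adjoint (u v : C.U) : Φ.B (Φ.ω u) v = Φ.B u (Φ.ω (Φ.ω v)) := by
  classical
  have hu : u ∈ ⨆ s, C.frame.P s := C.frame.span ▸ Submodule.mem_top
  induction hu using Submodule.iSup_induction' with
  | mem s a ha =>
    rw [Φ.B_plane (Φ.ω_mem ha), Φ.B_plane ha, ← Φ.comm, ← Φ.comm]
    have h1 : Φ.ω (Φ.ω (C.N s v)) = 0 ↔ C.N s v = 0 := by rw [Φ.ω_zero, Φ.ω_zero]
    have h2 : Φ.ω (Φ.ω (C.N s v)) = a ↔ C.N s v = Φ.ω a :=
      ⟨fun h => by rw [← h, Φ.cube], fun h => by rw [h, Φ.cube]⟩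
    simp only [h1, h2, Φ.ω_zero]
  | zero => simp
  | add a b _ _ iha ihb => simp only [map_add, LinearMap.add_apply, iha, ihb]

/-- The form `B (ω u) v`. -/
noncomputable def γ : C.U →ₗ[ZMod 2] C.U →ₗ[ZMod 2] ZMod 2 := Φ.B.comp Φ.ω

theorem γ_apply (u v : C.U) : Φ.γ u v = Φ.B (Φ.ω u) v := rfl

theorem γ_ω_left (u v : C.U) : Φ.γ (Φ.ω u) v = Φ.γ u v + Φ.B u v := by
  rw [γ_apply, Φ.sq, map_add, LinearMap.add_apply]; rfl

theorem γ_ω_right (u v : C.U) : Φ.γ u (Φ.ω v) = Φ.B u v := by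
  rw [γ_apply, Φ.B_adjoint, Φ.cube]

theorem B_ω_right (u v : C.U) : Φ.B u (Φ.ω v) = Φ.γ u v + Φ.B u v := by
  rw [γ_apply, Φ.B_adjoint, Φ.sq, map_add, add_assoc, ZModModule.add_self, add_zero]

theorem pol_γ (u v : C.U) : pol Φ.γ u v = Φ.B u v := by
  show Φ.γ u v + Φ.γ v u = Φ.B u v
  rw [show Φ.γ v u = Φ.B u (Φ.ω v) from Φ.B_symm _ _, B_ω_right, ← add_assoc, ZModModule.add_self,
    zero_add]

theorem γ_P {s : C.S} {a b : C.U} (ha : a ∈ C.frame.P s) (hb : b ∈ C.frame.P s) : Φ.γ a b = 0 :=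
  Φ.B_P_zero (Φ.ω_mem ha) (C.frame.N_self hb)

open scoped Classical in
/-- The squaring map. -/
theorem sq_eq (t : C.T) : t * t = if Φ.γ (C.pr t) (C.pr t) = 0 then 1 else C.xT := by
  let p : G → ZMod 2 := fun g => if g = 1 then 0 else 1
  have p1 : p 1 = 0 := if_pos rfl
  have px : p x = 1 := if_neg C.x_ne_one
  suffices h : p ((t : G) * t) = Φ.γ (C.pr t) (C.pr t) by
    rcases trl_sq C.polar C.hx t.2 with h2 | h2
    · rw [h2, p1] at h
      rw [if_pos h.symm]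
      exact Subtype.ext h2
    · rw [h2, px] at h
      rw [if_neg (by rw [← h]; decide)]
      exact Subtype.ext h2
  have hinv : ∀ (a : C.T), C.pr a⁻¹ = C.pr a := fun a => by
    have := C.pr_mul a⁻¹ a
    rw [inv_mul_cancel, C.pr_one, eq_comm, ← ZModModule.sub_eq_add, sub_eq_zero] at this
    exact this
  obtain ⟨t, ht⟩ := t
  induction ht using Subgroup.closure_induction with
  | mem g hg =>
    rcases hg with hgx | ⟨y, hy, w, hw, rfl⟩
    · subst g
      rw [show (⟨_, _⟩ : C.T) = C.xT from rfl, C.pr_x, map_zero]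
      show p (x * x) = 0
      rw [mul_self C.tra C.hx, p1]
    obtain ⟨s, hys, hsy⟩ := C.sel hy
    have hws : w ∈ cls D x s := by rw [cls_eq C.fis C.hx hy hsy]; exact hw
    obtain ⟨h, e'⟩ := C.pr_pair s hys hws
    rw [e', Φ.γ_P (add_mem (C.exists_shiftS s hys) (C.exists_shiftS s hws))
      (add_mem (C.exists_shiftS s hys) (C.exists_shiftS s hws))]
    show p (y * w * (y * w)) = 0
    rw [mul_assoc y, ← mul_assoc w, (cls_commute C.fis C.hx hy hw (self_mem_cls hy)).eq,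
      mul_assoc y w, mul_self C.tra hw.1.1, mul_one, mul_self C.tra hy.1, p1]
  | one =>
    rw [show (⟨1, _⟩ : C.T) = 1 from rfl, C.pr_one, map_zero]
    show p (1 * 1) = 0
    rw [one_mul, p1]
  | mul a b ha hb iha ihb =>
    have hq := C.pr_mul ⟨a, ha⟩ ⟨b, hb⟩
    rw [show (⟨a * b, mul_mem ha hb⟩ : C.T) = ⟨a, ha⟩ * ⟨b, hb⟩ from rfl, hq, quad_add, ← iha, ← ihb,
      Φ.pol_γ, Φ.B_pr]
    show p (a * b * (a * b)) = p (a * a) + p (b * b) + C.cm a b
    have hbx : x * b = b * x := (trl_commute C.fis C.hx hb).symm.eq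
    have hax : x * a = a * x := (trl_commute C.fis C.hx ha).symm.eq
    have hpm : ∀ {u v : G}, (u = 1 ∨ u = x) → (v = 1 ∨ v = x) → p (u * v) = p u + p v := by
      rintro u v (rfl | rfl) (rfl | rfl)
      · rw [one_mul, p1, add_zero]
      · rw [one_mul, p1, zero_add]
      · rw [mul_one, p1, add_zero]
      · rw [mul_self C.tra C.hx, p1, px]; decide
    have hA := trl_sq C.polar C.hx ha
    have hB := trl_sq C.polar C.hx hb
    have hAB : a * a * (b * b) = 1 ∨ a * a * (b * b) = x := by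
      rcases hA with h1 | h1 <;> rcases hB with h2 | h2 <;> rw [h1, h2] <;> simp [mul_self C.tra C.hx]
    rcases trl_comm_mem C.polar C.hx hb ha with h | h
    · rw [C.cm_symm, C.cm_zero h, add_zero, ← hpm hA hB]
      congr 1
      rw [mul_inv_eq_iff_eq_mul] at h
      rw [mul_assoc a b, ← mul_assoc b a, ← h]
      simp only [mul_assoc]
    · rw [C.cm_symm, C.cm_one (h.trans_ne (C.mul_x_ne _)), ← hpm hA hB, ← px, ← hpm hAB (Or.inr rfl)]
      congr 1
      rw [mul_inv_eq_iff_eq_mul] at h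
      have hba : b * a = a * b * x := by
        rw [h, mul_assoc (b * x) a x, ← hax, ← mul_assoc (b * x) x a, mul_assoc b x x,
          mul_self C.tra C.hx, mul_one]
      rw [mul_assoc a b, ← mul_assoc b a, hba, mul_assoc (a * b) x b, hbx]
      simp only [mul_assoc]
  | inv a ha iha =>
    have h := hinv ⟨a, ha⟩
    rw [show (⟨a⁻¹, inv_mem ha⟩ : C.T) = (⟨a, ha⟩ : C.T)⁻¹ from rfl, h, ← iha]
    show p (a⁻¹ * a⁻¹) = p (a * a)
    rcases trl_sq C.polar C.hx ha with h' | h'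
    · rw [← _root_.mul_inv_rev, h', inv_one]
    · rw [← _root_.mul_inv_rev, h', inv_eq C.tra C.hx]

open scoped Classical in
theorem comm_eq (t u : C.T) : t * u = u * t * if pol Φ.γ (C.pr t) (C.pr u) = 0 then 1 else C.xT := by
  rw [Φ.pol_γ, Φ.B_pr, C.cm_symm]
  have hcx := C.xT_comm t
  rcases trl_comm_mem C.polar C.hx u.2 t.2 with h | h
  · rw [if_pos (C.cm_zero h), mul_one]
    exact Subtype.ext (mul_inv_eq_iff_eq_mul.1 h)
  · rw [if_neg (by rw [C.cm_one (h.trans_ne (C.mul_x_ne _))]; decide), mul_assoc, hcx, ← mul_assoc]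
    exact Subtype.ext (mul_inv_eq_iff_eq_mul.1 h)

theorem nondeg {u : C.U} (h : u ≠ 0) : ∃ v, pol Φ.γ u v = 1 := by
  classical
  obtain ⟨s, hs⟩ : ∃ s, C.N s u ≠ 0 := by
    by_contra h'
    push Not at h'
    exact h (C.sep u h')
  obtain ⟨a, b, ha, hb, hab, ham, hbm, -⟩ := C.four_range s
  obtain ⟨c, hc, hc0, hcu⟩ : ∃ c ∈ C.frame.P s, c ≠ 0 ∧ C.N s u ≠ c := by
    by_cases h' : C.N s u = a
    · exact ⟨b, hbm, hb, fun e' => hab (h'.symm.trans e')⟩
    · exact ⟨a, ham, ha, h'⟩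
  exact ⟨c, by rw [Φ.pol_γ, Φ.B_symm, Φ.B_plane hc, if_neg (not_or.2 ⟨hc0, not_or.2 ⟨hs, hcu⟩⟩)]⟩

theorem P_disjoint {s r : C.S} {a : C.U} (hs : a ∈ C.frame.P s) (hr : a ∈ C.frame.P r) (h0 : a ≠ 0) :
    s = r := by
  by_contra hne
  have key : ∀ i, C.frame.adj i s → C.frame.adj i r := fun i h => by_contra fun h' =>
    h0 (C.frame.N_inj h hs (C.frame.N_zero h' hr))
  have key' : ∀ i, C.frame.adj i r → C.frame.adj i s := fun i h => by_contra fun h' =>
    h0 (C.frame.N_inj h hr (C.frame.N_zero h' hs))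
  have hsame : ∀ i : C.S, Commute (i : G) s ↔ Commute (i : G) r := fun i =>
    ⟨fun h => by_contra fun h' => (key' i h') h, fun h => by_contra fun h' => (key i h') h⟩
  have hr' : (r : G) ∈ cls D x s := ⟨⟨r.2.1.1, fun d hd => by
    rcases eq_or_ne d x with rfl | hdx
    · exact r.2.1.2.2.symm
    obtain ⟨i, hi, -⟩ := C.sel (mem_perp' hd.1 hdx.symm hd.2.1)
    have h1 : Commute (i : G) s := (C.cls_comm hi (C.self_cls s)).1 hd.2.2.symm
    exact ((C.cls_comm hi (C.self_cls r)).2 ((hsame i).1 h1)).symm⟩, r.2.1.2.1⟩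
  exact hne (Subtype.ext (sel_unique C.polar C.hx C.he C.hxe s.2 hr' r.2.2).symm)

/-- The translations joining `e` to members commuting with it. -/
def IsRoot (_Φ : Forms C) (t : C.T) : Prop := Commute e ((t : G) * e * (t : G)⁻¹)

theorem root_pr {t : C.T} (h : Φ.IsRoot t) (h1 : t ≠ 1) :
    ∃ (s : C.S) (q : G) (hq : q ∈ cls D x s), q ≠ (s : G) ∧ t = C.pt s hq * C.xT ∧
      C.pr t = C.pr (C.pt s hq) := by
  obtain ⟨s, hs, q, hq, hne, e'⟩ := exists_root C.polar C.hx C.he C.hxe t.2 h fun h' => h1 (Subtype.ext h')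
  have e2 : t = C.pt ⟨s, hs⟩ hq * C.xT := Subtype.ext e'
  exact ⟨⟨s, hs⟩, q, hq, hne, e2, by rw [e2, C.pr_mul, C.pr_x, add_zero]⟩

theorem root_unique {t u : C.T} (ht : Φ.IsRoot t) (hu : Φ.IsRoot u) (h : C.pr t = C.pr u) : t = u := by
  rcases C.pr_eq h with e' | e'
  · exact e'
  exfalso
  rcases eq_or_ne u 1 with rfl | h1
  · rw [one_mul] at e'
    rw [e'] at ht
    have ht' : Commute e (x * e * x⁻¹) := ht
    rw [← cj_conj C.tra C.hx] at ht'
    exact not_commute_cj' C.tra C.hx C.he C.hxe ht'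
  obtain ⟨s, q, hq, hne, e2, -⟩ := Φ.root_pr hu h1
  have e3 : t = C.pt s hq := by rw [e', e2, mul_assoc, C.xT_sq, mul_one]
  rw [e3] at ht
  exact (root_commute C.polar C.hx C.he C.hxe s.2 hq hne).2.2.2.2 ht

theorem root_exists {s : C.S} {a : C.U} (ha : a ∈ C.frame.P s) : ∃ t, Φ.IsRoot t ∧ C.pr t = a := by
  obtain ⟨q, hq, rfl⟩ := C.range_cases s ha
  rcases eq_or_ne q (s : G) with h | h
  · refine ⟨1, ?_, by rw [C.pr_one, C.nu_congr hq (C.self_cls s) h, C.pr_pt_self]⟩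
    show Commute e ((1 : G) * e * (1 : G)⁻¹)
    rw [one_mul, inv_one, mul_one]
  · refine ⟨C.pt s hq * C.xT, ?_, by rw [C.pr_mul, C.pr_x, add_zero]⟩
    obtain ⟨h1, h2, -⟩ := root_commute C.polar C.hx C.he C.hxe s.2 hq h
    show Commute e (((s : G) * q * x) * e * ((s : G) * q * x)⁻¹)
    rwa [h1]

theorem singular_mem {u : C.U} (h : Φ.γ u u = 0) (h0 : u ≠ 0) : ∃ s, u ∈ C.frame.P s := by
  classical
  obtain ⟨t, rfl⟩ := C.pr_surj u
  have h2 : t * t = 1 := by rw [Φ.sq_eq t, if_pos h]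
  obtain ⟨s, hs, q, hq, -, e'⟩ := exists_singular C.polar C.hx C.he C.hxe t.2
    (congrArg Subtype.val h2) (fun e' => h0 (by rw [show t = 1 from Subtype.ext e', C.pr_one]))
    (fun e' => h0 (by rw [show t = C.xT from Subtype.ext e', C.pr_x]))
  refine ⟨⟨s, hs⟩, ?_⟩
  obtain ⟨v, hv⟩ := C.exists_shiftS ⟨s, hs⟩ hq
  refine ⟨v, ?_⟩
  show C.N ⟨s, hs⟩ v = _
  rw [hv]
  rcases e' with e' | e'
  · rw [show t = C.pt ⟨s, hs⟩ hq from Subtype.ext e']
  · rw [show t = C.pt ⟨s, hs⟩ hq * C.xT from Subtype.ext e', C.pr_mul, C.pr_x, add_zero]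

open scoped Classical in
theorem root_add {a b : C.U} (ha : Φ.γ a a = 0) (hb : Φ.γ b b = 0) (hab : pol Φ.γ a b = 0)
    {ta tb tc : C.T} (hta : Φ.IsRoot ta) (htb : Φ.IsRoot tb) (htc : Φ.IsRoot tc)
    (ea : C.pr ta = a) (eb : C.pr tb = b) (ec : C.pr tc = a + b) :
    ta * tb = tc * if Φ.γ a b = 0 then 1 else C.xT := by
  have hroot1 : Φ.IsRoot 1 := by
    show Commute e ((1 : G) * e * (1 : G)⁻¹)
    rw [one_mul, inv_one, mul_one]
  rcases eq_or_ne a 0 with rfl | ha0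
  · rw [Φ.root_unique hta hroot1 (ea.trans C.pr_one.symm), one_mul, map_zero, LinearMap.zero_apply,
      if_pos rfl, mul_one]
    exact Φ.root_unique htb htc (by rw [eb, ec, zero_add])
  rcases eq_or_ne b 0 with rfl | hb0
  · rw [Φ.root_unique htb hroot1 (eb.trans C.pr_one.symm), mul_one, map_zero, if_pos rfl, mul_one]
    exact Φ.root_unique hta htc (by rw [ea, ec, add_zero])
  obtain ⟨s, q, hq, hqs, eta, epa⟩ := Φ.root_pr hta fun h => ha0 (by rw [← ea, h, C.pr_one])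
  obtain ⟨r, p, hp, hpr, etb, epb⟩ := Φ.root_pr htb fun h => hb0 (by rw [← eb, h, C.pr_one])
  have has : a = C.pr (C.pt s hq) := ea.symm.trans epa
  have hbr : b = C.pr (C.pt r hp) := eb.symm.trans epb
  have hPa : a ∈ C.frame.P s := has ▸ C.exists_shiftS s hq
  have hPb : b ∈ C.frame.P r := hbr ▸ C.exists_shiftS r hp
  have hx' : ∀ z : C.T, C.xT * z = z * C.xT := fun z => (C.xT_comm z).symm
  by_cases hsr : Commute (s : G) r
  · have hγ : Φ.γ a b = 0 := Φ.B_P_zero (Φ.ω_mem hPa) (C.frame.N_zero (fun h => h hsr) hPb)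
    rw [if_pos hγ, mul_one]
    refine Φ.root_unique ?_ htc (by rw [C.pr_mul, ea, eb, ec])
    show Commute e (((ta * tb : C.T) : G) * e * ((ta * tb : C.T) : G)⁻¹)
    obtain ⟨a1, a2, a3, a4, -⟩ := root_commute C.polar C.hx C.he C.hxe s.2 hq hqs
    obtain ⟨b1, b2, b3, b4, -⟩ := root_commute C.polar C.hx C.he C.hxe r.2 hp hpr
    have hD := C.tra
    have hse : (s : G) ≠ e := fun h => C.hxe (h ▸ s.2.1.2.2)
    have hre : (r : G) ≠ e := fun h => C.hxe (h ▸ r.2.1.2.2)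
    have ha' : (ta : G) * e * (ta : G)⁻¹ = cj q (cj x e) := by rw [eta]; exact a1
    have hb' : (tb : G) * e * (tb : G)⁻¹ = cj p (cj x e) := by rw [etb]; exact b1
    have hta2 : (ta : G) * ta = 1 :=
      congrArg Subtype.val (show ta * ta = 1 by rw [Φ.sq_eq, ea, if_pos ha])
    have h1 : Commute (cj q (cj x e)) (cj p (cj x e)) := by
      refine commute_all C.fis r.2.1.1 C.he hre r.2.2.symm (left_mem r.2.1.1) (right_mem C.he) hre a3.1 ?_ a2.symm b3
      exact a3.2 (r : G) ⟨r.2.1.1, hsr, r.2.2⟩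
    show Commute e ((ta : G) * tb * e * ((ta : G) * tb)⁻¹)
    rw [show (ta : G) * tb * e * ((ta : G) * tb)⁻¹ = (ta : G) * ((tb : G) * e * (tb : G)⁻¹) * (ta : G)⁻¹ by
      group, hb']
    have h2 : e = (ta : G) * cj q (cj x e) * (ta : G)⁻¹ := by
      rw [← ha', show (ta : G) * ((ta : G) * e * (ta : G)⁻¹) * (ta : G)⁻¹ =
        (ta : G) * ta * e * ((ta : G) * ta)⁻¹ by group, hta2, one_mul, inv_one, mul_one]
    rw [show Commute e ((ta : G) * cj p (cj x e) * (ta : G)⁻¹) ↔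
      Commute ((ta : G) * cj q (cj x e) * (ta : G)⁻¹) ((ta : G) * cj p (cj x e) * (ta : G)⁻¹) by rw [← h2],
      Commute.conj_iff]
    exact h1
  have hN : C.N s b = a := by
    rw [Φ.pol_γ, Φ.B_plane hPa] at hab
    by_contra hn
    rw [if_neg (show ¬ (a = 0 ∨ C.N s b = 0 ∨ C.N s b = a) from
      not_or.2 ⟨ha0, not_or.2 ⟨fun h => hb0 (C.frame.N_inj hsr hPb h), hn⟩⟩)] at hab
    exact one_ne_zero hab
  have hγ : Φ.γ a b = 1 := by
    rw [γ_apply, Φ.B_plane (Φ.ω_mem hPa), if_neg]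
    rw [not_or, not_or, hN]
    exact ⟨fun h => ha0 (Φ.ω_zero.1 h), ha0, fun h => Φ.ω_ne ha0 h.symm⟩
  rw [if_neg (by rw [hγ]; decide)]
  -- the conjugate of the second root by `s`
  obtain ⟨hm, e3⟩ := C.sigma_pr s tb
  rw [eb, hN] at e3
  have hR : Φ.IsRoot ⟨_, hm⟩ := by
    show Commute e ((s : G) * tb * (s : G)⁻¹ * e * ((s : G) * tb * (s : G)⁻¹)⁻¹)
    have hse : (s : G) * e * (s : G)⁻¹ = e := by rw [s.2.2.symm.eq, mul_inv_cancel_right]
    have hse' : (s : G)⁻¹ * e * s = e := by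
      rw [mul_assoc, s.2.2.eq, inv_mul_cancel_left]
    rw [show (s : G) * tb * (s : G)⁻¹ * e * ((s : G) * tb * (s : G)⁻¹)⁻¹ =
      (s : G) * ((tb : G) * ((s : G)⁻¹ * e * s) * (tb : G)⁻¹) * (s : G)⁻¹ by group, hse']
    have := (Commute.conj_iff (s : G)).2 htb
    rwa [hse] at this
  have hc : (⟨_, hm⟩ : C.T) = tc := Φ.root_unique hR htc (by rw [ec, e3, add_comm a])
  have hq' : (tb : G) * s * (tb : G)⁻¹ = q := by
    refine C.pr_pt_inj s (C.act_cls s tb) hq ?_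
    show C.N s (C.pr tb) = C.pr (C.pt s hq)
    rw [eb, hN, has]
  have h5 : tc = C.pt s hq * tb := by
    rw [← hc]
    refine Subtype.ext ?_
    show (s : G) * tb * (s : G)⁻¹ = (s : G) * q * tb
    rw [← hq', inv_eq C.tra s.2.1.1]
    group
  rw [h5, eta, mul_assoc, hx', ← mul_assoc]

/-- The coordinate on the translations. -/
theorem exists_chi : ∃ χ : C.T → ZMod 2,
    (∀ t u, χ (t * u) = χ t + χ u + Φ.γ (C.pr t) (C.pr u)) ∧ χ C.xT = 1 ∧
      ∀ t, Φ.IsRoot t → χ t = 0 := by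
  classical
  have hroot1 : Φ.IsRoot 1 := by
    show Commute e ((1 : G) * e * (1 : G)⁻¹)
    rw [one_mul, inv_one, mul_one]
  have hex : ∀ a, Φ.γ a a = 0 → ∃ t, Φ.IsRoot t ∧ C.pr t = a := fun a ha => by
    rcases eq_or_ne a 0 with rfl | h0
    · exact ⟨1, hroot1, C.pr_one⟩
    · obtain ⟨s, hs⟩ := Φ.singular_mem ha h0
      exact Φ.root_exists hs
  let r : C.U → C.T := fun a => if h : Φ.γ a a = 0 then (hex a h).choose else 1
  have hr : ∀ a, Φ.γ a a = 0 → Φ.IsRoot (r a) ∧ C.pr (r a) = a := fun a h => by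
    show Φ.IsRoot (if h : Φ.γ a a = 0 then (hex a h).choose else 1) ∧ C.pr (if h : _ then _ else _) = a
    rw [dif_pos h]
    exact (hex a h).choose_spec
  obtain ⟨s⟩ := C.exists_S
  obtain ⟨r₁, hsr⟩ := C.exists_adj s
  obtain ⟨A, B, hA, hB, hAB, hAm, hBm, -⟩ := C.four_range s
  set e' := C.N r₁ B with he'
  have hNe : C.N s e' = B := C.frame.back hsr hBm
  have hPe : e' ∈ C.frame.P r₁ := ⟨B, rfl⟩
  have hee : pol Φ.γ A e' = 1 := by
    rw [Φ.pol_γ, Φ.B_plane hAm, hNe, if_neg (not_or.2 ⟨hA, not_or.2 ⟨hB, Ne.symm hAB⟩⟩)]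
  have hBe' : pol Φ.γ B e' = 0 := by
    rw [Φ.pol_γ, Φ.B_plane hBm, if_pos (Or.inr (Or.inr hNe))]
  have hBA : pol Φ.γ B A = 0 := by
    rw [Φ.pol_γ]; exact Φ.B_P_zero hBm (C.frame.N_self hAm)
  have hspan : Submodule.span (ZMod 2) {a | Φ.γ a a = 0} = ⊤ := by
    rw [eq_top_iff, ← C.frame.span, iSup_le_iff]
    intro i a ha
    exact Submodule.subset_span (Φ.γ_P ha ha)
  obtain ⟨χ, h1, h2, h3⟩ := exists_coord (T := C.T) Φ.γ C.pr (x := C.xT) C.pr_mul C.pr_surj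
    (fun t => C.pr_eq_zero) C.pr_x C.xT_sq (fun h => C.x_ne_one (congrArg Subtype.val h)) C.xT_comm
    Φ.sq_eq Φ.comm_eq r (fun a h => (hr a h).2)
    (Φ.root_unique (hr 0 (by simp)).1 hroot1 ((hr 0 (by simp)).2.trans C.pr_one.symm))
    (fun a b ha hb hab => Φ.root_add ha hb hab (hr a ha).1 (hr b hb).1
      (hr _ (by rw [quad_add, ha, hb, hab]; rfl)).1 (hr a ha).2 (hr b hb).2
      (hr _ (by rw [quad_add, ha, hb, hab]; rfl)).2)
    (fun u hu => Φ.nondeg hu) hspan (Φ.γ_P hAm hAm) (Φ.γ_P hPe hPe) hee (Φ.γ_P hBm hBm) hB hBA hBe'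
  refine ⟨χ, h1, h2, fun t ht => ?_⟩
  have hq : Φ.γ (C.pr t) (C.pr t) = 0 := by
    rcases eq_or_ne t 1 with rfl | h
    · rw [C.pr_one]; simp
    · obtain ⟨s, q, hq, -, -, e2⟩ := Φ.root_pr ht h
      rw [e2]; exact Φ.γ_P (C.exists_shiftS s hq) (C.exists_shiftS s hq)
  rw [Φ.root_unique ht (hr _ hq).1 (hr _ hq).2.symm]
  exact h3 _ hq

end Ctx.Forms

end Cfsg.Lib.Fischer.Polar
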